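import Groth.Agent.DefT.K693.LHGlobal
import Groth.Agent.Flat2C.Thick

/-!
# The situation attached to cartesian squares

`Geo`: flat families `X'` over `C'`, `X` over `C`, with closed fibre `X₀` over `k`, and a closed subscheme of `X` (ideal
sheaf `I`) with closed fibre `Y₀`.
-/

set_option autoImplicit false

universe u

open CategoryTheory CategoryTheory.Limits AlgebraicGeometry Opposite TopologicalSpace TensorProduct

namespace K693.LHSit

open Groth.Agent.CohqB.HomSheaf K693.ModSec K693.ConFam K693.IdealFam K693.LHAlg Groth.Agent.Fga.Torsor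
open Groth.Agent.Divis.IdealComap

/-- The geometric situation. -/
structure Geo {Y₀ X₀ : Scheme.{u}} (i₀ : Y₀ ⟶ X₀) [IsClosedImmersion i₀] {k : Type u} [CommRing k]
    (f₀ : X₀ ⟶ Spec (CommRingCat.of k)) where
  C' : Type u
  C : Type u
  [r1 : CommRing C']
  [r2 : CommRing C]
  p : C' →+* C
  q : C →+* k
  hp : Function.Surjective p
  hq : Function.Surjective q
  hmJ : RingHom.ker (q.comp p) * RingHom.ker p = ⊥
  hm : IsNilpotent (RingHom.ker (q.comp p))
  X' : Scheme.{u}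
  X : Scheme.{u}
  f' : X' ⟶ Spec (CommRingCat.of C')
  f : X ⟶ Spec (CommRingCat.of C)
  jX : X ⟶ X'
  j₁ : X₀ ⟶ X
  [hf' : Flat f']
  sqX : IsPullback jX f f' (Spec.map (CommRingCat.ofHom p))
  sq₁ : IsPullback j₁ f₀ f (Spec.map (CommRingCat.ofHom q))
  I : X.IdealSheafData
  hI : I.comap j₁ = i₀.ker

section General

theorem ker_app_eq {C D : Type u} [CommRing C] [CommRing D] (p : C →+* D) (hp : Function.Surjective p) {X' X : Scheme.{u}}
    {f' : X' ⟶ Spec (CommRingCat.of C)} {f : X ⟶ Spec (CommRingCat.of D)} {j : X ⟶ X'}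
    (sq : IsPullback j f f' (Spec.map (CommRingCat.ofHom p))) (W : X'.affineOpens) :
    RingHom.ker (j.app W.1).hom = (RingHom.ker p).map (str f' W.1) := by
  have hcl : IsClosedImmersion (Spec.map (CommRingCat.ofHom p)) := IsClosedImmersion.spec_of_surjective _ hp
  obtain ⟨-, h2⟩ := Groth.Agent.Flat2C.Thick.surjective_app_and_ker_app sq (U := ⊤) (isAffineOpen_top _)
    W.2 (by simp)
  have h3 : (Spec.map (CommRingCat.ofHom p)).appTop = (Scheme.ΓSpecIso (CommRingCat.of C)).hom ≫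
      CommRingCat.ofHom p ≫ (Scheme.ΓSpecIso (CommRingCat.of D)).inv := by
    have := Scheme.ΓSpecIso_naturality (CommRingCat.ofHom p)
    rw [← Category.assoc, ← this, Category.assoc, Iso.hom_inv_id, Category.comp_id]
  have h4 : RingHom.ker ((Spec.map (CommRingCat.ofHom p)).app ⊤).hom = RingHom.ker ((Scheme.ΓSpecIso (CommRingCat.of C)).hom ≫
      CommRingCat.ofHom p ≫ (Scheme.ΓSpecIso (CommRingCat.of D)).inv).hom :=
    congrArg (fun g => RingHom.ker g.hom) h3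
  rw [h2, str, CommRingCat.hom_comp, ← Ideal.map_map, h4]
  refine congrArg (Ideal.map _) ?_
  have hinv : ∀ y, (Scheme.ΓSpecIso (CommRingCat.of C)).hom.hom ((Scheme.ΓSpecIso (CommRingCat.of C)).inv.hom y) = y :=
    fun y => congr($((Scheme.ΓSpecIso (CommRingCat.of C)).inv_hom_id).hom y)
  have hinv' : ∀ y, (Scheme.ΓSpecIso (CommRingCat.of C)).inv.hom ((Scheme.ΓSpecIso (CommRingCat.of C)).hom.hom y) = y :=
    fun y => congr($((Scheme.ΓSpecIso (CommRingCat.of C)).hom_inv_id).hom y)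
  apply le_antisymm
  · intro x hx
    have h4 : (Scheme.ΓSpecIso (CommRingCat.of D)).inv.hom (p ((Scheme.ΓSpecIso (CommRingCat.of C)).hom.hom x)) = 0 := hx
    have h5 : p ((Scheme.ΓSpecIso (CommRingCat.of C)).hom.hom x) = 0 := by
      apply (ConcreteCategory.bijective_of_isIso (Scheme.ΓSpecIso (CommRingCat.of D)).inv).1
      exact h4.trans (map_zero _).symm
    rw [← hinv' x]
    exact Ideal.mem_map_of_mem _ h5
  · rw [Ideal.map_le_iff_le_comap]
    intro y hy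
    change (Scheme.ΓSpecIso (CommRingCat.of D)).inv.hom (p ((Scheme.ΓSpecIso (CommRingCat.of C)).hom.hom
      ((Scheme.ΓSpecIso (CommRingCat.of C)).inv.hom y))) = 0
    rw [hinv, (RingHom.mem_ker).1 hy, map_zero]

theorem isClosedImmersion_of_sq {C D : Type u} [CommRing C] [CommRing D] (p : C →+* D) (hp : Function.Surjective p)
    {X' X : Scheme.{u}}
    {f' : X' ⟶ Spec (CommRingCat.of C)} {f : X ⟶ Spec (CommRingCat.of D)} {j : X ⟶ X'}
    (sq : IsPullback j f f' (Spec.map (CommRingCat.ofHom p))) : IsClosedImmersion j := by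
  have hcl : IsClosedImmersion (Spec.map (CommRingCat.ofHom p)) := IsClosedImmersion.spec_of_surjective _ hp
  exact MorphismProperty.of_isPullback (P := @IsClosedImmersion) sq.flip hcl

end General

namespace Geo

attribute [instance] Geo.r1 Geo.r2 Geo.hf'

variable {Y₀ X₀ : Scheme.{u}} {i₀ : Y₀ ⟶ X₀} [IsClosedImmersion i₀] {k : Type u} [CommRing k]
  {f₀ : X₀ ⟶ Spec (CommRingCat.of k)} (G : Geo.{u} i₀ f₀)

instance : IsClosedImmersion G.jX := isClosedImmersion_of_sq G.p G.hp G.sqX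

instance : IsClosedImmersion G.j₁ := isClosedImmersion_of_sq G.q G.hq G.sq₁

theorem sq₀ : IsPullback (G.j₁ ≫ G.jX) f₀ G.f' (Spec.map (CommRingCat.ofHom (G.q.comp G.p))) := by
  have := G.sq₁.paste_horiz G.sqX
  rw [← Spec.map_comp, ← CommRingCat.ofHom_comp] at this
  exact this

theorem ideal_map (W : G.X'.affineOpens) : (G.I.map G.jX).ideal W =
    (G.I.ideal ⟨G.jX ⁻¹ᵁ W.1, W.2.preimage G.jX⟩).comap (G.jX.app W.1).hom :=
  Scheme.IdealSheafData.ideal_map_of_isAffineHom _ _ _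

theorem ideal_comap₁ (V : G.X.affineOpens) : i₀.ker.ideal ⟨G.j₁ ⁻¹ᵁ V.1, V.2.preimage G.j₁⟩ =
    (G.I.ideal V).map (G.j₁.app V.1).hom := by
  rw [← G.hI, ideal_comap G.I G.j₁ V ⟨G.j₁ ⁻¹ᵁ V.1, V.2.preimage G.j₁⟩ le_rfl, Scheme.Hom.app_eq_appLE]

/-- The attached situation. -/
noncomputable def sit : Sit.{u} i₀ where
  C' := G.C'
  m := RingHom.ker (G.q.comp G.p)
  J := RingHom.ker G.p
  hJm := by
    intro x hx
    rw [RingHom.mem_ker, RingHom.comp_apply, (RingHom.mem_ker).1 hx, map_zero]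
  hmJ := G.hmJ
  hm := G.hm
  X' := G.X'
  j₀ := G.j₁ ≫ G.jX
  f' := G.f'
  ker_j₀ W := ker_app_eq (G.q.comp G.p) (G.hq.comp G.hp) G.sq₀ W
  B := G.I.map G.jX
  hB W := by
    rw [G.ideal_map]
    have h1 : (RingHom.ker (G.q.comp G.p)).map (str G.f' W.1) = RingHom.ker ((G.j₁ ≫ G.jX).app W.1).hom :=
      (ker_app_eq (G.q.comp G.p) (G.hq.comp G.hp) G.sq₀ W).symm
    rw [h1]
    have h2 := G.ideal_comap₁ ⟨G.jX ⁻¹ᵁ W.1, W.2.preimage G.jX⟩
    rw [Scheme.Hom.ker_apply] at h2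
    have hs1 : Function.Surjective (G.jX.app W.1).hom := G.jX.app_surjective _ W.2
    have hs2 : Function.Surjective (G.j₁.app (G.jX ⁻¹ᵁ W.1)).hom := G.j₁.app_surjective _ (W.2.preimage G.jX)
    apply le_antisymm
    · refine sup_le ?_ ?_
      · intro x hx
        have h3 : (G.j₁.app (G.jX ⁻¹ᵁ W.1)).hom ((G.jX.app W.1).hom x) ∈
            RingHom.ker (i₀.app (G.j₁ ⁻¹ᵁ G.jX ⁻¹ᵁ W.1)).hom := by
          rw [h2]
          exact Ideal.mem_map_of_mem _ hx
        exact h3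
      · intro x hx
        have h3 : ((G.j₁ ≫ G.jX).app W.1).hom x = 0 := hx
        change i₀.app _ (((G.j₁ ≫ G.jX).app W.1).hom x) = 0
        rw [h3, map_zero]
    · intro x hx
      have h3 : (G.j₁.app (G.jX ⁻¹ᵁ W.1)).hom ((G.jX.app W.1).hom x) ∈
            RingHom.ker (i₀.app (G.j₁ ⁻¹ᵁ G.jX ⁻¹ᵁ W.1)).hom := hx
      rw [h2, Ideal.mem_map_iff_of_surjective _ hs2] at h3
      obtain ⟨y, hy, hy'⟩ := h3
      obtain ⟨z, rfl⟩ := hs1 y
      have h4 : x = z + (x - z) := by ring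
      rw [h4]
      refine add_mem (Submodule.mem_sup_left hy) (Submodule.mem_sup_right ?_)
      change ((G.j₁ ≫ G.jX).app W.1).hom (x - z) = 0
      rw [map_sub, sub_eq_zero]
      exact hy'.symm

theorem isLift_iff (W : G.X'.affineOpens) (b : Ideal Γ(G.X', W.1)) :
    G.sit.IsLift W b ↔ ((Ideal.Quotient.mk b).comp (str G.f' W.1)).Flat ∧
      b.map (G.jX.app W.1).hom = G.I.ideal ⟨G.jX ⁻¹ᵁ W.1, W.2.preimage G.jX⟩ := by
  have hs1 : Function.Surjective (G.jX.app W.1).hom := G.jX.app_surjective _ W.2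
  have h1 : (JR G.sit.J : Ideal Γ(G.sit.X', W.1)) = RingHom.ker (G.jX.app W.1).hom :=
    (ker_app_eq G.p G.hp G.sqX W).symm
  have h2 : G.sit.B.ideal W = (G.I.ideal ⟨G.jX ⁻¹ᵁ W.1, W.2.preimage G.jX⟩).comap (G.jX.app W.1).hom := G.ideal_map W
  have h3 : b ⊔ RingHom.ker (G.jX.app W.1).hom = (b.map (G.jX.app W.1).hom).comap (G.jX.app W.1).hom := by
    rw [Ideal.comap_map_of_surjective' _ hs1]
  constructor
  · rintro ⟨h4, h5⟩
    refine ⟨(Sit.flat_iff (S := G.sit) b).2 h4, ?_⟩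
    have h6 : b ⊔ RingHom.ker (G.jX.app W.1).hom =
        (G.I.ideal ⟨G.jX ⁻¹ᵁ W.1, W.2.preimage G.jX⟩).comap (G.jX.app W.1).hom :=
      (congrArg (fun x => b ⊔ x) h1.symm).trans (h5.trans h2)
    exact Ideal.comap_injective_of_surjective _ hs1 (h3.symm.trans h6)
  · rintro ⟨h4, h5⟩
    refine ⟨(Sit.flat_iff (S := G.sit) b).1 h4, ?_⟩
    exact (congrArg (fun x => b ⊔ x) h1).trans ((h3.trans (congrArg _ h5)).trans h2.symm)

/-- Global lifts. -/
theorem forall_isLift_iff (K : G.X'.IdealSheafData) :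
    (∀ W, G.sit.IsLift W (K.ideal W)) ↔ Flat (K.subschemeι ≫ G.f') ∧ K.comap G.jX = G.I := by
  constructor
  · intro h
    refine ⟨flat_of_cover G.f' K fun x => ?_, ?_⟩
    · obtain ⟨W, hW, hx, -⟩ := exists_isAffineOpen_mem_and_subset (U := (⊤ : G.X'.Opens)) (x := x) trivial
      exact ⟨⟨W, hW⟩, hx, ((G.isLift_iff ⟨W, hW⟩ _).1 (h ⟨W, hW⟩)).1⟩
    · refine ext_of_forall_mem fun x => ?_
      obtain ⟨W, hW, hx, -⟩ := exists_isAffineOpen_mem_and_subset (U := (⊤ : G.X'.Opens)) (x := G.jX x) trivial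
      refine ⟨⟨G.jX ⁻¹ᵁ W, hW.preimage G.jX⟩, hx, ?_⟩
      rw [ideal_comap K G.jX ⟨W, hW⟩ ⟨G.jX ⁻¹ᵁ W, hW.preimage G.jX⟩ le_rfl, ← Scheme.Hom.app_eq_appLE]
      exact ((G.isLift_iff ⟨W, hW⟩ _).1 (h ⟨W, hW⟩)).2
  · rintro ⟨h1, h2⟩ (W : G.X'.affineOpens)
    refine (G.isLift_iff W _).2 ⟨flat_quot_of_flat G.f' K h1 W, ?_⟩
    rw [← h2, ideal_comap K G.jX W ⟨G.jX ⁻¹ᵁ W.1, W.2.preimage G.jX⟩ le_rfl, Scheme.Hom.app_eq_appLE]

end Geo

end K693.LHSit
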