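import Groth.Agent.DefT.K693.ModSec
import Groth.Agent.Dual.H366.ConSec

/-!
# Sections of the internal Hom out of the conormal sheaf, from families over affine opens of a thickening

`i₀ : Y₀ ⟶ X₀`, `j₀ : X₀ ⟶ X'` closed immersions.

* `rho i₀ j₀ W : Γ(X', W) →+* Γ(Y₀, i₀⁻¹ j₀⁻¹ W)`;
* `cl i₀ j₀ W x`: the class in the conormal sheaf of `i₀` of a function `x` on `W` vanishing on `Y₀`;
* `exists_sec_con`, `sec_ext_con`: sections over `U` of `homSheaf (conormal i₀) G` from compatible families of linear maps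
  `ker (rho W) → Γ(G, i₀⁻¹ j₀⁻¹ W)`, `W ≤ U` affine.
-/

set_option autoImplicit false

universe u

open CategoryTheory AlgebraicGeometry Opposite TopologicalSpace

namespace K693.ConFam

open Groth.Agent.CohqB.HomSheaf K693.ModSec Groth.Agent.Dual.H366.ConSec
open Groth.Agent.Sga67.Sec (Sec resO resO_resO resO_self)

variable {Y₀ X₀ X' : Scheme.{u}} (i₀ : Y₀ ⟶ X₀) (j₀ : X₀ ⟶ X')

/-- Restriction of functions to `Y₀`. -/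
noncomputable def rho (W : X'.Opens) : Γ(X', W) →+* Γ(Y₀, i₀ ⁻¹ᵁ j₀ ⁻¹ᵁ W) :=
  (i₀.app (j₀ ⁻¹ᵁ W)).hom.comp (j₀.app W).hom

theorem rho_apply (W : X'.Opens) (x : Γ(X', W)) : rho i₀ j₀ W x = i₀.app (j₀ ⁻¹ᵁ W) (j₀.app W x) := rfl

/-- Restriction of functions. -/
noncomputable abbrev ro (X : Scheme.{u}) {V W : X.Opens} (h : W ≤ V) : Γ(X, V) →+* Γ(X, W) :=
  (X.presheaf.map (homOfLE h).op).hom

theorem app_ro {X Z : Scheme.{u}} (f : X ⟶ Z) {V W : Z.Opens} (h : W ≤ V) (x : Γ(Z, V)) :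
    f.app W (ro Z h x) = ro X (f.preimage_mono h) (f.app V x) := by
  have := f.naturality (homOfLE h).op
  exact congr(($this).hom x)

theorem rho_ro {V W : X'.Opens} (h : W ≤ V) (x : Γ(X', V)) :
    rho i₀ j₀ W (ro X' h x) = ro Y₀ (i₀.preimage_mono (j₀.preimage_mono h)) (rho i₀ j₀ V x) := by
  rw [rho_apply, rho_apply, app_ro, app_ro]

open Classical in
/-- The class in the conormal sheaf of `i₀` of a function vanishing on `Y₀`. -/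
noncomputable def cl (W : X'.Opens) (x : Γ(X', W)) : Γ(Omega.conormal i₀, i₀ ⁻¹ᵁ j₀ ⁻¹ᵁ W) :=
  if h : ∃ c : Sec (ClSub.idealMod i₀.ker) (j₀ ⁻¹ᵁ W), valS i₀ (j₀ ⁻¹ᵁ W) c = j₀.app W x then cS i₀ (j₀ ⁻¹ᵁ W) h.choose
  else 0

theorem cl_eq {W : X'.Opens} {x : Γ(X', W)} {c : Sec (ClSub.idealMod i₀.ker) (j₀ ⁻¹ᵁ W)}
    (h : valS i₀ (j₀ ⁻¹ᵁ W) c = j₀.app W x) : cl i₀ j₀ W x = cS i₀ (j₀ ⁻¹ᵁ W) c := by
  have h' : ∃ c : Sec (ClSub.idealMod i₀.ker) (j₀ ⁻¹ᵁ W), valS i₀ (j₀ ⁻¹ᵁ W) c = j₀.app W x := ⟨c, h⟩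
  rw [cl, dif_pos h']
  congr 1
  exact valS_injective i₀ _ (h'.choose_spec.trans h.symm)

section

variable [QuasiCompact i₀]

theorem exists_val {W : X'.Opens} {x : Γ(X', W)} (hx : rho i₀ j₀ W x = 0) :
    ∃ c : Sec (ClSub.idealMod i₀.ker) (j₀ ⁻¹ᵁ W), valS i₀ (j₀ ⁻¹ᵁ W) c = j₀.app W x :=
  (app_eq_zero_iffS i₀ (j₀ ⁻¹ᵁ W) _).1 hx

theorem cl_add {W : X'.Opens} {x y : Γ(X', W)} (hx : rho i₀ j₀ W x = 0) (hy : rho i₀ j₀ W y = 0) :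
    cl i₀ j₀ W (x + y) = cl i₀ j₀ W x + cl i₀ j₀ W y := by
  obtain ⟨c, hc⟩ := exists_val i₀ j₀ hx
  obtain ⟨d, hd⟩ := exists_val i₀ j₀ hy
  rw [cl_eq i₀ j₀ hc, cl_eq i₀ j₀ hd, cl_eq i₀ j₀ (c := c + d) (by rw [map_add, hc, hd, map_add]), map_add]
  rfl

theorem cl_mul {W : X'.Opens} (r : Γ(X', W)) {x : Γ(X', W)} (hx : rho i₀ j₀ W x = 0) :
    cl i₀ j₀ W (r * x) = rho i₀ j₀ W r • cl i₀ j₀ W x := by
  obtain ⟨c, hc⟩ := exists_val i₀ j₀ hx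
  rw [cl_eq i₀ j₀ hc, cl_eq i₀ j₀ (c := (j₀.app W r) • c) (by rw [map_smul, hc, map_mul]; rfl)]
  exact secS_smul i₀ _ _ _ _

omit [QuasiCompact i₀] in
theorem cl_zero {W : X'.Opens} {x : Γ(X', W)} (hx : j₀.app W x = 0) : cl i₀ j₀ W x = 0 := by
  rw [cl_eq i₀ j₀ (c := 0) (by rw [map_zero, hx]), map_zero]
  rfl

theorem cl_ro {V W : X'.Opens} (h : W ≤ V) {x : Γ(X', V)} (hx : rho i₀ j₀ V x = 0) :
    cl i₀ j₀ W (ro X' h x) = rs (Omega.conormal i₀) (i₀.preimage_mono (j₀.preimage_mono h)) (cl i₀ j₀ V x) := by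
  obtain ⟨c, hc⟩ := exists_val i₀ j₀ hx
  rw [cl_eq i₀ j₀ hc, cl_eq i₀ j₀ (c := Groth.Agent.Sga67.Sec.res _ (j₀.preimage_mono h) c)
    (by rw [valS_res, hc, app_ro]; rfl)]
  exact secS_res i₀ _ _ _

end

section Affine

variable [IsClosedImmersion i₀] [IsClosedImmersion j₀] {W : X'.Opens} (hW : IsAffineOpen W)

/-- Induction on sections of the conormal sheaf. -/
theorem con_induction (hW : IsAffineOpen W) {P : Sec (Omega.conormal i₀) (i₀ ⁻¹ᵁ j₀ ⁻¹ᵁ W) → Prop}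
    (hadd : ∀ m m', P m → P m' → P (m + m')) (hsmul : ∀ (r : Γ(Y₀, i₀ ⁻¹ᵁ j₀ ⁻¹ᵁ W)) m, P m → P (r • m))
    (hcl : ∀ x, rho i₀ j₀ W x = 0 → P (cl i₀ j₀ W x)) (m) : P m := by
  have hV : IsAffineOpen (j₀ ⁻¹ᵁ W) := hW.preimage j₀
  have hU : IsAffineOpen (i₀ ⁻¹ᵁ j₀ ⁻¹ᵁ W) := hV.preimage i₀
  let := algS i₀ (j₀ ⁻¹ᵁ W)
  let := modS i₀ ((Scheme.Modules.pullback i₀).obj (ClSub.idealMod i₀.ker)) (j₀ ⁻¹ᵁ W)
  have := tower i₀ ((Scheme.Modules.pullback i₀).obj (ClSub.idealMod i₀.ker)) (j₀ ⁻¹ᵁ W)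
  have h := isBaseChange_secS i₀ (ClSub.idealMod i₀.ker) (Groth.Agent.PerfA.IdealModule.isQCoh_idealMod _) hV hU
  refine h.inductionOn m (motive := P) ?_ ?_ hsmul hadd
  · have := hcl 0 (map_zero _)
    rwa [cl_zero i₀ j₀ (map_zero _)] at this
  · intro c
    obtain ⟨x, hx⟩ := j₀.app_surjective W hW (valS i₀ (j₀ ⁻¹ᵁ W) c)
    have h1 : rho i₀ j₀ W x = 0 := by
      rw [rho_apply, hx]
      exact (app_eq_zero_iffS i₀ (j₀ ⁻¹ᵁ W) _).2 ⟨c, rfl⟩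
    have := hcl x h1
    rwa [cl_eq i₀ j₀ hx.symm] at this

/-- Linear maps out of the sections of the conormal sheaf. -/
theorem exists_lin (hW : IsAffineOpen W) {G : Y₀.Modules} (ψ : Γ(X', W) → Sec G (i₀ ⁻¹ᵁ j₀ ⁻¹ᵁ W))
    (hadd : ∀ x y, rho i₀ j₀ W x = 0 → rho i₀ j₀ W y = 0 → ψ (x + y) = ψ x + ψ y)
    (hmul : ∀ r x, rho i₀ j₀ W x = 0 → ψ (r * x) = rho i₀ j₀ W r • ψ x)
    (hzero : ∀ x, j₀.app W x = 0 → ψ x = 0) :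
    ∃ L : Sec (Omega.conormal i₀) (i₀ ⁻¹ᵁ j₀ ⁻¹ᵁ W) →ₗ[Γ(Y₀, i₀ ⁻¹ᵁ j₀ ⁻¹ᵁ W)] Sec G (i₀ ⁻¹ᵁ j₀ ⁻¹ᵁ W),
      ∀ x, rho i₀ j₀ W x = 0 → L (cl i₀ j₀ W x) = ψ x := by
  have hV : IsAffineOpen (j₀ ⁻¹ᵁ W) := hW.preimage j₀
  have hU : IsAffineOpen (i₀ ⁻¹ᵁ j₀ ⁻¹ᵁ W) := hV.preimage i₀
  let := algS i₀ (j₀ ⁻¹ᵁ W)
  let := modS i₀ ((Scheme.Modules.pullback i₀).obj (ClSub.idealMod i₀.ker)) (j₀ ⁻¹ᵁ W)
  have := tower i₀ ((Scheme.Modules.pullback i₀).obj (ClSub.idealMod i₀.ker)) (j₀ ⁻¹ᵁ W)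
  let := modS i₀ G (j₀ ⁻¹ᵁ W)
  have := tower i₀ G (j₀ ⁻¹ᵁ W)
  have h := isBaseChange_secS i₀ (ClSub.idealMod i₀.ker) (Groth.Agent.PerfA.IdealModule.isQCoh_idealMod _) hV hU
  choose lft hlft using fun c => j₀.app_surjective W hW (valS i₀ (j₀ ⁻¹ᵁ W) c)
  have hl : ∀ c, rho i₀ j₀ W (lft c) = 0 := by
    intro c
    rw [rho_apply, hlft]
    exact (app_eq_zero_iffS i₀ (j₀ ⁻¹ᵁ W) _).2 ⟨c, rfl⟩
  have hwd : ∀ c x, j₀.app W x = valS i₀ (j₀ ⁻¹ᵁ W) c → ψ (lft c) = ψ x := by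
    intro c x hx
    have h1 : j₀.app W (lft c - x) = 0 := by rw [map_sub, hlft, hx, sub_self]
    have h2 : lft c = x + (lft c - x) := by ring
    have h3 : rho i₀ j₀ W x = 0 := by
      rw [rho_apply, hx]
      exact (app_eq_zero_iffS i₀ (j₀ ⁻¹ᵁ W) _).2 ⟨c, rfl⟩
    have h4 : rho i₀ j₀ W (lft c - x) = 0 := by
      rw [rho_apply, h1, map_zero]
    rw [h2, hadd _ _ h3 h4, hzero _ h1, add_zero]
  let g : Sec (ClSub.idealMod i₀.ker) (j₀ ⁻¹ᵁ W) →ₗ[Γ(X₀, j₀ ⁻¹ᵁ W)] Sec G (i₀ ⁻¹ᵁ j₀ ⁻¹ᵁ W) :=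
    { toFun := fun c => ψ (lft c)
      map_add' := fun c d => by
        rw [hwd (c + d) (lft c + lft d) (by rw [map_add, map_add, hlft, hlft]), hadd _ _ (hl c) (hl d)]
      map_smul' := fun r c => by
        obtain ⟨s, hs⟩ := j₀.app_surjective W hW r
        rw [hwd (r • c) (s * lft c) (by rw [map_mul, hs, hlft, map_smul]; rfl), hmul _ _ (hl c)]
        rw [rho_apply, hs]
        change i₀.app (j₀ ⁻¹ᵁ W) r • ψ (lft c) = i₀.appLE (j₀ ⁻¹ᵁ W) _ le_rfl r • ψ (lft c)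
        rw [Scheme.Hom.app_eq_appLE] }
  refine ⟨h.lift g, fun x hx => ?_⟩
  obtain ⟨c, hc⟩ := exists_val i₀ j₀ hx
  rw [cl_eq i₀ j₀ hc]
  exact (h.lift_eq g c).trans (hwd c x hc.symm)

variable {V : X₀.Opens}

theorem exists_sec_con {G : Y₀.Modules} (ψ : ∀ a : AffIn j₀ V, Γ(X', a.1.1) → Γ(G, i₀ ⁻¹ᵁ j₀ ⁻¹ᵁ a.1.1))
    (hadd : ∀ a x y, rho i₀ j₀ a.1.1 x = 0 → rho i₀ j₀ a.1.1 y = 0 → ψ a (x + y) = ψ a x + ψ a y)
    (hmul : ∀ a r x, rho i₀ j₀ a.1.1 x = 0 → ψ a (r * x) = rho i₀ j₀ a.1.1 r • ψ a x)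
    (hzero : ∀ a x, j₀.app a.1.1 x = 0 → ψ a x = 0)
    (hres : ∀ (a b : AffIn j₀ V) (h : b.1.1 ≤ a.1.1) x, rho i₀ j₀ a.1.1 x = 0 →
      ψ b (ro X' h x) = rs G (i₀.preimage_mono (j₀.preimage_mono h)) (ψ a x)) :
    ∃ s : Γ(homSheaf (Omega.conormal i₀) G, i₀ ⁻¹ᵁ V), ∀ (a : AffIn j₀ V) x, rho i₀ j₀ a.1.1 x = 0 →
      comp s (i₀ ⁻¹ᵁ j₀ ⁻¹ᵁ a.1.1) (i₀.preimage_mono a.2) (cl i₀ j₀ a.1.1 x) = ψ a x := by
  choose L hL using fun a : AffIn j₀ V => exists_lin i₀ j₀ a.1.2 (G := G) (ψ a) (hadd a) (hmul a) (hzero a)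
  have key : ∀ (a b : AffIn j₀ V) (h : b.1.1 ≤ a.1.1) (m : Sec (Omega.conormal i₀) (i₀ ⁻¹ᵁ j₀ ⁻¹ᵁ a.1.1)),
      L b (rs (Omega.conormal i₀) (i₀.preimage_mono (j₀.preimage_mono h)) m) =
      rs G (i₀.preimage_mono (j₀.preimage_mono h)) (L a m) := by
    intro a b h m
    refine con_induction i₀ j₀ a.1.2 (P := fun m => L b (rs (Omega.conormal i₀) (i₀.preimage_mono (j₀.preimage_mono h)) m) =
      rs G (i₀.preimage_mono (j₀.preimage_mono h)) (L a m)) ?_ ?_ ?_ m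
    · intro m m' h1 h2
      have e1 := rs_add (Omega.conormal i₀) (i₀.preimage_mono (j₀.preimage_mono h)) m m'
      have e2 := rs_add G (i₀.preimage_mono (j₀.preimage_mono h)) (L a m) (L a m')
      refine (congrArg (L b) e1).trans ?_
      refine (map_add (L b) _ _).trans ?_
      rw [h1, h2, map_add]
      exact e2.symm
    · intro r m h1
      have e1 := rs_smul (Omega.conormal i₀) (i₀.preimage_mono (j₀.preimage_mono h)) r m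
      have e2 := rs_smul G (i₀.preimage_mono (j₀.preimage_mono h)) r (L a m)
      refine (congrArg (L b) e1).trans ?_
      refine (map_smul (L b) _ _).trans ?_
      rw [h1, map_smul]
      exact e2.symm
    · intro x hx
      have hx' : rho i₀ j₀ b.1.1 (ro X' h x) = 0 := by rw [rho_ro, hx, map_zero]
      have e1 := cl_ro i₀ j₀ h hx
      refine (congrArg (L b) e1.symm).trans ?_
      rw [hL b _ hx', hL a _ hx]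
      exact hres a b h x hx
  obtain ⟨s, hs⟩ := exists_sec_preimage i₀ j₀ (F := Omega.conormal i₀) (G := G) (V := V)
    (fun a m => L a m) (fun a m m' => map_add (L a) m m')
    (fun a r m => LinearMap.map_smul (L a) r m) key
  refine ⟨s, fun a x hx => ?_⟩
  rw [← hL a x hx]
  exact hs a _

theorem sec_ext_con' {G : Y₀.Modules} {T : X'.Opens} (hT : i₀ ⁻¹ᵁ V ≤ i₀ ⁻¹ᵁ j₀ ⁻¹ᵁ T)
    {s s' : Γ(homSheaf (Omega.conormal i₀) G, i₀ ⁻¹ᵁ V)}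
    (h : ∀ (a : AffIn j₀ V) (_ : a.1.1 ≤ T) x, rho i₀ j₀ a.1.1 x = 0 →
      comp s (i₀ ⁻¹ᵁ j₀ ⁻¹ᵁ a.1.1) (i₀.preimage_mono a.2) (cl i₀ j₀ a.1.1 x) =
      comp s' (i₀ ⁻¹ᵁ j₀ ⁻¹ᵁ a.1.1) (i₀.preimage_mono a.2) (cl i₀ j₀ a.1.1 x)) : s = s' := by
  refine sec_ext_preimage' i₀ j₀ (F := Omega.conormal i₀) (G := G) (V := V) (T := T) hT fun a ha m => ?_
  refine con_induction i₀ j₀ a.1.2 (P := fun m =>
    comp s (i₀ ⁻¹ᵁ j₀ ⁻¹ᵁ a.1.1) (i₀.preimage_mono a.2) m = comp s' (i₀ ⁻¹ᵁ j₀ ⁻¹ᵁ a.1.1) (i₀.preimage_mono a.2) m)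
    ?_ ?_ (h a ha) m
  · intro m m' h1 h2
    exact (map_add _ _ _).trans ((congrArg₂ _ h1 h2).trans (map_add _ _ _).symm)
  · intro r m h1
    exact (map_smul _ _ _).trans ((congrArg _ h1).trans (map_smul _ _ _).symm)

theorem sec_ext_con {G : Y₀.Modules} {s s' : Γ(homSheaf (Omega.conormal i₀) G, i₀ ⁻¹ᵁ V)}
    (h : ∀ (a : AffIn j₀ V) x, rho i₀ j₀ a.1.1 x = 0 →
      comp s (i₀ ⁻¹ᵁ j₀ ⁻¹ᵁ a.1.1) (i₀.preimage_mono a.2) (cl i₀ j₀ a.1.1 x) =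
      comp s' (i₀ ⁻¹ᵁ j₀ ⁻¹ᵁ a.1.1) (i₀.preimage_mono a.2) (cl i₀ j₀ a.1.1 x)) : s = s' :=
  sec_ext_con' i₀ j₀ (T := ⊤) le_top fun a _ => h a

end Affine

end K693.ConFam
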