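import Groth.Agent.Picfga.IdealGlue
import Groth.Agent.DefT.K693.ConFam
import Mathlib.AlgebraicGeometry.Morphisms.Flat

/-!
# Ideal sheaves from families of ideals on affine opens; flatness of closed subschemes

* `exists_of_family`: compatible ideals on the members of an affine open cover glue to an ideal sheaf.
* `flat_iff`: flatness over `Spec C'` of the closed subscheme with ideal sheaf `I` in terms of `Γ(X', W) ⧸ I(W)`.
-/

set_option autoImplicit false

universe u

open CategoryTheory CategoryTheory.Limits AlgebraicGeometry Opposite TopologicalSpace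

namespace K693.IdealFam

open K693.ConFam Groth.Agent.Picfga.IdealGlue Groth.Agent.Divis.IdealComap

variable {Y : Scheme.{u}}

/-- Compatible ideals on the members of an affine open cover glue to an ideal sheaf. -/
theorem exists_of_family {A : Type u} (W : A → Y.affineOpens) (hW : ∀ y : Y, ∃ a, y ∈ (W a).1)
    (t : ∀ a, Ideal Γ(Y, (W a).1))
    (ht : ∀ (a b : A) (V : Y.affineOpens) (ha : V.1 ≤ (W a).1) (hb : V.1 ≤ (W b).1),
      (t a).map (ro Y ha) = (t b).map (ro Y hb)) :
    ∃ I : Y.IdealSheafData, ∀ a, I.ideal (W a) = t a := by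
  have haff : ∀ a, IsAffine (W a).1.toScheme := fun a => (W a).2
  let I : ∀ a, (W a).1.toScheme.IdealSheafData := fun a =>
    Scheme.IdealSheafData.ofIdealTop ((t a).map (phi (W a)).hom)
  have hI : ∀ a (P : Scheme.{u}) (p : P ⟶ (W a).1.toScheme) (V : P.affineOpens),
      ((I a).comap p).ideal V = (t a).map ((p ≫ (W a).1.ι).appLE (W a).1 V.1 (by
        rw [Scheme.Hom.comp_preimage, Scheme.Opens.ι_preimage_self]; exact le_top)).hom := by
    intro a P p V
    rw [ideal_comap (I a) p ⟨⊤, isAffineOpen_top _⟩ V le_top]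
    have h1 : (I a).ideal ⟨⊤, isAffineOpen_top _⟩ = (t a).map (phi (W a)).hom := by
      simp [I]
      exact Ideal.map_id _
    rw [h1, Ideal.map_map, ← CommRingCat.hom_comp, phi, Scheme.Hom.appLE_comp_appLE]
  obtain ⟨J, hJ, -⟩ := exists_unique_glue_family (Y := Y) (fun a => (W a).1.toScheme) (fun a => (W a).1.ι) (fun y => by
    obtain ⟨a, ha⟩ := hW y
    exact ⟨a, ⟨y, ha⟩, rfl⟩) I (by
    intro a b
    refine ext_of_forall_mem fun z => ?_
    obtain ⟨V', hV', hz, -⟩ := exists_isAffineOpen_mem_and_subset (U := (⊤ : (pullback (W a).1.ι (W b).1.ι).Opens)) (x := z) trivial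
    refine ⟨⟨V', hV'⟩, hz, ?_⟩
    rw [hI, hI]
    let q := pullback.fst (W a).1.ι (W b).1.ι ≫ (W a).1.ι
    have hq : pullback.snd (W a).1.ι (W b).1.ι ≫ (W b).1.ι = q := pullback.condition.symm
    have hopen : IsOpenImmersion q := inferInstance
    let V : Y.affineOpens := ⟨q ''ᵁ V', hV'.image_of_isOpenImmersion q⟩
    have ha : V.1 ≤ (W a).1 := by
      rintro _ ⟨x, hx, rfl⟩
      exact (pullback.fst (W a).1.ι (W b).1.ι x).2
    have hb : V.1 ≤ (W b).1 := by
      rintro _ ⟨x, hx, rfl⟩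
      have : q x = (W b).1.ι (pullback.snd (W a).1.ι (W b).1.ι x) := by rw [← hq]; rfl
      change q x ∈ (W b).1
      rw [this]
      exact (pullback.snd (W a).1.ι (W b).1.ι x).2
    have hV : V' ≤ q ⁻¹ᵁ V.1 := fun x hx => ⟨x, hx, rfl⟩
    have e1 : ∀ (c : A) (hc : V.1 ≤ (W c).1) (q' : pullback (W a).1.ι (W b).1.ι ⟶ Y) (hq' : q' = q)
        (h : V' ≤ q' ⁻¹ᵁ (W c).1),
        (t c).map (q'.appLE (W c).1 V' h).hom = ((t c).map (ro Y hc)).map (q.appLE V.1 V' hV).hom := by
      intro c hc q' hq' h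
      subst hq'
      rw [Ideal.map_map, ro, ← CommRingCat.hom_comp, Scheme.Hom.map_appLE]
    exact (e1 a ha q rfl _).trans ((congrArg _ (ht a b V ha hb)).trans (e1 b hb _ hq _).symm))
  refine ⟨J, fun a => ?_⟩
  have h1 := congrArg (fun K => K.ideal ⟨⊤, isAffineOpen_top _⟩) (hJ a)
  simp only at h1
  rw [ideal_comap J (W a).1.ι (W a) ⟨⊤, isAffineOpen_top _⟩ (by simp)] at h1
  have h2 : (I a).ideal ⟨⊤, isAffineOpen_top _⟩ = (t a).map (phi (W a)).hom := by
    simp [I]
    exact Ideal.map_id _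
  rw [h2] at h1
  exact map_injective_of_isIso (phi (W a)) h1

section Str

variable {C' : Type u} [CommRing C'] {X' : Scheme.{u}} (f' : X' ⟶ Spec (CommRingCat.of C'))

/-- The structure map `C' → Γ(X', W)` of a scheme over `Spec C'`. -/
noncomputable def str (W : X'.Opens) : C' →+* Γ(X', W) :=
  ((Scheme.ΓSpecIso (CommRingCat.of C')).inv ≫ f'.appLE ⊤ W le_top).hom

theorem ro_str {V W : X'.Opens} (h : W ≤ V) (c : C') : ro X' h (str f' V c) = str f' W c := by
  change (((Scheme.ΓSpecIso (CommRingCat.of C')).inv ≫ f'.appLE ⊤ V le_top) ≫ X'.presheaf.map (homOfLE h).op).hom c = _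
  rw [Category.assoc, Scheme.Hom.appLE_map]
  rfl

theorem flat_str [Flat f'] (W : X'.affineOpens) : (str f' W.1).Flat := by
  have h1 : (f'.appLE ⊤ W.1 le_top).hom.Flat :=
    HasRingHomProperty.appLE (P := @Flat) f' inferInstance ⟨⊤, isAffineOpen_top _⟩ W le_top
  have h2 : (Scheme.ΓSpecIso (CommRingCat.of C')).inv.hom.Flat :=
    RingHom.Flat.of_bijective (ConcreteCategory.bijective_of_isIso (Scheme.ΓSpecIso (CommRingCat.of C')).inv)
  exact RingHom.Flat.comp h2 h1

theorem flat_appLE_iff (W : X'.Opens) : (f'.appLE ⊤ W le_top).hom.Flat ↔ (str f' W).Flat := by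
  have h2 : (Scheme.ΓSpecIso (CommRingCat.of C')).inv.hom.Flat :=
    RingHom.Flat.of_bijective (ConcreteCategory.bijective_of_isIso (Scheme.ΓSpecIso (CommRingCat.of C')).inv)
  have h3 : (Scheme.ΓSpecIso (CommRingCat.of C')).hom.hom.Flat :=
    RingHom.Flat.of_bijective (ConcreteCategory.bijective_of_isIso (Scheme.ΓSpecIso (CommRingCat.of C')).hom)
  refine ⟨fun h => RingHom.Flat.comp h2 h, fun h => ?_⟩
  have h4 := RingHom.Flat.comp h3 h
  have h5 : (str f' W).comp (Scheme.ΓSpecIso (CommRingCat.of C')).hom.hom = (f'.appLE ⊤ W le_top).hom := by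
    rw [str, ← CommRingCat.hom_comp, Iso.hom_inv_id_assoc]
  rw [h5] at h4
  exact h4

variable (I : X'.IdealSheafData)

theorem flat_sub_iff (W : X'.affineOpens) :
    (str (I.subschemeι ≫ f') (I.subschemeι ⁻¹ᵁ W.1)).Flat ↔
      ((Ideal.Quotient.mk (I.ideal W)).comp (str f' W.1)).Flat := by
  have h1 : str (I.subschemeι ≫ f') (I.subschemeι ⁻¹ᵁ W.1) = (I.subschemeι.app W.1).hom.comp (str f' W.1) := by
    rw [str, str, ← CommRingCat.hom_comp, Category.assoc, Scheme.Hom.app_eq_appLE, Scheme.Hom.appLE_comp_appLE]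
  have hs : Function.Surjective (I.subschemeι.app W.1).hom := I.subschemeι_app_surjective W
  have hk : RingHom.ker (I.subschemeι.app W.1).hom = I.ideal W := I.ker_subschemeι_app W
  let e : Γ(X', W.1) ⧸ I.ideal W ≃+* Γ(I.subscheme, I.subschemeι ⁻¹ᵁ W.1) :=
    (Ideal.quotEquivOfEq hk.symm).trans (RingHom.quotientKerEquivOfSurjective hs)
  have he : (e : _ →+* _).comp (Ideal.Quotient.mk (I.ideal W)) = (I.subschemeι.app W.1).hom := by
    ext x
    rfl
  have he' : ((e.symm : _ ≃+* _) : _ →+* _).comp (I.subschemeι.app W.1).hom = Ideal.Quotient.mk (I.ideal W) := by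
    rw [← he, ← RingHom.comp_assoc]
    simp
  have hfe : RingHom.Flat (e : Γ(X', W.1) ⧸ I.ideal W →+* Γ(I.subscheme, I.subschemeι ⁻¹ᵁ W.1)) := by
    apply RingHom.Flat.of_bijective
    exact e.bijective
  have hfe' : RingHom.Flat (e.symm : Γ(I.subscheme, I.subschemeι ⁻¹ᵁ W.1) →+* Γ(X', W.1) ⧸ I.ideal W) := by
    apply RingHom.Flat.of_bijective
    exact e.symm.bijective
  rw [h1]
  constructor
  · intro h
    have := RingHom.Flat.comp h hfe'
    rwa [← RingHom.comp_assoc, he'] at this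
  · intro h
    have := RingHom.Flat.comp h hfe
    rwa [← RingHom.comp_assoc, he] at this

/-- Flatness of the closed subscheme gives flatness of the quotients. -/
theorem flat_quot_of_flat (h : Flat (I.subschemeι ≫ f')) (W : X'.affineOpens) :
    ((Ideal.Quotient.mk (I.ideal W)).comp (str f' W.1)).Flat :=
  (flat_sub_iff f' I W).1 (flat_str (I.subschemeι ≫ f') ⟨I.subschemeι ⁻¹ᵁ W.1, W.2.preimage I.subschemeι⟩)

/-- Flatness of the closed subscheme can be checked on an affine cover. -/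
theorem flat_of_cover (h : ∀ x : X', ∃ W : X'.affineOpens, x ∈ W.1 ∧
    ((Ideal.Quotient.mk (I.ideal W)).comp (str f' W.1)).Flat) : Flat (I.subschemeι ≫ f') := by
  rw [HasRingHomProperty.iff_exists_appLE (P := @Flat)
    (RingHom.Flat.stableUnderComposition.stableUnderCompositionWithLocalizationAway
      RingHom.Flat.holdsForLocalizationAway).left]
  intro z
  obtain ⟨W, hx, hW⟩ := h (I.subschemeι z)
  refine ⟨⟨⊤, isAffineOpen_top _⟩, ⟨I.subschemeι ⁻¹ᵁ W.1, W.2.preimage I.subschemeι⟩, hx, le_top, ?_⟩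
  exact (flat_appLE_iff _ _).2 ((flat_sub_iff f' I W).2 hW)

end Str

end K693.IdealFam
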