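import Mathlib.AlgebraicGeometry.Morphisms.Flat
import Mathlib.CategoryTheory.MorphismProperty.Limits
import Groth.Agent.DefT.K693.IdealFam
import Groth.Agent.Flat2C.Thick

/-!
# Flatness of quotients under base change
-/

set_option autoImplicit false
universe u

open CategoryTheory CategoryTheory.Limits AlgebraicGeometry Opposite

namespace K693.FlatPush

theorem flat_of_isPushout {A B C D : CommRingCat.{u}} {f : A ⟶ B} {g : A ⟶ C} {g' : B ⟶ D} {f' : C ⟶ D}
    (h : IsPushout f g g' f') (hf : f.hom.Flat) : f'.hom.Flat := by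
  have h1 : IsPullback (Spec.map g') (Spec.map f') (Spec.map f) (Spec.map g) := (h.op.map Scheme.Spec).flip
  have h2 : Flat (Spec.map f) := (HasRingHomProperty.Spec_iff (P := @Flat)).2 hf
  exact (HasRingHomProperty.Spec_iff (P := @Flat)).1 (MorphismProperty.of_isPullback (P := @Flat) h1 h2)

/-- Base change of a quotient ring. -/
theorem isPushout_quot {A B : Type u} [CommRing A] [CommRing B] (φ : A →+* B) (I : Ideal A) :
    IsPushout (CommRingCat.ofHom (Ideal.Quotient.mk I)) (CommRingCat.ofHom φ)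
      (CommRingCat.ofHom (Ideal.quotientMap (I.map φ) φ Ideal.le_comap_map))
      (CommRingCat.ofHom (Ideal.Quotient.mk (I.map φ))) := by
  refine IsPushout.flip ⟨⟨?_⟩, ⟨PushoutCocone.IsColimit.mk _ (fun s => CommRingCat.ofHom
    (Ideal.Quotient.lift (I.map φ) s.inl.hom ?_)) ?_ ?_ ?_⟩⟩
  · apply CommRingCat.hom_ext
    ext a
    rfl
  · have h1 : I.map φ ≤ RingHom.ker s.inl.hom := by
      refine (Ideal.map_le_iff_le_comap.2 fun a ha => ?_)
      rw [Ideal.mem_comap, RingHom.mem_ker]
      have hc := congrArg (fun q => q.hom a) s.condition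
      have hc' : s.inl.hom (φ a) = s.inr.hom (Ideal.Quotient.mk I a) := hc
      rw [hc', Ideal.Quotient.eq_zero_iff_mem.2 ha, map_zero]
    exact fun a ha => h1 ha
  · intro s
    apply CommRingCat.hom_ext
    exact RingHom.ext fun x => rfl
  · intro s
    apply CommRingCat.hom_ext
    refine Ideal.Quotient.ringHom_ext (RingHom.ext fun x => ?_)
    have hc := congrArg (fun q => q.hom x) s.condition
    exact hc
  · intro s m h1 h2
    apply CommRingCat.hom_ext
    refine Ideal.Quotient.ringHom_ext (RingHom.ext fun x => ?_)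
    exact congr($(h1).hom x)

/-- Flatness of a quotient under a base change of the base ring. -/
theorem flat_quot_of_isPushout {C₁ C₂ R₁ R₂ : CommRingCat.{u}} {a : C₁ ⟶ R₁} {φ : C₁ ⟶ C₂} {g : R₁ ⟶ R₂} {a' : C₂ ⟶ R₂}
    (h : IsPushout a φ g a') (b : Ideal R₁) (hb : ((Ideal.Quotient.mk b).comp a.hom).Flat) :
    ((Ideal.Quotient.mk (b.map g.hom)).comp a'.hom).Flat := by
  have h1 := isPushout_quot g.hom b
  have h2 := h.paste_horiz h1
  exact flat_of_isPushout h2 hb

open K693.IdealFam

/-- For a cartesian square over `Spec C₂ → Spec C₁`, the sections over an affine open form a pushout square. -/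
theorem isPushout_str {C₁ C₂ : Type u} [CommRing C₁] [CommRing C₂] (φ : C₁ →+* C₂) {X₁ X₂ : Scheme.{u}}
    {f₁ : X₁ ⟶ Spec (CommRingCat.of C₁)} {f₂ : X₂ ⟶ Spec (CommRingCat.of C₂)} {u : X₂ ⟶ X₁}
    (sq : IsPullback u f₂ f₁ (Spec.map (CommRingCat.ofHom φ))) (W : X₁.affineOpens) :
    IsPushout (CommRingCat.ofHom (str f₁ W.1)) (CommRingCat.ofHom φ) (u.app W.1)
      (CommRingCat.ofHom (str f₂ (u ⁻¹ᵁ W.1))) := by
  have h1 := Groth.Agent.Flat2C.Thick.isPushout_appLE sq (U := ⊤) (isAffineOpen_top _) W.2 le_top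
  have h2 : IsPushout (Scheme.ΓSpecIso (CommRingCat.of C₁)).inv (CommRingCat.ofHom φ)
      (Spec.map (CommRingCat.ofHom φ)).appTop (Scheme.ΓSpecIso (CommRingCat.of C₂)).inv :=
    IsPushout.of_horiz_isIso ⟨(Scheme.ΓSpecIso_inv_naturality (CommRingCat.ofHom φ)).symm⟩
  exact h2.paste_horiz h1

end K693.FlatPush
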