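import Mathlib.RingTheory.Flat.Basic
import Mathlib.RingTheory.Artinian.Ring
import Mathlib.RingTheory.Ideal.AssociatedPrime.Finiteness
import Mathlib.LinearAlgebra.TensorProduct.RightExactness
import Mathlib.RingTheory.HopkinsLevitzki

/-!
# Compatible families in a flat system of modules over an Artinian local ring
-/

set_option autoImplicit false
universe u v w

open scoped TensorProduct

namespace K693.FlatSec

variable {C : Type u} [CommRing C] {ι : Type w} [Preorder ι] (R : ι → Type v) [∀ U, AddCommGroup (R U)]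
  [∀ U, Module C (R U)] (one : ∀ U, R U) (ρ : ∀ {U V : ι}, U ≤ V → (R V →ₗ[C] R U))

/-- Every compatible family in `R U ⊗ M` comes from a unique element of `M`. -/
def P (M : Type u) [AddCommGroup M] [Module C M] : Prop :=
  ∀ s : ∀ U, R U ⊗[C] M, (∀ (U V : ι) (h : U ≤ V), (ρ h).rTensor M (s V) = s U) →
    ∃! m : M, ∀ U, s U = one U ⊗ₜ m

variable {R ρ one}

theorem P.eq_zero {M : Type u} [AddCommGroup M] [Module C M] (h : P R one ρ M) (m : M)
    (hm : ∀ U, one U ⊗ₜ[C] m = 0) : m = 0 := by
  obtain ⟨m₀, -, h2⟩ := h (fun U => 0) (fun U V h => map_zero _)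
  rw [h2 m (fun U => (hm U).symm), h2 0 (fun U => (TensorProduct.tmul_zero _ _).symm)]

theorem P.exact (hflat : ∀ U, Module.Flat C (R U)) (hone : ∀ (U V : ι) (h : U ≤ V), ρ h (one V) = one U)
    {N₁ N₂ N₃ : Type u} [AddCommGroup N₁] [Module C N₁] [AddCommGroup N₂] [Module C N₂]
    [AddCommGroup N₃] [Module C N₃] (f : N₁ →ₗ[C] N₂) (g : N₂ →ₗ[C] N₃) (hf : Function.Injective f)
    (hg : Function.Surjective g) (hfg : Function.Exact f g) (h1 : P R one ρ N₁) (h3 : P R one ρ N₃) :
    P R one ρ N₂ := by
  have hinj : ∀ U, Function.Injective (f.lTensor (R U)) := fun U =>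
    have := hflat U
    Module.Flat.lTensor_preserves_injective_linearMap f hf
  have hex : ∀ U, Function.Exact (f.lTensor (R U)) (g.lTensor (R U)) := fun U => lTensor_exact _ hfg hg
  have hcomm : ∀ {N N' : Type u} [AddCommGroup N] [Module C N] [AddCommGroup N'] [Module C N']
      (φ : N →ₗ[C] N') (U V : ι) (h : U ≤ V) (x : R V ⊗[C] N),
      (ρ h).rTensor N' (φ.lTensor (R V) x) = φ.lTensor (R U) ((ρ h).rTensor N x) := by
    intro N N' _ _ _ _ φ U V h x
    rw [← LinearMap.comp_apply, ← LinearMap.comp_apply, LinearMap.rTensor_comp_lTensor,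
      LinearMap.lTensor_comp_rTensor]
  intro s hs
  obtain ⟨m₃, hm₃, -⟩ := h3 (fun U => g.lTensor (R U) (s U)) (fun U V h => by
    rw [hcomm, hs])
  obtain ⟨m, rfl⟩ := hg m₃
  have hk : ∀ U, ∃ t, f.lTensor (R U) t = s U - one U ⊗ₜ m := by
    intro U
    apply (hex U _).1
    rw [map_sub, hm₃ U, LinearMap.lTensor_tmul, sub_self]
  choose t ht using hk
  obtain ⟨m₁, hm₁, -⟩ := h1 t (fun U V h => by
    apply hinj U
    rw [← hcomm, ht, ht, map_sub, hs U V h, LinearMap.rTensor_tmul, hone])
  refine ⟨m + f m₁, fun U => ?_, fun m' hm' => ?_⟩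
  · have := ht U
    rw [hm₁ U, LinearMap.lTensor_tmul] at this
    rw [TensorProduct.tmul_add, this]
    abel
  · rw [← sub_eq_zero]
    have hd : ∀ U, one U ⊗ₜ[C] (m' - (m + f m₁)) = 0 := by
      intro U
      rw [TensorProduct.tmul_sub, ← hm' U, sub_eq_zero]
      have := ht U
      rw [hm₁ U, LinearMap.lTensor_tmul] at this
      rw [TensorProduct.tmul_add, this]
      abel
    set d := m' - (m + f m₁)
    have hgd : g d = 0 := h3.eq_zero _ fun U => by
      rw [← LinearMap.lTensor_tmul, hd, map_zero]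
    obtain ⟨e, he⟩ := (hfg d).1 hgd
    have he0 : e = 0 := h1.eq_zero _ fun U => by
      apply hinj U
      rw [LinearMap.lTensor_tmul, he, hd, map_zero]
    rw [← he, he0, map_zero]

/-- If the residue field has the property, so has every finite module over an Artinian local ring. -/
theorem P.of_residue [IsLocalRing C] [IsArtinianRing C] (hflat : ∀ U, Module.Flat C (R U))
    (hone : ∀ (U V : ι) (h : U ≤ V), ρ h (one V) = one U)
    (hk : P R one ρ (C ⧸ IsLocalRing.maximalIdeal C)) (M : Type u) [AddCommGroup M] [Module C M]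
    [hM : Module.Finite C M] : P R one ρ M := by
  induction hM using IsNoetherianRing.induction_on_isQuotientEquivQuotientPrime C with
  | subsingleton N =>
    intro s hs
    have : ∀ U, Subsingleton (R U ⊗[C] N) := fun U => inferInstance
    exact ⟨0, fun U => Subsingleton.elim _ _, fun y _ => Subsingleton.elim _ _⟩
  | quotient N p e =>
    have hp : p.1 = IsLocalRing.maximalIdeal C :=
      IsLocalRing.eq_maximalIdeal (IsArtinianRing.isMaximal_of_isPrime p.1)
    obtain ⟨p, hp'⟩ := p
    dsimp only at hp e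
    subst hp
    intro s hs
    obtain ⟨m, hm, hm'⟩ := hk (fun U => e.toLinearMap.lTensor (R U) (s U)) (fun U V h => by
      rw [← LinearMap.comp_apply, LinearMap.rTensor_comp_lTensor, ← LinearMap.lTensor_comp_rTensor,
        LinearMap.comp_apply, hs])
    refine ⟨e.symm m, fun U => ?_, fun m' h' => ?_⟩
    · have h1 : (e.lTensor (R U)) (s U) = one U ⊗ₜ m := hm U
      rw [← LinearEquiv.eq_symm_apply] at h1
      rw [h1]
      rfl
    · rw [LinearEquiv.eq_symm_apply]
      apply hm'
      intro U
      rw [h' U]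
      rfl
  | exact N₁ N₂ N₃ f g hf hg hfg h₁ h₃ => exact P.exact hflat hone f g hf hg hfg h₁ h₃

end K693.FlatSec
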