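import Groth.Agent.DefT.K693.IdealFam
import Groth.Agent.Fga.EulerIso
import Groth.Agent.Sga2.PnHomAdj

/-!
# `H⁰` and linearity
-/

set_option autoImplicit false

universe u

open CategoryTheory CategoryTheory.Limits AlgebraicGeometry Opposite TopologicalSpace

namespace K693.HZero

open K693.IdealFam

variable {X : Scheme.{u}}

/-- `H⁰` is the global sections. -/
noncomputable def e0 (M : X.Modules) : Coh.HH X M 0 ≃+ Γ(M, ⊤) :=
  Sheaf.H.equiv₀ (Coh.toAb M) (Preorder.isTerminalTop _)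

theorem e0_smul_top (M : X.Modules) (r : Coh.Γtop X) (x : Coh.HH X M 0) :
    e0 M (r • x) = (show Γ(X, ⊤) from r) • e0 M x := by
  have h1 := (Sheaf.H.equiv₀_naturality (T := (⊤ : X.Opens)) (Preorder.isTerminalTop _) (Coh.smulAb M r) x).symm
  refine Eq.trans (b := (Coh.smulAb M r).hom.app (op ⊤) (e0 M x)) h1 ?_
  rw [Coh.smulAb_app]
  have h2 : Coh.resTop X (op ⊤) r = r := by
    have : (homOfLE (le_top (a := (op ⊤ : (Opens X)ᵒᵖ).unop))) = 𝟙 _ := rfl
    rw [Coh.resTop, this]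
    change (X.ringCatSheaf.obj.map (𝟙 (op ⊤))).hom r = r
    rw [CategoryTheory.Functor.map_id]
    rfl
  rw [h2]
  rfl

theorem toGlobal_eq {A : Type u} [CommRing A] {X : Scheme.{u}} (f : X ⟶ Spec (CommRingCat.of A)) (a : A) :
    (show Γ(X, ⊤) from Coh.toGlobal f a) = str f ⊤ a := by
  have h2 : f.appTop = f.appLE ⊤ ⊤ le_top := by
    rw [Scheme.Hom.appTop, Scheme.Hom.app_eq_appLE]
    rfl
  change (f.appTop.hom.comp (Scheme.ΓSpecIso (CommRingCat.of A)).inv.hom) a = _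
  rw [h2]
  rfl

theorem e0_smul {A : Type u} [CommRing A] [X.Over (Spec (CommRingCat.of A))] (M : X.Modules) (a : A) (x : Coh.HH X M 0) :
    e0 M (a • x) = str (X ↘ Spec (CommRingCat.of A)) ⊤ a • e0 M x := by
  have h1 : (show Γ(X, ⊤) from Coh.toGlobal (X ↘ Spec (CommRingCat.of A)) a) = str (X ↘ Spec (CommRingCat.of A)) ⊤ a := by
    have h2 : (X ↘ Spec (CommRingCat.of A)).appTop = (X ↘ Spec (CommRingCat.of A)).appLE ⊤ ⊤ le_top := by
      rw [Scheme.Hom.appTop, Scheme.Hom.app_eq_appLE]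
      rfl
    change ((X ↘ Spec (CommRingCat.of A)).appTop.hom.comp (Scheme.ΓSpecIso (CommRingCat.of A)).inv.hom) a = _
    rw [h2]
    rfl
  rw [← h1]
  exact e0_smul_top M _ x

end K693.HZero
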