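import Groth.Agent.DefT.K693.LHGlobal
import Groth.Agent.Fga.EulerIso
import Groth.Agent.DefT.K693.HZero

/-!
# `H¹` of the push-forward of the normal sheaf
-/

set_option autoImplicit false

universe u

open CategoryTheory CategoryTheory.Limits AlgebraicGeometry Opposite TopologicalSpace Abelian

namespace K693.HOne

open Groth.Agent.CohtopA.PushClosed Groth.Agent.CohtopA.ExtAdj K693.LHSit

theorem HPushEquiv_natural {X Y : TopCat.{u}} (f : X ⟶ Y) [PreservesFiniteColimits (CohTop.push f)]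
    {F F' : CohTop.Ab X} (g : F ⟶ F') (n : ℕ) (x : CohTop.H F n) :
    HPushEquiv f F' n (Sheaf.H.map g n x) = Sheaf.H.map ((CohTop.push f).map g) n (HPushEquiv f F n x) := by
  rw [Sheaf.H.map_apply, Sheaf.H.map_apply]
  have h1 := extOfHom_comp (CohTop.push f) (constHom f) (x : Ext (ZZ X) F n) (Ext.mk₀ g) (add_zero n)
  rw [Ext.mapExactFunctor_mk₀] at h1
  exact h1

variable {Y₀ X₀ : Scheme.{u}} (i₀ : Y₀ ⟶ X₀) [IsClosedImmersion i₀]

instance : PreservesFiniteColimits (CohTop.push i₀.base) :=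
  Groth.Agent.CohtopA.PushClosed.preservesFiniteColimits_push_of_isClosedEmbedding i₀.base i₀.isClosedEmbedding

/-- The isomorphism `H¹(X₀, i₀_* N) ≃ H¹(Y₀, N)`. -/
noncomputable def kap : Sheaf.H (pN i₀) 1 ≃+ Coh.HH Y₀ (NN i₀) 1 :=
  (HPushEquiv i₀.base (Coh.toAb (NN i₀)) 1).symm

theorem kap_map (g : Coh.toAb (NN i₀) ⟶ Coh.toAb (NN i₀)) (c : Sheaf.H (pN i₀) 1) :
    kap i₀ (Sheaf.H.map ((CohTop.push i₀.base).map g) 1 c) = Groth.Agent.Fga.EulerIso.HHab g 1 (kap i₀ c) := by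
  rw [kap, AddEquiv.symm_apply_eq]
  have h1 := HPushEquiv_natural i₀.base g 1 ((HPushEquiv i₀.base (Coh.toAb (NN i₀)) 1).symm c)
  rw [AddEquiv.apply_symm_apply] at h1
  exact h1.symm

/-- Multiplication by a global function on the push-forward. -/
noncomputable def sg (r : Coh.Γtop Y₀) : pN i₀ ⟶ pN i₀ := (CohTop.push i₀.base).map (Coh.smulAb (NN i₀) r)

theorem kap_sg (r : Coh.Γtop Y₀) (c : Sheaf.H (pN i₀) 1) : kap i₀ (Sheaf.H.map (sg i₀ r) 1 c) = r • kap i₀ c :=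
  kap_map i₀ _ c

end K693.HOne
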