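import Groth.Agent.ArtFun.K723.Pres
import Groth.Agent.ArtFun.K723.Krull
import Groth.Agent.ArtFun.K723.Completion
import Groth.Agent.Deform.K681.CotDer
import Groth.Agent.S2167
import Groth.Agent.S2164
import Groth.Agent.S2168
import Groth.Agent.S0547
import Groth.Agent.S0548

/-!
# Dimension estimates for local algebras whose functor has an obstruction theory
-/

set_option autoImplicit false

universe u v

open CategoryTheory ArtFun ArtFun.Art IsLocalRing

namespace K693.HilbDim

theorem exists_regular_list {P : Type u} [CommRing P] [IsRegularLocalRing P] (I : Ideal P) (hI : I ≠ ⊤) (s : Finset P)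
    (hs : Ideal.span (s : Set P) = I) (h : ringKrullDim P = ringKrullDim (P ⧸ I) + (s.card : WithBot ℕ∞)) :
    ∃ rs : List P, Ideal.ofList rs = I ∧ RingTheory.Sequence.IsRegular P rs := by
  rw [Groth.Agent.S2167.result I hI, h, add_comm]
  refine add_le_add_right ?_ _
  have h1 := Groth.Agent.S2167.spanFinrank_cotangent_le I (IsNoetherian.noetherian I)
  have h2 : Submodule.spanFinrank I ≤ s.card := by
    rw [← hs]
    exact (Submodule.spanFinrank_span_le_ncard_of_finite s.finite_toSet).trans (Set.ncard_coe_finset s).le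
  exact_mod_cast h1.trans h2

variable {k : Type u} [Field k] {R : Type u} [CommRing R] [IsLocalRing R] [IsNoetherianRing R] [Algebra k R]
  (res : R →ₐ[k] k) {V : Type v} [AddCommGroup V] [Module k V]

/-- **Dimension estimates**. -/
theorem bounds (Θ : HomSet R res (dual k k) → V) (hΘ : Function.Bijective Θ)
    (hs : ∀ (c : k) x, Θ (HomSet.map (scale c) x) = c • Θ x)
    (ha : ∀ z : HomSet R res (dual2 k k), Θ (HomSet.map plus z) = Θ (HomSet.map pr₁ z) + Θ (HomSet.map pr₂ z))
    {W : Type u} [AddCommGroup W] [Module k W] [Module.Finite k W] (hT : HasObsTheory (hR R res) W) :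
    Module.finrank (ResidueField R) (CotangentSpace R) = Module.finrank k V ∧
      (Module.finrank k V : WithBot ℕ∞) ≤ ringKrullDim R + (Module.finrank k W : WithBot ℕ∞) ∧
      (Module.finrank k W = 0 → IsRegularLocalRing R ∧ ringKrullDim R = (Module.finrank k V : WithBot ℕ∞)) ∧
      (ringKrullDim R + (Module.finrank k W : WithBot ℕ∞) = (Module.finrank k V : WithBot ℕ∞) →
        Pi1.IsCompleteIntersection R) := by
  obtain ⟨T⟩ := hT
  have hn := K681.CotDer.finrank_eq res Θ hΘ hs ha
  have hres : Function.Surjective res := fun c => ⟨algebraMap k R c, res.commutes c⟩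
  let S := K723.Completion.hat R res hres
  let E := K723.Completion.equiv hres
  obtain ⟨T'⟩ := K723.Transport.hasObsTheory_of_equiv (F := hR R res) (G := hR S.carrier S.res) E
    (fun A B f x => K723.Completion.equiv_map hres f x) T
  have hn' := K681.CotDer.finrank_eq S.res (fun x => Θ (E _ x)) (hΘ.comp (E _).bijective)
    (fun c x => (congrArg Θ (K723.Completion.equiv_map hres (scale c) x)).trans (hs c _))
    (fun z => (congrArg Θ (K723.Completion.equiv_map hres plus z)).trans (ha _))
  obtain ⟨Φ, hΦ, hker⟩ := K723.Pres.exists_presentation S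
  have hb := K723.Krull.bounds Φ hΦ hker S.res T'
  rw [hn'] at hb
  have hdim : ringKrullDim S.carrier = ringKrullDim R := Groth.Agent.S0547.result R
  rw [hdim] at hb
  have hreg : IsRegularLocalRing R ↔ IsRegularLocalRing S.carrier := Groth.Agent.S0548.result R
  refine ⟨hn, hb.2.1, fun h0 => ⟨hreg.2 (hb.2.2.1 h0), ?_⟩, fun h0 => ?_⟩
  · refine le_antisymm hb.1 ?_
    have h1 := hb.2.1
    rw [h0, Nat.cast_zero, add_zero] at h1
    exact h1
  · obtain ⟨P, i1, i2, π, s, hπ, hspan, hP⟩ := hb.2.2.2 h0
    rw [← Groth.Agent.S2164.ci_cpl_iff R]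
    refine Groth.Agent.S2168.isCompleteIntersection_of_surjective (R := P) (A := S.carrier) π hπ ?_
    refine exists_regular_list (RingHom.ker π) (RingHom.ker_ne_top π) s hspan ?_
    rw [hP, ← hdim, ringKrullDim_eq_of_ringEquiv (RingHom.quotientKerEquivOfSurjective hπ)]

end K693.HilbDim
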