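import Groth.Agent.Fga.HilbFun
import Groth.Agent.ArtFun.K723.Pointed
import Groth.Prelude.Def_ArtFun6

/-!
# The local Hilbert functor is the functor of pointed maps to the Hilbert scheme
-/

set_option autoImplicit false

universe u

open CategoryTheory CategoryTheory.Limits AlgebraicGeometry

namespace K693.HilbPt

open ArtFun ArtFun.Art Groth.Agent.Fga.HilbFun

variable {k : Type u} [Field k] {X : Scheme.{u}} {x : X ⟶ specPt k}

/-- The section of the base change to the base point. -/
noncomputable def sg (x : X ⟶ specPt k) : X ⟶ PicF.XT x (Over.mk (𝟙 (specPt k))) :=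
  pullback.lift (𝟙 X) x (by rw [Category.id_comp]; exact (Category.comp_id x).symm)

theorem sg_fst : sg x ≫ pullback.fst x (Over.mk (𝟙 (specPt k))).hom = 𝟙 X := pullback.lift_fst _ _ _

instance : IsIso (pullback.fst x (Over.mk (𝟙 (specPt k))).hom) :=
  inferInstanceAs (IsIso (pullback.fst x (𝟙 (specPt k))))

/-- The point of `Spec A`, as a morphism over `Spec k`. -/
noncomputable def rr (A : Art k k) : Over.mk (𝟙 (specPt k)) ⟶ Over.mk (specOver A) :=
  Over.homMk (specRes A) (by
    change specRes A ≫ specMap (ofBase A) = 𝟙 _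
    have h1 : CommRingCat.ofHom (algebraMap k A) ≫ CommRingCat.ofHom A.res.toRingHom = 𝟙 (CommRingCat.of k) := by
      ext c
      exact A.res.commutes c
    have h2 : Spec.map (CommRingCat.ofHom A.res.toRingHom) ≫ Spec.map (CommRingCat.ofHom (algebraMap k A)) = 𝟙 _ := by
      rw [← Spec.map_comp, h1, Spec.map_id]
    exact h2)

theorem sg_rr (A : Art k k) : sg x ≫ PicF.XTmap x (rr A) = XAincl x A := by
  apply pullback.hom_ext
  · rw [Category.assoc]
    refine Eq.trans ?_ (XAincl_fst x A).symm
    rw [PicF.XTmap]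
    refine (congrArg (sg x ≫ ·) (pullback.lift_fst _ _ _)).trans ?_
    rw [Category.comp_id]
    exact sg_fst
  · rw [Category.assoc]
    refine Eq.trans ?_ (XAincl_snd x A).symm
    rw [PicF.XTmap]
    refine (congrArg (sg x ≫ ·) (pullback.lift_snd _ _ _)).trans ?_
    rw [← Category.assoc]
    congr 1
    exact pullback.lift_snd _ _ _

theorem XTmap_eq {A B : Art k k} (g : A ⟶ B) :
    PicF.XTmap x (Over.homMk (specMap g) (specOver_comp g) : Over.mk (specOver B) ⟶ Over.mk (specOver A)) = XAmap x g := rfl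

variable {H : Over (specPt k)} {Z : FGA.HilbSet x H} {I₀ : X.IdealSheafData}
  (y : Over.mk (𝟙 (specPt k)) ⟶ H)
  (hy : FGA.hilbPull x y Z.1 = I₀.comap (pullback.fst x (Over.mk (𝟙 (specPt k))).hom))

/-- Pointed maps. -/
abbrev Pts (A : Art k k) := {g : spec A ⟶ H.left // g ≫ H.hom = specMap (ofBase A) ∧ specRes A ≫ g = y.left}

variable {y}

/-- The map over the base. -/
noncomputable def Pts.hom {A : Art k k} (g : Pts y A) : Over.mk (specOver A) ⟶ H := Over.homMk g.1 g.2.1

theorem Pts.rr_hom {A : Art k k} (g : Pts y A) : rr A ≫ g.hom = y := by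
  ext1
  exact g.2.2

include hy in
theorem comap_sg : (FGA.hilbPull x y Z.1).comap (sg x) = I₀ := by
  rw [hy, ← Scheme.IdealSheafData.comap_comp, sg_fst, Scheme.IdealSheafData.comap_id]

theorem comap_XAincl {A : Art k k} (g : Over.mk (specOver A) ⟶ H) :
    (FGA.hilbPull x g Z.1).comap (XAincl x A) = (FGA.hilbPull x (rr A ≫ g) Z.1).comap (sg x) := by
  rw [hilbPull_comp, hilbPull_eq_comap x (rr A), ← Scheme.IdealSheafData.comap_comp, sg_rr]

/-- The deformation attached to a pointed map. -/
noncomputable def toHilb {A : Art k k} (g : Pts y A) : (localHilb X x I₀).obj A :=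
  ⟨FGA.hilbPull x g.hom Z.1, (hilbPull_mem x g.hom Z.2).2, by
    rw [comap_XAincl, g.rr_hom]
    exact comap_sg hy⟩

theorem toHilb_map {A B : Art k k} (f : A ⟶ B) (g : Pts y A) (h : specMap f ≫ g.1 ≫ H.hom = specMap (ofBase B))
    (h' : specRes B ≫ specMap f ≫ g.1 = y.left) :
    toHilb hy ⟨specMap f ≫ g.1, by rw [Category.assoc]; exact h, h'⟩ = (localHilb X x I₀).map f (toHilb hy g) := by
  apply Subtype.ext
  have h1 := hilbPull_comp x (Over.homMk (specMap f) (specOver_comp f) : Over.mk (specOver B) ⟶ Over.mk (specOver A)) g.hom Z.1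
  rw [hilbPull_eq_comap x (Over.homMk (specMap f) (specOver_comp f) : Over.mk (specOver B) ⟶ Over.mk (specOver A))] at h1
  exact h1

/-- Properness of the lifts. -/
theorem isProper_lift [IsSeparated x] [LocallyOfFiniteType x] (hpr : IsProper (I₀.subschemeι ≫ x)) {A : Art k k}
    (I : (localHilb X x I₀).obj A) : IsProper (I.1.subschemeι ≫ XApr x A) := by
  have h1 : IsSeparated (XApr x A) := inferInstance
  have h2 : LocallyOfFiniteType (XApr x A) := inferInstance
  have hcl : IsClosedImmersion (specRes A) := IsClosedImmersion.spec_of_surjective _ A.res_surjective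
  have hsq := (objectOf I).isPullback
  have hs : Surjective (specRes A) := by
    refine ⟨fun z => ⟨IsLocalRing.closedPoint k, ?_⟩⟩
    exact Subsingleton.elim (α := PrimeSpectrum A) _ _
  have hi : Surjective (objectOf I).i := MorphismProperty.of_isPullback (P := @Surjective) hsq.flip hs
  have h3 : IsProper (subOver x I₀) := hpr
  have h4 : UniversallyClosed ((objectOf I).i ≫ (objectOf I).f) := by
    rw [hsq.w]
    infer_instance
  have h5 : UniversallyClosed (objectOf I).f := UniversallyClosed.of_comp_surjective (objectOf I).i (objectOf I).f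
  have h6 : UniversallyClosed (I.1.subschemeι ≫ XApr x A) := h5
  exact { }

instance (A : Art k k) : IsLocallyNoetherian (Over.mk (specOver A) : Over (specPt k)).left :=
  inferInstanceAs (IsLocallyNoetherian (Spec (CommRingCat.of A)))

instance : IsLocallyNoetherian (Over.mk (𝟙 (specPt k)) : Over (specPt k)).left :=
  inferInstanceAs (IsLocallyNoetherian (Spec (CommRingCat.of k)))

/-- The ideal sheaves on `X ×_k k` are determined by their pull-backs to `X`. -/
theorem comap_sg_injective (I J : (PicF.XT x (Over.mk (𝟙 (specPt k)))).IdealSheafData) (h : I.comap (sg x) = J.comap (sg x)) :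
    I = J := by
  have h1 : pullback.fst x (Over.mk (𝟙 (specPt k))).hom ≫ sg x = 𝟙 _ := by
    rw [← cancel_mono (pullback.fst x (Over.mk (𝟙 (specPt k))).hom), Category.assoc, sg_fst, Category.comp_id, Category.id_comp]
  have h2 : ∀ K : (PicF.XT x (Over.mk (𝟙 (specPt k)))).IdealSheafData,
      (K.comap (sg x)).comap (pullback.fst x (Over.mk (𝟙 (specPt k))).hom) = K := fun K => by
    rw [← Scheme.IdealSheafData.comap_comp, h1, Scheme.IdealSheafData.comap_id]
  rw [← h2 I, ← h2 J, h]

/-- **Pointed maps to the Hilbert scheme are the elements of the local Hilbert functor**. -/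
theorem toHilb_bijective (hH : FGA.HilbRepresentedBy x H Z) [IsSeparated x] [LocallyOfFiniteType x]
    (hpr : IsProper (I₀.subschemeι ≫ x)) (A : Art k k) : Function.Bijective (toHilb (A := A) hy) := by
  constructor
  · intro g g' h
    have h1 : FGA.hilbPull x g.hom Z.1 = FGA.hilbPull x g'.hom Z.1 := congrArg Subtype.val h
    obtain ⟨u, -, hu⟩ := hH.2 (Over.mk (specOver A)) (pullH x g.hom Z)
    have h2 : g.hom = g'.hom := (hu g.hom rfl).trans (hu g'.hom h1.symm).symm
    exact Subtype.ext (congrArg (fun t => t.left) h2)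
  · intro I
    obtain ⟨g, hg, -⟩ := hH.2 (Over.mk (specOver A)) ⟨I.1, isProper_lift hpr I, I.2.1⟩
    have h1 : rr A ≫ g = y := by
      obtain ⟨u, -, hu⟩ := hH.2 (Over.mk (𝟙 (specPt k))) (pullH x y Z)
      refine (hu _ ?_).trans (hu y rfl).symm
      refine comap_sg_injective _ _ ?_
      refine (comap_XAincl g).symm.trans ?_
      have h2 : FGA.hilbPull x g Z.1 = I.1 := hg
      rw [h2]
      exact I.2.2.trans (comap_sg hy).symm
    refine ⟨⟨g.left, Over.w g, congrArg (fun t => t.left) h1⟩, Subtype.ext ?_⟩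
    exact hg

include hy in
/-- **The local ring of the Hilbert scheme at a `k`-point represents the local Hilbert functor**. -/
theorem exists_algebra (hH : FGA.HilbRepresentedBy x H Z) [IsSeparated x] [LocallyOfFiniteType x]
    (hpr : IsProper (I₀.subschemeι ≫ x)) :
    ∃ (_ : Algebra k (H.left.presheaf.stalk (y.left.base (IsLocalRing.closedPoint k))))
      (res : H.left.presheaf.stalk (y.left.base (IsLocalRing.closedPoint k)) →ₐ[k] k)
      (e : ∀ A : Art k k, HomSet (H.left.presheaf.stalk (y.left.base (IsLocalRing.closedPoint k))) res A ≃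
        (localHilb X x I₀).obj A), ∀ (A B : Art k k) (f : A ⟶ B) (φ : HomSet _ res A),
          e B (HomSet.map f φ) = (localHilb X x I₀).map f (e A φ) := by
  obtain ⟨z, hz⟩ : ∃ z, z = y.left (IsLocalRing.closedPoint k) := ⟨_, rfl⟩
  have hx₀ : y.left ≫ H.hom = 𝟙 _ := Over.w y
  obtain ⟨ρ, hρ⟩ := K723.Pointed.exists_factor y.left z hz.symm
  obtain ⟨κ, hκ⟩ : ∃ κ : CommRingCat.of k ⟶ H.left.presheaf.stalk z, Spec.map κ = H.left.fromSpecStalk z ≫ H.hom :=
    ⟨Spec.preimage _, Spec.map_preimage _⟩
  have hz' : y.left.base (IsLocalRing.closedPoint k) = z := hz.symm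
  rw [hz']
  letI := K723.Pointed.alg H.left z κ
  refine ⟨K723.Pointed.alg H.left z κ, K723.Pointed.res H.left H.hom y.left hx₀ z ρ hρ κ hκ,
    fun A => (Equiv.ofBijective _ (K723.Pointed.toMap_bijective H.left H.hom y.left hx₀ z ρ hρ κ hκ A hz)).trans
      (Equiv.ofBijective _ (toHilb_bijective hy hH hpr A)), ?_⟩
  intro A B f φ
  have h1 := toHilb_map hy f (K723.Pointed.toMap H.left H.hom y.left hx₀ z ρ hρ κ hκ A φ)
  refine Eq.trans ?_ (h1 ?_ ?_)
  · refine congrArg (toHilb hy) (Subtype.ext ?_)
    change Spec.map _ ≫ _ = Spec.map _ ≫ (Spec.map _ ≫ _)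
    rw [← Category.assoc, ← Spec.map_comp]
    rfl
  · rw [(K723.Pointed.toMap H.left H.hom y.left hx₀ z ρ hρ κ hκ A φ).2.1]
    exact specOver_comp f
  · rw [← Category.assoc]
    have h2 : specRes B ≫ specMap f = specRes A := by
      change Spec.map _ ≫ Spec.map _ = Spec.map _
      rw [← Spec.map_comp]
      congr 1
      ext a
      exact Art.res_app f a
    rw [h2]
    exact (K723.Pointed.toMap H.left H.hom y.left hx₀ z ρ hρ κ hκ A φ).2.2

end K693.HilbPt
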