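import Groth.Agent.DefT.K693.LHDelta
import Groth.Agent.ArtFun.K724.Tangent
import Groth.Agent.Deform.K680.LHFib

/-!
# The tangent space of the local Hilbert functor
-/

set_option autoImplicit false

universe u

open CategoryTheory CategoryTheory.Limits AlgebraicGeometry Opposite TopologicalSpace TensorProduct

namespace K693.LHSit

open K693.IdealFam ArtFun ArtFun.Art K724.Tangent

section Tan

variable {k : Type u} [Field k]
variable (M : Type u) [AddCommGroup M] [Module k M] [Module kᵐᵒᵖ M] [SMulCommClass k kᵐᵒᵖ M]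
  [IsCentralScalar k M] [IsScalarTower k kᵐᵒᵖ M] [Module.Finite k M]
  (N : Type u) [AddCommGroup N] [Module k N] [Module kᵐᵒᵖ N] [SMulCommClass k kᵐᵒᵖ N]
  [IsCentralScalar k N] [IsScalarTower k kᵐᵒᵖ N] [Module.Finite k N]

/-- The kernel of `k ⊕ M → k`. -/
def kerE : RingHom.ker (toBase (ob k k M)).toAlgHom ≃ₗ[k] M where
  toFun j := TrivSqZeroExt.snd (show TrivSqZeroExt k M from j.1)
  map_add' _ _ := rfl
  map_smul' _ _ := rfl
  invFun m := ⟨(TrivSqZeroExt.inr m : TrivSqZeroExt k M), rfl⟩
  left_inv j := Subtype.ext (TrivSqZeroExt.ext (show (0 : k) = TrivSqZeroExt.fst (show TrivSqZeroExt k M from j.1) from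
    (show TrivSqZeroExt.fst (show TrivSqZeroExt k M from j.1) = 0 from j.2).symm) rfl)
  right_inv _ := rfl

theorem semismall : IsSemismallExt (toBase (ob k k M)) := by
  refine ⟨(ob k k M).res_surjective, ?_⟩
  rw [eq_bot_iff]
  refine le_trans (Ideal.mul_mono_right (J := RingHom.ker (toBase (ob k k M)).toAlgHom)
    (K := IsLocalRing.maximalIdeal (ob k k M)) ?_) ?_
  · intro j hj
    exact ((ob k k M).mem_maximalIdeal_iff j).2 hj
  · rw [← sq]
    exact (ob_sq (Λ := k) (k := k) (M := M)).le

variable {M N}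

/-- A linear form on `M` as a linear form on the kernel. -/
def dl (l : Module.Dual k M) : Module.Dual k (RingHom.ker (toBase (ob k k M)).toAlgHom) :=
  l ∘ₗ (kerE M).toLinearMap

variable {X Y : Scheme.{u}} {i : Y ⟶ X} [IsClosedImmersion i] {I₀ : X.IdealSheafData}
  (hi : i.ker = I₀) {x : X ⟶ Art.specPt k}

instance : Subsingleton ((localHilb X x I₀).obj (base k k)) := (K680.LHFib.h0 x I₀).2

variable (M) in
/-- The trivial element. -/
noncomputable def tr (I : (localHilb X x I₀).obj (base k k)) : Fib (toBase (ob k k M)) I :=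
  ⟨(localHilb X x I₀).map (obSection k k M) I, Subsingleton.elim _ _⟩

theorem tr_map (f : M →ₗ[k] N) (I : (localHilb X x I₀).obj (base k k)) :
    (localHilb X x I₀).map (obMap k k f) (tr M I).1 = (tr N I).1 := by
  have h1 : obSection k k M ≫ obMap k k f = obSection k k N :=
    hom_ext (AlgHom.ext fun a => TrivSqZeroExt.ext rfl (map_zero f))
  change (localHilb X x I₀).map (obMap k k f) ((localHilb X x I₀).map (obSection k k M) I) =
    (localHilb X x I₀).map (obSection k k N) I
  rw [← h1]
  exact congr($(((localHilb X x I₀).map_comp (obSection k k M) (obMap k k f)).symm) I)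

variable (I : (localHilb X x I₀).obj (base k k))

/-- The section of a linear form and an element over `k ⊕ M`. -/
noncomputable def phi (l : Module.Dual k M) (z : (localHilb X x I₀).obj (ob k k M)) : Γ(NN i, ⊤) :=
  delta hi (semismall M) (dl l) (tr M I) ⟨z, Subsingleton.elim _ _⟩

theorem phi_tr (l : Module.Dual k M) : phi hi I l (tr M I).1 = 0 := delta_self hi _ _ _

theorem phi_map (f : M →ₗ[k] N) (l : Module.Dual k N) (z : (localHilb X x I₀).obj (ob k k M)) :
    phi hi I (l ∘ₗ f) z = phi hi I l ((localHilb X x I₀).map (obMap k k f) z) := by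
  have h1 := delta_map hi (semismall M) (semismall N) (obMap k k f) (𝟙 _) (hom_ext (AlgHom.ext fun _ => rfl))
    (K := I) (I := I) (Subsingleton.elim _ _) (dl (l ∘ₗ f)) (dl l) (fun j hj => rfl) (tr M I) ⟨z, Subsingleton.elim _ _⟩
  refine Eq.trans h1 ?_
  have h2 : Fib.map (I := I) (K := I) (obMap k k f) (𝟙 _) (hom_ext (AlgHom.ext fun _ => rfl)) (Subsingleton.elim _ _) (tr M I) =
    tr N I := Subtype.ext (tr_map f I)
  exact congrArg (fun y => delta hi (semismall N) (dl l) y _) h2

theorem phi_add (l l' : Module.Dual k M) (z : (localHilb X x I₀).obj (ob k k M)) :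
    phi hi I (l + l') z = phi hi I l z + phi hi I l' z := delta_addl hi _ (dl l) (dl l') _ _

theorem phi_smul (c : k) (l : Module.Dual k M) (z : (localHilb X x I₀).obj (ob k k M)) :
    phi hi I (c • l) z = str (i ≫ x) ⊤ c • phi hi I l z := delta_smull hi _ c (dl l) _ _

/-- The basis of the kernel. -/
noncomputable def kerBasis {r : ℕ} (e : Module.Basis (Fin r) k M) :
    Module.Basis (Fin r) k (RingHom.ker (toBase (ob k k M)).toAlgHom) := e.map (kerE M).symm

theorem kerBasis_coord {r : ℕ} (e : Module.Basis (Fin r) k M) (t : Fin r) : (kerBasis e).coord t = dl (e.coord t) := by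
  ext j
  rfl

theorem phi_bijective {r : ℕ} (e : Module.Basis (Fin r) k M) :
    Function.Bijective (fun (z : (localHilb X x I₀).obj (ob k k M)) t => phi hi I (e.coord t) z) := by
  constructor
  · intro z z' h
    have h1 : (⟨z, Subsingleton.elim _ _⟩ : Fib (toBase (ob k k M)) I) = ⟨z', Subsingleton.elim _ _⟩ := by
      refine ext_delta hi (semismall M) (kerBasis e) _ _ fun t => ?_
      have h2 := delta_trans hi (semismall M) ((kerBasis e).coord t) (tr M I) (⟨z, Subsingleton.elim _ _⟩ : Fib (toBase (ob k k M)) I)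
        ⟨z', Subsingleton.elim _ _⟩
      rw [kerBasis_coord] at h2 ⊢
      have h3 : phi hi I (e.coord t) z = phi hi I (e.coord t) z' := congrFun h t
      have h4 : phi hi I (e.coord t) z + delta hi (semismall M) (dl (e.coord t)) (⟨z, Subsingleton.elim _ _⟩ : Fib (toBase (ob k k M)) I)
        ⟨z', Subsingleton.elim _ _⟩ = phi hi I (e.coord t) z' := h2
      rw [h3] at h4
      exact add_eq_left.1 h4
    exact congrArg Subtype.val h1
  · intro g
    obtain ⟨z, hz⟩ := exists_delta hi (semismall M) (kerBasis e) (tr M I) g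
    refine ⟨z.1, funext fun t => ?_⟩
    rw [← hz t, kerBasis_coord]
    rfl

end Tan

section Main

variable {k : Type u} [Field k]

theorem phi1_bijective {X Y : Scheme.{u}} {i : Y ⟶ X} [IsClosedImmersion i] {I₀ : X.IdealSheafData} (hi : i.ker = I₀)
    {x : X ⟶ Art.specPt k}
    (I : (localHilb X x I₀).obj (base k k)) :
    Function.Bijective (fun (z : (localHilb X x I₀).obj (ob k k k)) => phi hi I LinearMap.id z) := by
  have h1 := phi_bijective (M := k) hi I (Module.Basis.singleton (Fin 1) k)
  have h2 : (Module.Basis.singleton (Fin 1) k).coord 0 = LinearMap.id := by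
    ext
    simp
  constructor
  · intro z z' h
    refine h1.1 (funext fun t => ?_)
    have ht : t = 0 := Subsingleton.elim _ _
    subst ht
    change phi hi I ((Module.Basis.singleton (Fin 1) k).coord 0) z = phi hi I ((Module.Basis.singleton (Fin 1) k).coord 0) z'
    rw [h2]
    exact h
  · intro g
    obtain ⟨z, hz⟩ := h1.2 (fun _ => g)
    refine ⟨z, ?_⟩
    have h3 := congrFun hz 0
    change phi hi I ((Module.Basis.singleton (Fin 1) k).coord 0) z = g at h3
    rw [h2] at h3
    exact h3

theorem exists_dual2 {X Y : Scheme.{u}} {i : Y ⟶ X} [IsClosedImmersion i] {I₀ : X.IdealSheafData} (hi : i.ker = I₀)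
    {x : X ⟶ Art.specPt k}
    (I : (localHilb X x I₀).obj (base k k)) (a b : (localHilb X x I₀).obj (dual k k)) :
    ∃ z : (localHilb X x I₀).obj (dual2 k k), (localHilb X x I₀).map pr₁ z = a ∧ (localHilb X x I₀).map pr₂ z = b := by
  let e : Module.Basis (Fin 2) k (k × k) := Module.Basis.finTwoProd k
  obtain ⟨z, hz⟩ := (phi_bijective (M := k × k) hi I e).2 ![phi hi I LinearMap.id a, phi hi I LinearMap.id b]
  refine ⟨z, ?_, ?_⟩
  · refine (phi1_bijective hi I).1 ?_
    have h1 := phi_map hi I (LinearMap.fst k k k) LinearMap.id z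
    have h2 := congrFun hz 0
    have h3 : e.coord 0 = LinearMap.id ∘ₗ LinearMap.fst k k k := by
      ext <;> simp [e]
    change phi hi I (e.coord 0) z = _ at h2
    rw [h3, h1] at h2
    exact h2
  · refine (phi1_bijective hi I).1 ?_
    have h1 := phi_map hi I (LinearMap.snd k k k) LinearMap.id z
    have h2 := congrFun hz 1
    have h3 : e.coord 1 = LinearMap.id ∘ₗ LinearMap.snd k k k := by
      ext <;> simp [e]
    change phi hi I (e.coord 1) z = _ at h2
    rw [h3, h1] at h2
    exact h2

theorem phi_plus {X Y : Scheme.{u}} {i : Y ⟶ X} [IsClosedImmersion i] {I₀ : X.IdealSheafData} (hi : i.ker = I₀)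
    {x : X ⟶ Art.specPt k}
    (I : (localHilb X x I₀).obj (base k k)) (z : (localHilb X x I₀).obj (dual2 k k)) :
    phi hi (M := k) I LinearMap.id ((localHilb X x I₀).map plus z) =
      phi hi (M := k) I LinearMap.id ((localHilb X x I₀).map pr₁ z) + phi hi (M := k) I LinearMap.id ((localHilb X x I₀).map pr₂ z) := by
  have h1 := phi_map hi I (LinearMap.fst k k k) LinearMap.id z
  have h2 := phi_map hi I (LinearMap.snd k k k) LinearMap.id z
  have h3 := phi_map hi I (LinearMap.fst k k k + LinearMap.snd k k k) LinearMap.id z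
  have h4 := phi_add hi I (M := k × k) (LinearMap.fst k k k) (LinearMap.snd k k k) z
  exact (h3.symm.trans h4).trans (congrArg₂ (· + ·) h1 h2)

theorem phi_scale {X Y : Scheme.{u}} {i : Y ⟶ X} [IsClosedImmersion i] {I₀ : X.IdealSheafData} (hi : i.ker = I₀)
    {x : X ⟶ Art.specPt k}
    (I : (localHilb X x I₀).obj (base k k)) (c : k) (z : (localHilb X x I₀).obj (dual k k)) :
    phi hi (M := k) I LinearMap.id ((localHilb X x I₀).map (scale c) z) =
      str (i ≫ x) ⊤ c • phi hi (M := k) I LinearMap.id z := by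
  have h1 := phi_map (M := k) hi I (c • LinearMap.id) LinearMap.id z
  exact h1.symm.trans (phi_smul hi I (M := k) c LinearMap.id z)

end Main

end K693.LHSit
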