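import Groth.Agent.DefT.K693.LHObs
import Groth.Agent.DefT.K693.LHTan
import Groth.Agent.DefT.K693.HilbPt
import Groth.Agent.DefT.K693.HilbDim

/-!
# The local ring of the Hilbert scheme at a point with local lifts
-/

set_option autoImplicit false

universe u

open CategoryTheory CategoryTheory.Limits AlgebraicGeometry Opposite TopologicalSpace TensorProduct

namespace K693.LHSit

open K693.IdealFam K693.HZero ArtFun ArtFun.Art

section Psi

variable {k : Type u} [Field k] {X Y : Scheme.{u}} {i : Y ⟶ X} [IsClosedImmersion i] {I₀ : X.IdealSheafData}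
  (hi : i.ker = I₀) {x : X ⟶ Art.specPt k} (I : (localHilb X x I₀).obj (base k k))

/-- The bijection of the tangent space of the local Hilbert functor with `H⁰(N)`. -/
noncomputable def psi (z : (localHilb X x I₀).obj (dual k k)) : Coh.HH Y (NN i) 0 :=
  (e0 (NN i)).symm (phi (M := k) hi I LinearMap.id z)

theorem psi_bijective : Function.Bijective (psi (x := x) hi I) := (e0 (NN i)).symm.bijective.comp (phi1_bijective hi I)

theorem psi_plus (z : (localHilb X x I₀).obj (dual2 k k)) :
    psi hi I ((localHilb X x I₀).map plus z) = psi hi I ((localHilb X x I₀).map pr₁ z) + psi hi I ((localHilb X x I₀).map pr₂ z) := by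
  refine (congrArg (e0 (NN i)).symm (phi_plus hi I z)).trans ?_
  exact map_add _ _ _

theorem psi_scale [hO : Y.Over (Spec (CommRingCat.of k))] (hY : Y ↘ Spec (CommRingCat.of k) = i ≫ x) (c : k)
    (z : (localHilb X x I₀).obj (dual k k)) : psi hi I ((localHilb X x I₀).map (scale c) z) = c • psi hi I z := by
  apply (e0 (NN i)).injective
  have h3 := e0_smul (X := Y) (NN i) c (psi hi I z)
  refine Eq.trans ?_ h3.symm
  rw [psi, psi, AddEquiv.apply_symm_apply, AddEquiv.apply_symm_apply, hY]
  exact phi_scale hi I c z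

end Psi

end K693.LHSit

namespace K693.HilbMain

open K693.LHSit K693.HilbPt ArtFun ArtFun.Art

variable {k : Type u} [Field k] {X Y : Scheme.{u}} {i : Y ⟶ X} [IsClosedImmersion i] {x : X ⟶ Art.specPt k}

omit [IsClosedImmersion i] in
theorem isProper_subschemeι [IsClosedImmersion i] (hpr : IsProper (i ≫ x)) : IsProper (i.ker.subschemeι ≫ x) := by
  let j : Y ⟶ i.ker.subscheme := IsClosedImmersion.lift i.ker.subschemeι i (by rw [Scheme.IdealSheafData.ker_subschemeι])
  have hj : j ≫ i.ker.subschemeι = i := IsClosedImmersion.lift_fac _ _ _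
  have h1 : IsIso j := IsClosedImmersion.isIso_of_ker_eq _ _ j hj (by rw [Scheme.IdealSheafData.ker_subschemeι])
  rw [← hj, Category.assoc] at hpr
  exact (MorphismProperty.cancel_left_of_respectsIso @IsProper j _).1 hpr

/-- **The local ring of the Hilbert scheme**. -/
theorem main [IsSeparated x] [LocallyOfFiniteType x] {H : Over (specPt k)} {Z : FGA.HilbSet x H}
    (hH : FGA.HilbRepresentedBy x H Z) [Y.Over (Spec (CommRingCat.of k))] (hY : Y ↘ Spec (CommRingCat.of k) = i ≫ x)
    [DCoh.HasSheafHom (Omega.conormal i)] (hpr : IsProper (i ≫ x)) (y : Over.mk (𝟙 (specPt k)) ⟶ H)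
    (hy : FGA.hilbPull x y Z.1 = i.ker.comap (pullback.fst x (Over.mk (𝟙 (specPt k))).hom))
    (hLL : ∀ {C' C : Art k k} (p : C' ⟶ C) (_ : IsSemismallExt p) (I : (localHilb X x i.ker).obj C), LocLift p I)
    [hfin : Module.Finite k (Coh.HH Y ((DCoh.sheafHom (Omega.conormal i)).obj (Coh.structureModule Y)) 1)] :
    let R := H.left.presheaf.stalk (y.left.base (IsLocalRing.closedPoint k))
    let N := (DCoh.sheafHom (Omega.conormal i)).obj (Coh.structureModule Y)
    Module.finrank (IsLocalRing.ResidueField R) (IsLocalRing.CotangentSpace R) = Module.finrank k (Coh.HH Y N 0) ∧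
      (Module.finrank k (Coh.HH Y N 0) : WithBot ℕ∞) ≤ ringKrullDim R + (Module.finrank k (Coh.HH Y N 1) : WithBot ℕ∞) ∧
      (Module.finrank k (Coh.HH Y N 1) = 0 → IsRegularLocalRing R ∧
        ringKrullDim R = (Module.finrank k (Coh.HH Y N 0) : WithBot ℕ∞)) ∧
      (ringKrullDim R + (Module.finrank k (Coh.HH Y N 1) : WithBot ℕ∞) = (Module.finrank k (Coh.HH Y N 0) : WithBot ℕ∞) →
        Pi1.IsCompleteIntersection R) := by
  intro R N
  have hnoeth : IsLocallyNoetherian H.left := hH.1
  have hnR : IsNoetherianRing R := inferInstance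
  obtain ⟨alg, res, e, he⟩ := exists_algebra (I₀ := i.ker) hy hH (isProper_subschemeι hpr)
  obtain ⟨I⟩ := (K680.LHFib.h0 x i.ker).1
  let iso : N ≅ NN i := (Groth.Agent.Sga2.PnHomAdj.sheafHomIso (Omega.conormal i)).app (Coh.structureModule Y)
  let E0 : Coh.HH Y N 0 ≃ₗ[k] Coh.HH Y (NN i) 0 := Groth.Agent.Fga.EulerIso.HHequiv k iso 0
  let E1 : Coh.HH Y N 1 ≃ₗ[k] Coh.HH Y (NN i) 1 := Groth.Agent.Fga.EulerIso.HHequiv k iso 1
  have hfin' : Module.Finite k (Coh.HH Y (NN i) 1) := Module.Finite.equiv E1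
  rw [E0.finrank_eq, E1.finrank_eq]
  obtain ⟨T⟩ := hasObsTheory (i := i) rfl hY hLL
  refine K693.HilbDim.bounds res (fun φ => psi rfl I (e _ φ)) ((psi_bijective rfl I).comp (e _).bijective) ?_ ?_
    (K723.Transport.hasObsTheory_of_equiv (F := localHilb X x i.ker) (G := hR R res) e he T)
  · intro c φ
    exact (congrArg (psi rfl I) (he _ _ (scale c) φ)).trans (psi_scale rfl I hY c _)
  · intro z
    refine (congrArg (psi rfl I) (he _ _ plus z)).trans ((psi_plus rfl I _).trans ?_)
    rw [← he _ _ pr₁ z, ← he _ _ pr₂ z]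

end K693.HilbMain
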