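import Groth.Agent.DefT.K693.HilbMain
import Groth.Agent.Fano.K715.LciLift
import Groth.Agent.Fano.K715.HBLocLift
import Groth.Agent.Sga4h.H912.P1Irr
import Groth.Agent.FormalB.PullCoh
import Groth.Agent.CycB.CohProp
import Groth.Agent.CohqA.IdealMod
import Groth.Agent.CurvesB.UnitCoh
import Groth.Agent.S0002
import Groth.Agent.S9524

/-!
# The local ring of the Hilbert scheme: regular immersions and Cohen-Macaulay subschemes of codimension two
-/

set_option autoImplicit false

universe u

open CategoryTheory CategoryTheory.Limits AlgebraicGeometry Opposite TopologicalSpace TensorProduct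

namespace K693.HilbPn

open K693.LHSit K693.HilbPt K693.HilbMain ArtFun ArtFun.Art

variable {k : Type u} [Field k] {X Y : Scheme.{u}} {i : Y ⟶ X} [IsClosedImmersion i] {x : X ⟶ Art.specPt k}

theorem exists_point (y' : i.ker.subscheme) : ∃ y : Y, i y = i.ker.subschemeι y' := by
  have h1 : i.ker.subschemeι y' ∈ Set.range i := by
    have h2 : i.ker.subschemeι y' ∈ Set.range i.ker.subschemeι := ⟨y', rfl⟩
    rw [Scheme.IdealSheafData.range_subschemeι, Scheme.Hom.support_ker,
      i.isClosedEmbedding.isClosed_range.closure_eq] at h2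
    exact h2
  exact h1

/-- Local lifts of regular closed immersions. -/
theorem locLift_reg (hreg : Mor2.IsRegularClosedImmersion i) {C' C : Art k k} (p : C' ⟶ C) (hp : IsSemismallExt p)
    (I : (localHilb X x i.ker).obj C) : LocLift p I := by
  intro y'
  refine K715.LciLift.exists_isLocalLift X x i.ker hp I y' ?_
  obtain ⟨y, hy⟩ := exists_point y'
  rw [← hy]
  exact ((Groth.Agent.Divis.RegImm.isRegularClosedImmersion_iff _).1 hreg).2 y

/-- Local lifts of Cohen-Macaulay subschemes of codimension two. -/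
theorem locLift_hb [LocallyOfFiniteType x] [Smooth x] 
    (hCM : ∀ y : Y, LocCoh.IsCohenMacaulayLocalRing (Y.presheaf.stalk y))
    (hcodim : ∀ y : Y, ringKrullDim (Y.presheaf.stalk y) + 2 = ringKrullDim (X.presheaf.stalk (i.base y)))
    {C' C : Art k k} (p : C' ⟶ C) (hp : IsSemismallExt p)
    (I : (localHilb X x i.ker).obj C) : LocLift p I := by
  have hX : IsLocallyNoetherian X := LocallyOfFiniteType.isLocallyNoetherian x
  have hreg : ∀ z : X, IsRegularLocalRing (X.presheaf.stalk z) := fun z =>
    Groth.Agent.VarietyA.RegSmoothSch.isRegularLocalRing_stalk_of_mem_smoothLocus x z (by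
      rw [Scheme.Hom.smoothLocus_eq_top]; trivial)
  have hdim : ∀ z ∈ i.ker.support, 2 ≤ ringKrullDim (X.presheaf.stalk z) := by
    intro z hz
    have hz' : z ∈ (i.ker.support : Set X) := hz
    rw [Scheme.Hom.support_ker, i.isClosedEmbedding.isClosed_range.closure_eq] at hz'
    obtain ⟨y, rfl⟩ := hz'
    have h2 := hcodim y
    have h3 : (0 : WithBot ℕ∞) ≤ ringKrullDim (Y.presheaf.stalk y) := ringKrullDim_nonneg_of_nontrivial
    calc (2 : WithBot ℕ∞) = 0 + 2 := (zero_add _).symm
      _ ≤ ringKrullDim (Y.presheaf.stalk y) + 2 := by gcongr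
      _ = _ := h2
  intro y'
  refine K715.HBLocLift.exists_isLocalLift_hb X x i.ker hp I y' ?_ (K715.HBLocLift.exists_regPair_ideal hreg i.ker hdim)
  obtain ⟨y, hy⟩ := exists_point y'
  obtain ⟨U, hyU, r, Φ, h2, h3⟩ := Groth.Agent.S11460.result k X Y x i hCM hcodim y
  refine ⟨U, ?_, r, Φ, h3, h2⟩
  rw [← hy]
  exact hyU

theorem isCoh_idealMod [IsLocallyNoetherian X] (D : X.IdealSheafData) : Coh.IsCoh (ClSub.idealMod D) := by
  have := Groth.Agent.CohqA.IdealMod.mono_idealModι D
  exact Groth.Agent.CycB.CohProp.isCoh_of_mono (ClSub.idealModι D) (Groth.Agent.CohqA.IdealMod.isQCoh_idealMod D)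
    (Groth.Agent.CurvesB.UnitCoh.isCoh_structureModule X)

/-- Finiteness of the cohomology of the normal sheaf. -/
theorem finite_normal [LocallyOfFiniteType x] [Y.Over (Spec (CommRingCat.of k))] (hY : Y ↘ Spec (CommRingCat.of k) = i ≫ x)
    [DCoh.HasSheafHom (Omega.conormal i)] (hpr : IsProper (i ≫ x)) (n : ℕ) :
    Module.Finite k (Coh.HH Y ((DCoh.sheafHom (Omega.conormal i)).obj (Coh.structureModule Y)) n) := by
  have hX : IsLocallyNoetherian X := LocallyOfFiniteType.isLocallyNoetherian x
  have hYn : IsLocallyNoetherian Y := LocallyOfFiniteType.isLocallyNoetherian i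
  have hp : IsProper (Y ↘ Spec (CommRingCat.of k)) := by rw [hY]; exact hpr
  exact Groth.Agent.S0002.result k Y _ (Groth.Agent.S9524.result Y _ _
    (Groth.Agent.FormalB.PullCoh.isCoh_pullback i (isCoh_idealMod _))
    (Groth.Agent.CurvesB.UnitCoh.isCoh_structureModule Y)) n

instance smooth_toBase (n : ℕ) : Smooth (CohB1.ProjSpaceOver.toBase n (Spec (CommRingCat.of k))) := by
  have := Groth.Agent.Sga4h.H912.P1Irr.smooth_toBase n (Spec (CommRingCat.of k))
  exact SmoothOfRelativeDimension.smooth n _

instance proper_toBase (n : ℕ) : IsProper (CohB1.ProjSpaceOver.toBase n (Spec (CommRingCat.of k))) :=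
  Groth.Agent.Sga4h.H912.P1Irr.proper_toBase n _

end K693.HilbPn
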