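import Groth.Agent.Fga.RelCartAlg
import Groth.Agent.FlatA.LocalCriterion

/-!
# Lifts of ideals with flat quotient along a small extension: the algebra

`C'` a ring, `J ≤ m` ideals of `C'` with `m * J = 0`, `R'` a flat `C'`-algebra, `ρ : R' →+* A₀`.

* `Lam ρ J l : R' → A₀`: the `R'`-linear map `JR' → A₀`, `j r ↦ l j * ρ r`;
* `Good ρ m b`: `R' ⧸ b` is flat over `C'` and `b ⊔ mR' = ker ρ`;
* `dif ρ m J l b c : R' → A₀`: for good lifts `b`, `c` with `b ⊔ JR' = c ⊔ JR'` the difference map `ker ρ → A₀`;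
* `eq_of_dif_eq_zero`, `exists_of_dif`: the good lifts are a pseudo-torsor.
-/

set_option autoImplicit false
universe u

open TensorProduct

namespace K693.LHAlg

open Groth.Agent.Fga.RelCartAlg

variable {C' R' A₀ : Type u} [CommRing C'] [CommRing R'] [CommRing A₀] [Algebra C' R'] (ρ : R' →+* A₀)
  (m J : Ideal C')

/-- `l : J → A₀` is additive and `C'`-linear (`C'` acts on `A₀` through `ρ`). -/
structure IsLin (l : J → A₀) : Prop where
  add : ∀ x y, l (x + y) = l x + l y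
  smul : ∀ (c : C') x, l (c • x) = ρ (algebraMap C' R' c) * l x

/-- The extension `J R'`. -/
abbrev JR : Ideal R' := J.map (algebraMap C' R')

variable {ρ m J}

theorem IsLin.zero {l : J → A₀} (hl : IsLin ρ J l) : l 0 = 0 := by
  have := hl.add 0 0
  simpa using this

/-- The induced map on `J ⊗ R'`. -/
noncomputable def tens (ρ : R' →+* A₀) (J : Ideal C') (l : J → A₀) (hl : IsLin ρ J l) : J ⊗[C'] R' →+ A₀ :=
  TensorProduct.liftAddHom
    { toFun := fun j =>
        { toFun := fun r => l j * ρ r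
          map_zero' := by rw [map_zero, mul_zero]
          map_add' := fun x y => by rw [map_add, mul_add] }
      map_zero' := by ext r; simp [hl.zero]
      map_add' := fun x y => by ext r; simp [hl.add, add_mul] }
    (fun c j r => by
      simp only [AddMonoidHom.coe_mk, ZeroHom.coe_mk]
      rw [hl.smul, Algebra.smul_def, map_mul]
      ring)

theorem tens_tmul (l : J → A₀) (hl : IsLin ρ J l) (j : J) (r : R') : tens ρ J l hl (j ⊗ₜ r) = l j * ρ r := rfl

open Classical in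
/-- The `R'`-linear map `J R' → A₀`, `j r ↦ l j * ρ r` (extended by `0`). -/
noncomputable def Lam (ρ : R' →+* A₀) (J : Ideal C') (l : J → A₀) (x : R') : A₀ :=
  if h : IsLin ρ J l ∧ x ∈ (JR J : Ideal R') then tens ρ J l h.1 (exists_mulMap_eq J x h.2).choose else 0

theorem tens_smul (l : J → A₀) (hl : IsLin ρ J l) (r : R') (t : J ⊗[C'] R') :
    ∃ t' : J ⊗[C'] R', mulMap J R' t' = r * mulMap J R' t ∧ tens ρ J l hl t' = ρ r * tens ρ J l hl t := by
  induction t with
  | zero => exact ⟨0, by simp, by simp⟩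
  | tmul j s =>
    refine ⟨j ⊗ₜ (r * s), ?_, ?_⟩
    · rw [mulMap_tmul, mulMap_tmul, Algebra.smul_def, Algebra.smul_def]; ring
    · rw [tens_tmul, tens_tmul, map_mul]; ring
  | add x y hx hy =>
    obtain ⟨x', h1, h2⟩ := hx
    obtain ⟨y', h3, h4⟩ := hy
    exact ⟨x' + y', by rw [map_add, map_add, h1, h3, mul_add], by rw [map_add, map_add, h2, h4, mul_add]⟩

variable [Module.Flat C' R']

theorem Lam_mulMap (l : J → A₀) (hl : IsLin ρ J l) (t : J ⊗[C'] R') :
    Lam ρ J l (mulMap J R' t) = tens ρ J l hl t := by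
  have hx : mulMap J R' t ∈ (JR J : Ideal R') := by
    induction t with
    | zero => simp
    | tmul j s =>
      rw [mulMap_tmul, Algebra.smul_def]
      exact Ideal.mul_mem_right _ _ (Ideal.mem_map_of_mem _ j.2)
    | add x y hx hy => rw [map_add]; exact add_mem hx hy
  rw [Lam, dif_pos ⟨hl, hx⟩]
  congr 1
  exact mulMap_injective J R' (exists_mulMap_eq J _ hx).choose_spec

theorem Lam_add {l : J → A₀} (hl : IsLin ρ J l) {x y : R'} (hx : x ∈ (JR J : Ideal R')) (hy : y ∈ (JR J : Ideal R')) :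
    Lam ρ J l (x + y) = Lam ρ J l x + Lam ρ J l y := by
  obtain ⟨s, rfl⟩ := exists_mulMap_eq J x hx
  obtain ⟨t, rfl⟩ := exists_mulMap_eq J y hy
  rw [← map_add, Lam_mulMap l hl, Lam_mulMap l hl, Lam_mulMap l hl, map_add]

theorem Lam_mul {l : J → A₀} (hl : IsLin ρ J l) (r : R') {x : R'} (hx : x ∈ (JR J : Ideal R')) :
    Lam ρ J l (r * x) = ρ r * Lam ρ J l x := by
  obtain ⟨s, rfl⟩ := exists_mulMap_eq J x hx
  obtain ⟨t, h1, h2⟩ := tens_smul l hl r s
  rw [← h1, Lam_mulMap l hl, Lam_mulMap l hl, h2]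

theorem Lam_alg {l : J → A₀} (hl : IsLin ρ J l) (j : J) (r : R') :
    Lam ρ J l (algebraMap C' R' j * r) = l j * ρ r := by
  rw [← Algebra.smul_def, ← mulMap_tmul J R' j r, Lam_mulMap l hl, tens_tmul]

theorem Lam_zero {l : J → A₀} (hl : IsLin ρ J l) : Lam ρ J l 0 = 0 := by
  have := Lam_mul (ρ := ρ) hl 0 (x := 0) (zero_mem _)
  simpa using this

theorem Lam_neg {l : J → A₀} (hl : IsLin ρ J l) {x : R'} (hx : x ∈ (JR J : Ideal R')) :
    Lam ρ J l (-x) = - Lam ρ J l x := by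
  have := Lam_mul (ρ := ρ) hl (-1) hx
  simpa using this

theorem Lam_sub {l : J → A₀} (hl : IsLin ρ J l) {x y : R'} (hx : x ∈ (JR J : Ideal R')) (hy : y ∈ (JR J : Ideal R')) :
    Lam ρ J l (x - y) = Lam ρ J l x - Lam ρ J l y := by
  rw [sub_eq_add_neg, Lam_add hl hx (neg_mem hy), Lam_neg hl hy, sub_eq_add_neg]

omit [Module.Flat C' R'] in
/-- Induction on `J R'`. -/
theorem JR_induction {P : R' → Prop} (hadd : ∀ x y, x ∈ (JR J : Ideal R') → y ∈ (JR J : Ideal R') → P x → P y → P (x + y))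
    (hmul : ∀ (j : J) (r : R'), P (algebraMap C' R' j * r)) {x : R'} (hx : x ∈ (JR J : Ideal R')) : P x := by
  have key : P x ∧ x ∈ (JR J : Ideal R') := by
    have h : x ∈ (J • (⊤ : Submodule C' R')) := by
      rw [Ideal.smul_top_eq_map]
      exact hx
    refine Submodule.smul_induction_on h ?_ ?_
    · intro r hr n _
      rw [Algebra.smul_def]
      exact ⟨hmul ⟨r, hr⟩ n, Ideal.mul_mem_right _ _ (Ideal.mem_map_of_mem _ hr)⟩
    · rintro x y ⟨hx, hx'⟩ ⟨hy, hy'⟩
      exact ⟨hadd x y hx' hy' hx hy, add_mem hx' hy'⟩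
  exact key.1

theorem IsLin.addl {l l' : J → A₀} (hl : IsLin ρ J l) (hl' : IsLin ρ J l') : IsLin ρ J (fun j => l j + l' j) :=
  ⟨fun x y => by rw [hl.add, hl'.add]; ring, fun c x => by rw [hl.smul, hl'.smul]; ring⟩

theorem IsLin.mull {l : J → A₀} (hl : IsLin ρ J l) (a : A₀) : IsLin ρ J (fun j => a * l j) :=
  ⟨fun x y => by rw [hl.add]; ring, fun c x => by rw [hl.smul]; ring⟩

/-- Additivity in the linear form. -/
theorem Lam_addl {l l' : J → A₀} (hl : IsLin ρ J l) (hl' : IsLin ρ J l') {x : R'} (hx : x ∈ (JR J : Ideal R')) :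
    Lam ρ J (fun j => l j + l' j) x = Lam ρ J l x + Lam ρ J l' x := by
  refine JR_induction (P := fun x => Lam ρ J (fun j => l j + l' j) x = Lam ρ J l x + Lam ρ J l' x) ?_ ?_ hx
  · intro x y hx hy h1 h2
    rw [Lam_add (hl.addl hl') hx hy, Lam_add hl hx hy, Lam_add hl' hx hy, h1, h2]
    ring
  · intro j r
    rw [Lam_alg (hl.addl hl'), Lam_alg hl, Lam_alg hl']
    ring

/-- Homogeneity in the linear form. -/
theorem Lam_mull {l : J → A₀} (hl : IsLin ρ J l) (a : A₀) {x : R'} (hx : x ∈ (JR J : Ideal R')) :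
    Lam ρ J (fun j => a * l j) x = a * Lam ρ J l x := by
  refine JR_induction (P := fun x => Lam ρ J (fun j => a * l j) x = a * Lam ρ J l x) ?_ ?_ hx
  · intro x y hx hy h1 h2
    rw [Lam_add (hl.mull a) hx hy, Lam_add hl hx hy, h1, h2]
    ring
  · intro j r
    rw [Lam_alg (hl.mull a), Lam_alg hl]
    ring

/-- `Lam` vanishes on `J R' * ker ρ`. -/
theorem Lam_eq_zero_of_mem {l : J → A₀} (hl : IsLin ρ J l) {x : R'} (hx : x ∈ (JR J : Ideal R') * RingHom.ker ρ) :
    Lam ρ J l x = 0 := by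
  have key : Lam ρ J l x = 0 ∧ x ∈ (JR J : Ideal R') := by
    refine Submodule.mul_induction_on hx ?_ ?_
    · intro y hy r hr
      refine ⟨?_, Ideal.mul_mem_right _ _ hy⟩
      rw [mul_comm, Lam_mul hl r hy, (RingHom.mem_ker).1 hr, zero_mul]
    · rintro x y ⟨hx, hx'⟩ ⟨hy, hy'⟩
      exact ⟨by rw [Lam_add hl hx' hy', hx, hy, add_zero], add_mem hx' hy'⟩
  exact key.1

/-- Naturality of `Lam`. -/
theorem Lam_natural {C₂ S' B₀ : Type u} [CommRing C₂] [CommRing S'] [CommRing B₀] [Algebra C₂ S'] [Module.Flat C₂ S']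
    {J₂ : Ideal C₂} {σ : S' →+* B₀} (φ : C' →+* C₂) (hJ : J ≤ J₂.comap φ)
    (g : R' →+* S') (hgφ : ∀ c, g (algebraMap C' R' c) = algebraMap C₂ S' (φ c))
    (g₀ : A₀ →+* B₀) (hg : σ.comp g = g₀.comp ρ) {l : J → A₀} (hl : IsLin ρ J l)
    {l' : J₂ → B₀} (hl' : IsLin σ J₂ l') (h : ∀ (j : J) (hj : φ j ∈ J₂), l' ⟨φ j, hj⟩ = g₀ (l j)) {x : R'}
    (hx : x ∈ (JR J : Ideal R')) :
    Lam σ J₂ l' (g x) = g₀ (Lam ρ J l x) := by
  have hmem : ∀ {y : R'}, y ∈ (JR J : Ideal R') → g y ∈ (JR J₂ : Ideal S') := by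
    intro y hy
    refine JR_induction (P := fun y => g y ∈ (JR J₂ : Ideal S')) ?_ ?_ hy
    · intro x y _ _ hx hy
      rw [map_add]
      exact add_mem hx hy
    · intro j r
      rw [map_mul, hgφ]
      exact Ideal.mul_mem_right _ _ (Ideal.mem_map_of_mem _ (hJ j.2))
  refine JR_induction (P := fun x => Lam σ J₂ l' (g x) = g₀ (Lam ρ J l x)) ?_ ?_ hx
  · intro x y hx hy h1 h2
    rw [map_add, Lam_add hl' (hmem hx) (hmem hy), Lam_add hl hx hy, map_add, h1, h2]
  · intro j r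
    rw [map_mul, hgφ, Lam_alg hl' ⟨φ j, hJ j.2⟩, Lam_alg hl, map_mul, h]
    congr 1
    exact congr($hg r)

/-- `J` has a finite family of generators with dual coordinates. -/
structure IsBas (ρ : R' →+* A₀) (J : Ideal C') {ι : Type*} [Fintype ι] (e : ι → J) (l : ι → J → A₀) : Prop where
  lin : ∀ t, IsLin ρ J (l t)
  exp : ∀ x : J, ∃ c : ι → C', x = ∑ t, c t • e t
  dual : ∀ (c : ι → C') t, l t (∑ s, c s • e s) = ρ (algebraMap C' R' (c t))

section Bas

variable {ι : Type*} [Fintype ι] {e : ι → J} {l : ι → J → A₀}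

theorem IsBas.exp' (h : IsBas ρ J e l) {x : R'} (hx : x ∈ (JR J : Ideal R')) :
    ∃ r : ι → R', x = ∑ t, algebraMap C' R' (e t) * r t := by
  refine JR_induction (P := fun x => ∃ r : ι → R', x = ∑ t, algebraMap C' R' (e t) * r t) ?_ ?_ hx
  · rintro x y - - ⟨r, rfl⟩ ⟨s, rfl⟩
    exact ⟨r + s, by simp [mul_add, Finset.sum_add_distrib]⟩
  · intro j r
    obtain ⟨c, hc⟩ := h.exp j
    refine ⟨fun t => algebraMap C' R' (c t) * r, ?_⟩
    rw [hc]
    simp only [AddSubmonoidClass.coe_finsetSum, Submodule.coe_smul, map_sum, smul_eq_mul, map_mul, Finset.sum_mul]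
    exact Finset.sum_congr rfl fun t _ => by ring

theorem IsBas.Lam_sum (h : IsBas ρ J e l) (r : ι → R') (t : ι) :
    Lam ρ J (l t) (∑ s, algebraMap C' R' (e s) * r s) = ρ (r t) := by
  classical
  have hmem : ∀ s, algebraMap C' R' (e s) * r s ∈ (JR J : Ideal R') := fun s =>
    Ideal.mul_mem_right _ _ (Ideal.mem_map_of_mem _ (e s).2)
  have hsum : ∀ (F : Finset ι), Lam ρ J (l t) (∑ s ∈ F, algebraMap C' R' (e s) * r s) =
      ∑ s ∈ F, Lam ρ J (l t) (algebraMap C' R' (e s) * r s) := by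
    intro F
    induction F using Finset.induction_on with
    | empty => simp [Lam_zero (h.lin t)]
    | insert a F ha ih =>
      rw [Finset.sum_insert ha, Finset.sum_insert ha, Lam_add (h.lin t) (hmem a) (sum_mem fun s _ => hmem s), ih]
  rw [hsum]
  have hd : ∀ s, l t (e s) = if s = t then 1 else 0 := by
    intro s
    have := h.dual (fun u => if u = s then 1 else 0) t
    simp only [ite_smul, one_smul, zero_smul, Finset.sum_ite_eq', Finset.mem_univ, if_true] at this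
    rw [this]
    by_cases hst : s = t
    · subst hst; simp
    · rw [if_neg (fun h => hst h.symm), if_neg hst, map_zero, map_zero]
  simp only [Lam_alg (h.lin t), hd, ite_mul, one_mul, zero_mul, Finset.sum_ite_eq', Finset.mem_univ, if_true]

theorem IsBas.mem_mul_ker (h : IsBas ρ J e l) {x : R'} (hx : x ∈ (JR J : Ideal R')) (h0 : ∀ t, Lam ρ J (l t) x = 0) :
    x ∈ (JR J : Ideal R') * RingHom.ker ρ := by
  obtain ⟨r, rfl⟩ := h.exp' hx
  refine sum_mem fun t _ => Ideal.mul_mem_mul (Ideal.mem_map_of_mem _ (e t).2) ?_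
  rw [RingHom.mem_ker, ← h.Lam_sum r t]
  exact h0 t

theorem IsBas.exists_Lam_eq (h : IsBas ρ J e l) (hρ : Function.Surjective ρ) (a : ι → A₀) :
    ∃ x ∈ (JR J : Ideal R'), ∀ t, Lam ρ J (l t) x = a t := by
  choose r hr using fun t => hρ (a t)
  refine ⟨∑ s, algebraMap C' R' (e s) * r s, sum_mem fun s _ =>
    Ideal.mul_mem_right _ _ (Ideal.mem_map_of_mem _ (e s).2), fun t => ?_⟩
  rw [h.Lam_sum, hr]

end Bas

end K693.LHAlg
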