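import Groth.Agent.DefT.K693.LHMor

/-!
# Morphisms of geometric situations
-/

set_option autoImplicit false

universe u

open CategoryTheory CategoryTheory.Limits AlgebraicGeometry Opposite TopologicalSpace TensorProduct

namespace K693.LHSit

open Groth.Agent.CohqB.HomSheaf K693.ModSec K693.ConFam K693.IdealFam K693.LHAlg Groth.Agent.Fga.Torsor
open Groth.Agent.Divis.IdealComap

namespace Geo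

variable {Y₀ X₀ : Scheme.{u}} {i₀ : Y₀ ⟶ X₀} [IsClosedImmersion i₀] {k : Type u} [CommRing k]
  {f₀ : X₀ ⟶ Spec (CommRingCat.of k)}

theorem comap_map_jX (G : Geo.{u} i₀ f₀) : (G.I.map G.jX).comap G.jX = G.I := by
  refine ext_of_forall_mem fun x => ?_
  obtain ⟨W, hW, hx, -⟩ := exists_isAffineOpen_mem_and_subset (U := (⊤ : G.X'.Opens)) (x := G.jX x) trivial
  refine ⟨⟨G.jX ⁻¹ᵁ W, hW.preimage G.jX⟩, hx, ?_⟩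
  rw [ideal_comap _ G.jX ⟨W, hW⟩ ⟨G.jX ⁻¹ᵁ W, hW.preimage G.jX⟩ le_rfl, ← Scheme.Hom.app_eq_appLE, G.ideal_map]
  exact Ideal.map_comap_of_surjective _ (G.jX.app_surjective _ hW) _

/-- A morphism of geometric situations. -/
structure GMor (G₁ G₂ : Geo.{u} i₀ f₀) where
  φ' : G₁.C' →+* G₂.C'
  φ : G₁.C →+* G₂.C
  u' : G₂.X' ⟶ G₁.X'
  u : G₂.X ⟶ G₁.X
  sq : IsPullback u' G₂.f' G₁.f' (Spec.map (CommRingCat.ofHom φ'))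
  hp : G₂.p.comp φ' = φ.comp G₁.p
  hq : G₂.q.comp φ = G₁.q
  hjX : G₂.jX ≫ u' = u ≫ G₁.jX
  hj₁ : G₂.j₁ ≫ u = G₁.j₁
  hI : G₁.I.comap u = G₂.I

namespace GMor

variable {G₁ G₂ : Geo.{u} i₀ f₀} (M : GMor G₁ G₂)

theorem hB_aux (W : G₁.X'.affineOpens) (hW : IsAffineOpen (M.u' ⁻¹ᵁ W.1)) :
    ((G₁.I.map G₁.jX).ideal W).map (M.u'.app W.1).hom ⊔ RingHom.ker (G₂.jX.app (M.u' ⁻¹ᵁ W.1)).hom =
      (G₂.I.map G₂.jX).ideal ⟨M.u' ⁻¹ᵁ W.1, hW⟩ := by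
  have hs : Function.Surjective (G₂.jX.app (M.u' ⁻¹ᵁ W.1)).hom := G₂.jX.app_surjective _ hW
  have h2 : (G₂.I.map G₂.jX).ideal ⟨M.u' ⁻¹ᵁ W.1, hW⟩ =
      (G₂.I.ideal ⟨G₂.jX ⁻¹ᵁ M.u' ⁻¹ᵁ W.1, hW.preimage G₂.jX⟩).comap (G₂.jX.app (M.u' ⁻¹ᵁ W.1)).hom :=
    G₂.ideal_map ⟨M.u' ⁻¹ᵁ W.1, hW⟩
  have h3 : ((G₁.I.map G₁.jX).comap M.u').comap G₂.jX = G₂.I := by
    rw [← Scheme.IdealSheafData.comap_comp, M.hjX, Scheme.IdealSheafData.comap_comp, G₁.comap_map_jX, M.hI]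
  have h4 := congrArg (fun K => K.ideal ⟨G₂.jX ⁻¹ᵁ M.u' ⁻¹ᵁ W.1, hW.preimage G₂.jX⟩) h3
  change (((G₁.I.map G₁.jX).comap M.u').comap G₂.jX).ideal _ = G₂.I.ideal _ at h4
  rw [ideal_comap _ G₂.jX ⟨M.u' ⁻¹ᵁ W.1, hW⟩ ⟨G₂.jX ⁻¹ᵁ M.u' ⁻¹ᵁ W.1, hW.preimage G₂.jX⟩ le_rfl,
    ideal_comap _ M.u' W ⟨M.u' ⁻¹ᵁ W.1, hW⟩ le_rfl, ← Scheme.Hom.app_eq_appLE, ← Scheme.Hom.app_eq_appLE] at h4
  rw [h2, ← h4, Ideal.comap_map_of_surjective' _ hs]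

/-- The attached morphism of situations. -/
noncomputable def mor : Mor G₁.sit G₂.sit where
  φ := M.φ'
  u := M.u'
  sq := M.sq
  hm := by
    intro c hc
    have h1 : G₁.q (G₁.p c) = 0 := hc
    change G₂.q (G₂.p (M.φ' c)) = 0
    have h2 : G₂.p (M.φ' c) = M.φ (G₁.p c) := congr($(M.hp) c)
    have h3 : G₂.q (M.φ (G₁.p c)) = G₁.q (G₁.p c) := congr($(M.hq) (G₁.p c))
    rw [h2, h3, h1]
  hJ := by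
    intro c hc
    have h1 : G₁.p c = 0 := hc
    change G₂.p (M.φ' c) = 0
    have h2 : G₂.p (M.φ' c) = M.φ (G₁.p c) := congr($(M.hp) c)
    rw [h2, h1, map_zero]
  hj := by
    change (G₂.j₁ ≫ G₂.jX) ≫ M.u' = G₁.j₁ ≫ G₁.jX
    rw [Category.assoc, M.hjX, ← Category.assoc, M.hj₁]
  hB := by
    intro W hW
    have h1 : (JR G₂.sit.J : Ideal Γ(G₂.sit.X', M.u' ⁻¹ᵁ W.1)) = RingHom.ker (G₂.jX.app (M.u' ⁻¹ᵁ W.1)).hom :=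
      (ker_app_eq G₂.p G₂.hp G₂.sqX ⟨M.u' ⁻¹ᵁ W.1, hW⟩).symm
    exact Eq.trans (congrArg (fun x => ((G₁.I.map G₁.jX).ideal W).map (M.u'.app W.1).hom ⊔ x) h1) (M.hB_aux W hW)

/-- Compatibility of linear forms. -/
theorem compat {L₁ : G₁.Form} {L₂ : G₂.Form}
    (h : ∀ (j : RingHom.ker G₁.p) (hj : M.φ' j ∈ RingHom.ker G₂.p), L₂.l ⟨M.φ' j, hj⟩ = L₁.l j) :
    M.mor.Compat L₁.lf L₂.lf := by
  rintro W ⟨j, hj0⟩ hj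
  have h1 : G₂.str₀ (i₀ ⁻¹ᵁ (G₂.j₁ ≫ G₂.jX) ⁻¹ᵁ (M.u' ⁻¹ᵁ W)) (L₂.l ⟨M.φ' j, hj⟩) =
      G₂.str₀ (i₀ ⁻¹ᵁ (G₂.j₁ ≫ G₂.jX) ⁻¹ᵁ (M.u' ⁻¹ᵁ W)) (L₁.l ⟨j, hj0⟩) := congrArg _ (h ⟨j, hj0⟩ hj)
  exact h1.trans (ro_str (i₀ ≫ f₀) _ _).symm

end GMor

end Geo

end K693.LHSit
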