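import Groth.Agent.DefT.K693.LHHilb
import Groth.Agent.DefT.K693.LHGMor

/-!
# The difference of two lifts in the local Hilbert functor
-/

set_option autoImplicit false

universe u

open CategoryTheory CategoryTheory.Limits AlgebraicGeometry Opposite TopologicalSpace TensorProduct

namespace K693.LHSit

open Groth.Agent.CohqB.HomSheaf K693.ModSec K693.ConFam K693.IdealFam K693.LHAlg Groth.Agent.Fga.Torsor
open Groth.Agent.Divis.IdealComap ArtFun

theorem ideal_comap_app {A B : Scheme.{u}} (J : B.IdealSheafData) (g : A ⟶ B) (W : B.affineOpens)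
    (h : IsAffineOpen (g ⁻¹ᵁ W.1)) : (J.comap g).ideal ⟨g ⁻¹ᵁ W.1, h⟩ = (J.ideal W).map (g.app W.1).hom := by
  rw [ideal_comap J g W ⟨g ⁻¹ᵁ W.1, h⟩ le_rfl, ← Scheme.Hom.app_eq_appLE]

section Nat

variable {k : Type u} [Field k] {X Y : Scheme.{u}} {i : Y ⟶ X} [IsClosedImmersion i] {I₀ : X.IdealSheafData}
  (hi : i.ker = I₀) {x : X ⟶ Art.specPt k}
  {C' C : Art k k} {p : C' ⟶ C} (hp : Art.IsSemismallExt p) {I : (localHilb X x I₀).obj C}
  {D' D : Art k k} {q : D' ⟶ D} (hq : Art.IsSemismallExt q) {K : (localHilb X x I₀).obj D}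

/-- The morphism of geometric situations attached to a morphism of small extensions. -/
noncomputable def gmor (g' : C' ⟶ D') (g : C ⟶ D) (w : g' ≫ q = p ≫ g) (hIK : (localHilb X x I₀).map g I = K) :
    Geo.GMor (geoI hi x p hp I) (geoI hi x q hq K) where
  φ' := (g'.toAlgHom : C' →+* D')
  φ := (g.toAlgHom : C →+* D)
  u' := Art.XAmap x g'
  u := Art.XAmap x g
  sq := Art.isPullback_XAmap x g'
  hp := by
    ext c
    exact congr($(w).toAlgHom c)
  hq := by
    ext c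
    exact Art.res_app g c
  hjX := by
    change Art.XAmap x q ≫ Art.XAmap x g' = Art.XAmap x g ≫ Art.XAmap x p
    rw [← Art.XAmap_comp, ← Art.XAmap_comp, w]
  hj₁ := Art.XAincl_XAmap x g
  hI := congrArg Subtype.val hIK

/-- The fibre of the local Hilbert functor. -/
abbrev Fib {X : Scheme.{u}} {x : X ⟶ Art.specPt k} {I₀ : X.IdealSheafData} {C' C : Art k k} (p : C' ⟶ C) (I : (localHilb X x I₀).obj C) :=
  {I' : (localHilb X x I₀).obj C' // (localHilb X x I₀).map p I' = I}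

/-- The difference of two lifts. -/
noncomputable def delta (l : Module.Dual k (RingHom.ker p.toAlgHom)) (I₁ I₂ : Fib p I) :
    Γ(NN i, ⊤) :=
  Sit.dsec (V := (⊤ : X.Opens)) (formI (hi := hi) hp l).lf (fibreEquivI hi x p hp I I₁) (fibreEquivI hi x p hp I I₂)

theorem delta_self (l : Module.Dual k (RingHom.ker p.toAlgHom)) (I₁ : Fib p I) : delta hi hp l I₁ I₁ = 0 :=
  Sit.dsec_self _ _

theorem delta_symm (l : Module.Dual k (RingHom.ker p.toAlgHom)) (I₁ I₂ : Fib p I) :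
    delta hi hp l I₂ I₁ = - delta hi hp l I₁ I₂ :=
  Sit.dsec_symm _ _ _

theorem delta_trans (l : Module.Dual k (RingHom.ker p.toAlgHom)) (I₁ I₂ I₃ : Fib p I) :
    delta hi hp l I₁ I₂ + delta hi hp l I₂ I₃ = delta hi hp l I₁ I₃ :=
  Sit.dsec_add _ _ _ _

theorem delta_addl (l l' : Module.Dual k (RingHom.ker p.toAlgHom)) (I₁ I₂ : Fib p I) :
    delta hi hp (l + l') I₁ I₂ = delta hi hp l I₁ I₂ + delta hi hp l' I₁ I₂ :=
  Sit.dsec_addl (fun _ _ => map_add _ _ _) _ _

theorem delta_smull (c : k) (l : Module.Dual k (RingHom.ker p.toAlgHom)) (I₁ I₂ : Fib p I) :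
    delta hi hp (c • l) I₁ I₂ = str (i ≫ x) ⊤ c • delta hi hp l I₁ I₂ :=
  Sit.dsec_mull (V := (⊤ : X.Opens)) (str (i ≫ x) ⊤ c) (fun a j => by
    refine (map_mul _ _ _).trans ?_
    exact congrArg (fun z => z * _) (ro_str (i ≫ x) _ _).symm) _ _

theorem exists_delta {r : ℕ} (e : Module.Basis (Fin r) k (RingHom.ker p.toAlgHom)) (I₁ : Fib p I)
    (g : Fin r → Γ(NN i, ⊤)) : ∃ I₂ : Fib p I, ∀ t, delta hi hp (e.coord t) I₁ I₂ = g t := by
  obtain ⟨c, hc⟩ := (basI (hi := hi) (x := x) (I := I) hp e).lf.exists_d_eq (V := (⊤ : X.Opens))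
    (fibreEquivI hi x p hp I I₁) (fun t => - g t)
  refine ⟨(fibreEquivI hi x p hp I).symm c, fun t => ?_⟩
  rw [delta_symm, delta, Equiv.apply_symm_apply]
  exact (congrArg (fun z => -z) (hc t)).trans (neg_neg _)

theorem ext_delta {r : ℕ} (e : Module.Basis (Fin r) k (RingHom.ker p.toAlgHom)) (I₁ I₂ : Fib p I)
    (h : ∀ t, delta hi hp (e.coord t) I₁ I₂ = 0) : I₁ = I₂ :=
  (fibreEquivI hi x p hp I).injective ((basI (hi := hi) (x := x) (I := I) hp e).lf.ext h)

/-- Push-forward of lifts. -/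
noncomputable def Fib.map (g' : C' ⟶ D') (g : C ⟶ D) (w : g' ≫ q = p ≫ g) (hIK : (localHilb X x I₀).map g I = K)
    (I₁ : Fib p I) : Fib q K :=
  ⟨(localHilb X x I₀).map g' I₁.1, by
    have h1 : (localHilb X x I₀).map (g' ≫ q) I₁.1 = (localHilb X x I₀).map (p ≫ g) I₁.1 := by rw [w]
    rw [Functor.map_comp, Functor.map_comp] at h1
    refine Eq.trans h1 ?_
    exact (congrArg ((localHilb X x I₀).map g) I₁.2).trans hIK⟩

include hp hq in
/-- **Naturality**. -/
theorem delta_map (g' : C' ⟶ D') (g : C ⟶ D) (w : g' ≫ q = p ≫ g) (hIK : (localHilb X x I₀).map g I = K)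
    (l : Module.Dual k (RingHom.ker p.toAlgHom)) (l' : Module.Dual k (RingHom.ker q.toAlgHom))
    (hl : ∀ (j : RingHom.ker p.toAlgHom) (hj : g' (j : C') ∈ RingHom.ker q.toAlgHom), l' ⟨g' (j : C'), hj⟩ = l j)
    (I₁ I₂ : Fib p I) : delta hi hp l I₁ I₂ = delta hi hq l' (Fib.map g' g w hIK I₁) (Fib.map g' g w hIK I₂) := by
  have key : ∀ (J : Fib p I) (a : AffIn (geoI hi x p hp I).sit.j₀ (⊤ : X.Opens)),
      ((fibreEquivI hi x p hp I J).I a).map ((gmor hi hp hq g' g w hIK).mor.u.app a.1.1).hom ≤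
        (fibreEquivI hi x q hq K (Fib.map g' g w hIK J)).I ((gmor hi hp hq g' g w hIK).mor.preIn a) := by
    intro J a
    have h1 : ((J.1.1).comap (Art.XAmap x g')).ideal ((gmor hi hp hq g' g w hIK).mor.preIn a).1 =
        (J.1.1.ideal a.1).map ((Art.XAmap x g').app a.1.1).hom :=
      ideal_comap_app J.1.1 (Art.XAmap x g') a.1 _
    exact h1.ge
  exact Mor.dsec_eq (M := (gmor hi hp hq g' g w hIK).mor) (Geo.GMor.compat (L₁ := formI (hi := hi) hp l) (L₂ := formI (hi := hi) hq l')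
    (gmor hi hp hq g' g w hIK) hl) _ _ _ _ (key I₁) (key I₂)

end Nat

end K693.LHSit
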