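import Groth.Agent.DefT.K693.LHAlg

/-!
# Lifts of ideals with flat quotient along a small extension: differences

See `K693.LHAlg`.
-/

set_option autoImplicit false
universe u

open TensorProduct

namespace K693.LHAlg

open Groth.Agent.Fga.RelCartAlg

variable {C' R' A₀ : Type u} [CommRing C'] [CommRing R'] [CommRing A₀] [Algebra C' R'] {ρ : R' →+* A₀}
  {m J : Ideal C'}

/-- `b` is an ideal with flat quotient reducing to `ker ρ` modulo `m R'`. -/
structure Good (ρ : R' →+* A₀) (m : Ideal C') (b : Ideal R') : Prop where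
  flat : Module.Flat C' (R' ⧸ b)
  sup : b ⊔ (JR m : Ideal R') = RingHom.ker ρ

theorem Good.le {b : Ideal R'} (h : Good ρ m b) : b ≤ RingHom.ker ρ := le_sup_left.trans h.sup.le

theorem Good.le' {b : Ideal R'} (h : Good ρ m b) : (JR m : Ideal R') ≤ RingHom.ker ρ := le_sup_right.trans h.sup.le

theorem exists_sub_mem {b c : Ideal R'} {x : R'} (hx : x ∈ b ⊔ c) : ∃ y ∈ b, x - y ∈ c := by
  obtain ⟨y, hy, z, hz, rfl⟩ := Submodule.mem_sup.1 hx
  exact ⟨y, hy, by rwa [add_sub_cancel_left]⟩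

theorem mul_eq_zero_of_mem (hmJ : m * J = ⊥) {x y : R'} (hx : x ∈ (JR m : Ideal R')) (hy : y ∈ (JR J : Ideal R')) :
    x * y = 0 := by
  have h := Ideal.mul_mem_mul hx hy
  rw [← Ideal.map_mul, hmJ, Ideal.map_bot] at h
  exact h

/-- `JR * ker ρ ≤ b` for good `b`. -/
theorem Good.JR_mul_ker_le {b : Ideal R'} (h : Good ρ m b) (hmJ : m * J = ⊥) :
    (JR J : Ideal R') * RingHom.ker ρ ≤ b := by
  rw [← h.sup, Ideal.mul_sup]
  refine sup_le Ideal.mul_le_right ?_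
  rw [← Ideal.map_mul, mul_comm, hmJ, Ideal.map_bot]
  exact bot_le

/-- Key step: elements of `b ∩ m R'` are in every `c` with the same image modulo `J`. -/
theorem Good.mem_of_mem {b c : Ideal R'} (hb : Good ρ m b) (hmJ : m * J = ⊥) (hbc : b ≤ c ⊔ (JR J : Ideal R')) {x : R'}
    (hx : x ∈ b) (hxm : x ∈ (JR m : Ideal R')) : x ∈ c := by
  have := hb.flat
  have h1 := inf_le_mul_of_flat (A := C') b m ⟨hx, hxm⟩
  refine Submodule.mul_induction_on h1 ?_ fun x y hx hy => add_mem hx hy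
  intro y hy z hz
  obtain ⟨w, hw, hw'⟩ := exists_sub_mem (hbc hz)
  have h2 := mul_eq_zero_of_mem hmJ hy hw'
  have h3 : y * z = y * w := by rw [← sub_eq_zero, ← mul_sub, h2]
  rw [h3]
  exact Ideal.mul_mem_left _ _ hw

variable [Module.Flat C' R']

theorem Good.Lam_eq_zero {b : Ideal R'} (hb : Good ρ m b) {l : J → A₀} (hl : IsLin ρ J l) {x : R'} (hx : x ∈ b)
    (hxJ : x ∈ (JR J : Ideal R')) : Lam ρ J l x = 0 := by
  have := hb.flat
  exact Lam_eq_zero_of_mem hl (Ideal.mul_mono_right hb.le (inf_le_mul_of_flat (A := C') b J ⟨hx, hxJ⟩))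

/-- `x ∈ b`, `y ∈ c` are compatible lifts of `f`. -/
structure IsPair (m J : Ideal C') (b c : Ideal R') (f x y : R') : Prop where
  hx : x ∈ b
  hy : y ∈ c
  hf : f - x ∈ (JR m : Ideal R')
  hxy : x - y ∈ (JR J : Ideal R')

open Classical in
/-- The difference map. -/
noncomputable def dif (ρ : R' →+* A₀) (m J : Ideal C') (l : J → A₀) (b c : Ideal R') (f : R') : A₀ :=
  if h : ∃ p : R' × R', IsPair m J b c f p.1 p.2 then Lam ρ J l (h.choose.1 - h.choose.2) else 0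

/-- The situation of two good lifts of the same ideal. -/
structure Two (ρ : R' →+* A₀) (m J : Ideal C') (b c : Ideal R') : Prop where
  left : Good ρ m b
  right : Good ρ m c
  eq : b ⊔ (JR J : Ideal R') = c ⊔ (JR J : Ideal R')

omit [Module.Flat C' R'] in
theorem Two.symm {b c : Ideal R'} (h : Two ρ m J b c) : Two ρ m J c b := ⟨h.right, h.left, h.eq.symm⟩

omit [Module.Flat C' R'] in
theorem Two.trans {b c d : Ideal R'} (h : Two ρ m J b c) (h' : Two ρ m J c d) : Two ρ m J b d :=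
  ⟨h.left, h'.right, h.eq.trans h'.eq⟩

omit [Module.Flat C' R'] in
theorem Good.refl {b : Ideal R'} (h : Good ρ m b) : Two ρ m J b b := ⟨h, h, rfl⟩

omit [Module.Flat C' R'] in
theorem Two.exists_pair {b c : Ideal R'} (h : Two ρ m J b c) {f : R'} (hf : f ∈ RingHom.ker ρ) :
    ∃ x y, IsPair m J b c f x y := by
  rw [← h.left.sup] at hf
  obtain ⟨x, hx, hx'⟩ := exists_sub_mem hf
  obtain ⟨y, hy, hy'⟩ := exists_sub_mem (h.eq.le (Submodule.mem_sup_left hx))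
  exact ⟨x, y, hx, hy, hx', hy'⟩

theorem Two.wd {b c : Ideal R'} (h : Two ρ m J b c) (hmJ : m * J = ⊥) {l : J → A₀} (hl : IsLin ρ J l)
    {f x y x' y' : R'} (h1 : IsPair m J b c f x y) (h2 : IsPair m J b c f x' y') :
    Lam ρ J l (x - y) = Lam ρ J l (x' - y') := by
  rw [← sub_eq_zero, ← Lam_sub hl h1.hxy h2.hxy]
  have h3 : x - y - (x' - y') = (x - x') - (y - y') := by ring
  rw [h3]
  have hm : x - x' ∈ (JR m : Ideal R') := by
    have := sub_mem h2.hf h1.hf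
    rwa [sub_sub_sub_cancel_left] at this
  have hc : x - x' ∈ c := h.left.mem_of_mem hmJ (le_sup_left.trans h.eq.le) (sub_mem h1.hx h2.hx) hm
  exact h.right.Lam_eq_zero hl (sub_mem hc (sub_mem h1.hy h2.hy)) (h3 ▸ sub_mem h1.hxy h2.hxy)

theorem Two.dif_eq {b c : Ideal R'} (h : Two ρ m J b c) (hmJ : m * J = ⊥) {l : J → A₀} (hl : IsLin ρ J l)
    {f x y : R'} (h1 : IsPair m J b c f x y) : dif ρ m J l b c f = Lam ρ J l (x - y) := by
  have h2 : ∃ p : R' × R', IsPair m J b c f p.1 p.2 := ⟨(x, y), h1⟩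
  rw [dif, dif_pos h2]
  exact h.wd hmJ hl h2.choose_spec h1

theorem Two.dif_add {b c : Ideal R'} (h : Two ρ m J b c) (hmJ : m * J = ⊥) {l : J → A₀} (hl : IsLin ρ J l)
    {f g : R'} (hf : f ∈ RingHom.ker ρ) (hg : g ∈ RingHom.ker ρ) :
    dif ρ m J l b c (f + g) = dif ρ m J l b c f + dif ρ m J l b c g := by
  obtain ⟨x, y, h1⟩ := h.exists_pair hf
  obtain ⟨x', y', h2⟩ := h.exists_pair hg
  have h3 : IsPair m J b c (f + g) (x + x') (y + y') :=
    ⟨add_mem h1.hx h2.hx, add_mem h1.hy h2.hy, by rw [add_sub_add_comm]; exact add_mem h1.hf h2.hf,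
      by rw [add_sub_add_comm]; exact add_mem h1.hxy h2.hxy⟩
  rw [h.dif_eq hmJ hl h1, h.dif_eq hmJ hl h2, h.dif_eq hmJ hl h3, ← Lam_add hl h1.hxy h2.hxy, add_sub_add_comm]

theorem Two.dif_mul {b c : Ideal R'} (h : Two ρ m J b c) (hmJ : m * J = ⊥) {l : J → A₀} (hl : IsLin ρ J l)
    (r : R') {f : R'} (hf : f ∈ RingHom.ker ρ) :
    dif ρ m J l b c (r * f) = ρ r * dif ρ m J l b c f := by
  obtain ⟨x, y, h1⟩ := h.exists_pair hf
  have h3 : IsPair m J b c (r * f) (r * x) (r * y) :=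
    ⟨Ideal.mul_mem_left _ _ h1.hx, Ideal.mul_mem_left _ _ h1.hy, by rw [← mul_sub]; exact Ideal.mul_mem_left _ _ h1.hf,
      by rw [← mul_sub]; exact Ideal.mul_mem_left _ _ h1.hxy⟩
  rw [h.dif_eq hmJ hl h1, h.dif_eq hmJ hl h3, ← mul_sub, Lam_mul hl r h1.hxy]

theorem Two.dif_zero {b c : Ideal R'} (h : Two ρ m J b c) (hmJ : m * J = ⊥) {l : J → A₀} (hl : IsLin ρ J l)
    {f : R'} (hf : f ∈ (JR m : Ideal R')) : dif ρ m J l b c f = 0 := by
  have h1 : IsPair m J b c f 0 0 := ⟨zero_mem _, zero_mem _, by rwa [sub_zero], by simp⟩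
  rw [h.dif_eq hmJ hl h1, sub_zero, Lam_zero hl]

theorem Two.dif_trans {b c d : Ideal R'} (h : Two ρ m J b c) (h' : Two ρ m J c d) (hJm : J ≤ m) (hmJ : m * J = ⊥)
    {l : J → A₀} (hl : IsLin ρ J l) {f : R'} (hf : f ∈ RingHom.ker ρ) :
    dif ρ m J l b c f + dif ρ m J l c d f = dif ρ m J l b d f := by
  obtain ⟨x, y, h1⟩ := h.exists_pair hf
  obtain ⟨z, hz, hz'⟩ := exists_sub_mem (h'.eq.le (Submodule.mem_sup_left h1.hy))
  have hle : (JR J : Ideal R') ≤ JR m := Ideal.map_mono hJm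
  have h2 : IsPair m J c d f y z := ⟨h1.hy, hz, by
    have := add_mem h1.hf (hle h1.hxy)
    rwa [sub_add_sub_cancel] at this, hz'⟩
  have h3 : IsPair m J b d f x z := ⟨h1.hx, hz, h1.hf, by
    have := add_mem h1.hxy hz'
    rwa [sub_add_sub_cancel] at this⟩
  rw [h.dif_eq hmJ hl h1, h'.dif_eq hmJ hl h2, (h.trans h').dif_eq hmJ hl h3, ← Lam_add hl h1.hxy hz',
    sub_add_sub_cancel]

theorem Good.dif_self {b : Ideal R'} (h : Good ρ m b) (hmJ : m * J = ⊥)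
    {l : J → A₀} (hl : IsLin ρ J l) {f : R'} (hf : f ∈ RingHom.ker ρ) : dif ρ m J l b b f = 0 := by
  obtain ⟨x, y, h1⟩ := (h.refl (J := J)).exists_pair hf
  rw [(h.refl (J := J)).dif_eq hmJ hl h1]
  exact h.Lam_eq_zero hl (sub_mem h1.hx h1.hy) h1.hxy

theorem Two.dif_symm {b c : Ideal R'} (h : Two ρ m J b c) (hJm : J ≤ m) (hmJ : m * J = ⊥)
    {l : J → A₀} (hl : IsLin ρ J l) {f : R'} (hf : f ∈ RingHom.ker ρ) :
    dif ρ m J l c b f = - dif ρ m J l b c f := by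
  rw [eq_neg_iff_add_eq_zero, h.symm.dif_trans h hJm hmJ hl hf, h.right.dif_self hmJ hl hf]

theorem Two.dif_addl {b c : Ideal R'} (h : Two ρ m J b c) (hmJ : m * J = ⊥) {l l' : J → A₀} (hl : IsLin ρ J l)
    (hl' : IsLin ρ J l') {f : R'} (hf : f ∈ RingHom.ker ρ) :
    dif ρ m J (fun j => l j + l' j) b c f = dif ρ m J l b c f + dif ρ m J l' b c f := by
  obtain ⟨x, y, h1⟩ := h.exists_pair hf
  rw [h.dif_eq hmJ hl h1, h.dif_eq hmJ hl' h1, h.dif_eq hmJ (hl.addl hl') h1, Lam_addl hl hl' h1.hxy]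

theorem Two.dif_mull {b c : Ideal R'} (h : Two ρ m J b c) (hmJ : m * J = ⊥) {l : J → A₀} (hl : IsLin ρ J l)
    (a : A₀) {f : R'} (hf : f ∈ RingHom.ker ρ) :
    dif ρ m J (fun j => a * l j) b c f = a * dif ρ m J l b c f := by
  obtain ⟨x, y, h1⟩ := h.exists_pair hf
  rw [h.dif_eq hmJ hl h1, h.dif_eq hmJ (hl.mull a) h1, Lam_mull hl a h1.hxy]

/-- Naturality of the difference map. -/
theorem Two.dif_natural {b c : Ideal R'} (h : Two ρ m J b c) (hmJ : m * J = ⊥) {l : J → A₀} (hl : IsLin ρ J l)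
    {C₂ S' B₀ : Type u} [CommRing C₂] [CommRing S'] [CommRing B₀] [Algebra C₂ S'] [Module.Flat C₂ S'] {σ : S' →+* B₀}
    {m₂ J₂ : Ideal C₂} (hmJ₂ : m₂ * J₂ = ⊥) (φ : C' →+* C₂) (hm : m ≤ m₂.comap φ) (hJ : J ≤ J₂.comap φ)
    (g : R' →+* S') (hgφ : ∀ c, g (algebraMap C' R' c) = algebraMap C₂ S' (φ c))
    (g₀ : A₀ →+* B₀) (hg : σ.comp g = g₀.comp ρ) {b' c' : Ideal S'}
    (h' : Two σ m₂ J₂ b' c') (hb : b ≤ b'.comap g) (hc : c ≤ c'.comap g)
    {l' : J₂ → B₀} (hl' : IsLin σ J₂ l') (hll : ∀ (j : J) (hj : φ j ∈ J₂), l' ⟨φ j, hj⟩ = g₀ (l j))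
    {f : R'} (hf : f ∈ RingHom.ker ρ) :
    dif σ m₂ J₂ l' b' c' (g f) = g₀ (dif ρ m J l b c f) := by
  have hmem : ∀ (I : Ideal C') (I₂ : Ideal C₂) (_ : I ≤ I₂.comap φ) {y : R'}, y ∈ (JR I : Ideal R') →
      g y ∈ (JR I₂ : Ideal S') := by
    intro I I₂ hI y hy
    refine JR_induction (P := fun y => g y ∈ (JR I₂ : Ideal S')) ?_ ?_ hy
    · intro x y _ _ hx hy
      rw [map_add]
      exact add_mem hx hy
    · intro j r
      rw [map_mul, hgφ]
      exact Ideal.mul_mem_right _ _ (Ideal.mem_map_of_mem _ (hI j.2))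
  obtain ⟨x, y, h1⟩ := h.exists_pair hf
  have h3 : IsPair m₂ J₂ b' c' (g f) (g x) (g y) :=
    ⟨hb h1.hx, hc h1.hy, by rw [← map_sub]; exact hmem m m₂ hm h1.hf, by rw [← map_sub]; exact hmem J J₂ hJ h1.hxy⟩
  rw [h.dif_eq hmJ hl h1, h'.dif_eq hmJ₂ hl' h3, ← map_sub]
  exact Lam_natural φ hJ g hgφ g₀ hg hl hl' hll h1.hxy

section Sep

variable {ι : Type*} [Fintype ι] {e : ι → J} {l : ι → J → A₀}

theorem Two.le_of_dif_eq_zero {b c : Ideal R'} (h : Two ρ m J b c) (hB : IsBas ρ J e l) (hmJ : m * J = ⊥)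
    (h0 : ∀ t, ∀ f ∈ RingHom.ker ρ, dif ρ m J (l t) b c f = 0) : b ≤ c := by
  intro x hx
  obtain ⟨y, hy, hxy⟩ := exists_sub_mem (h.eq.le (Submodule.mem_sup_left hx))
  have h1 : IsPair m J b c x x y := ⟨hx, hy, by simp, hxy⟩
  have h2 : x - y ∈ c := h.right.JR_mul_ker_le hmJ (hB.mem_mul_ker hxy fun t => by
    rw [← h.dif_eq hmJ (hB.lin t) h1]
    exact h0 t x (h.left.le hx))
  have := add_mem h2 hy
  rwa [sub_add_cancel] at this

/-- Good lifts with zero difference are equal. -/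
theorem Two.eq_of_dif_eq_zero {b c : Ideal R'} (h : Two ρ m J b c) (hB : IsBas ρ J e l) (hJm : J ≤ m) (hmJ : m * J = ⊥)
    (h0 : ∀ t, ∀ f ∈ RingHom.ker ρ, dif ρ m J (l t) b c f = 0) : b = c :=
  le_antisymm (h.le_of_dif_eq_zero hB hmJ h0) (h.symm.le_of_dif_eq_zero hB hmJ fun t f hf => by
    rw [h.dif_symm hJm hmJ (hB.lin t) hf, h0 t f hf, neg_zero])

end Sep

end K693.LHAlg
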