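import Groth.Agent.DefT.K693.LHGeo

/-!
# Linear forms on the kernel of a small extension
-/

set_option autoImplicit false

universe u

open CategoryTheory CategoryTheory.Limits AlgebraicGeometry Opposite TopologicalSpace TensorProduct

namespace K693.IdealFam

theorem app_str {R R' : Type u} [CommRing R] [CommRing R'] (φ : R →+* R') {A B : Scheme.{u}} (g : A ⟶ B)
    (fB : B ⟶ Spec (CommRingCat.of R)) (fA : A ⟶ Spec (CommRingCat.of R'))
    (w : g ≫ fB = fA ≫ Spec.map (CommRingCat.ofHom φ)) (W : B.Opens) (r : R) :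
    g.app W (str fB W r) = str fA (g ⁻¹ᵁ W) (φ r) := by
  have h1 : (Scheme.ΓSpecIso (CommRingCat.of R)).inv ≫ fB.appLE ⊤ W le_top ≫ g.app W =
      CommRingCat.ofHom φ ≫ (Scheme.ΓSpecIso (CommRingCat.of R')).inv ≫ fA.appLE ⊤ (g ⁻¹ᵁ W) le_top := by
    rw [Scheme.Hom.app_eq_appLE, Scheme.Hom.appLE_comp_appLE]
    have h2 := Scheme.Hom.appLE_comp_appLE fA (Spec.map (CommRingCat.ofHom φ)) ⊤ ⊤ (g ⁻¹ᵁ W) le_top le_top
    have h3 : (g ≫ fB).appLE ⊤ (g ⁻¹ᵁ W) le_top = (fA ≫ Spec.map (CommRingCat.ofHom φ)).appLE ⊤ (g ⁻¹ᵁ W) le_top := by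
      simp only [w]
    rw [h3, ← h2, ← Category.assoc, ← Category.assoc (CommRingCat.ofHom φ)]
    congr 1
    have h4 := Scheme.ΓSpecIso_inv_naturality (CommRingCat.ofHom φ)
    rw [h4, Scheme.Hom.appTop, Scheme.Hom.app_eq_appLE]
    rfl
  exact congr($(h1).hom r)

end K693.IdealFam

namespace K693.LHSit

open Groth.Agent.CohqB.HomSheaf K693.ModSec K693.ConFam K693.IdealFam K693.LHAlg Groth.Agent.Fga.Torsor
open Groth.Agent.Divis.IdealComap

namespace Geo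

variable {Y₀ X₀ : Scheme.{u}} {i₀ : Y₀ ⟶ X₀} [IsClosedImmersion i₀] {k : Type u} [CommRing k]
  {f₀ : X₀ ⟶ Spec (CommRingCat.of k)} (G : Geo.{u} i₀ f₀)

/-- The structure map on `Y₀`. -/
noncomputable abbrev str₀ (_ : Geo.{u} i₀ f₀) (V : Y₀.Opens) : k →+* Γ(Y₀, V) := str (i₀ ≫ f₀) V

theorem rho_alg (W : G.X'.Opens) (c : G.C') :
    rho i₀ (G.j₁ ≫ G.jX) W (str G.f' W c) = G.str₀ (i₀ ⁻¹ᵁ (G.j₁ ≫ G.jX) ⁻¹ᵁ W) (G.q (G.p c)) :=
  app_str (G.q.comp G.p) (i₀ ≫ G.j₁ ≫ G.jX) G.f' (i₀ ≫ f₀) (by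
    rw [Category.assoc, G.sq₀.w, Category.assoc]) W c

/-- A linear form on the kernel. -/
structure Form where
  l : RingHom.ker G.p → k
  add : ∀ x y, l (x + y) = l x + l y
  smul : ∀ (c : G.C') x, l (c • x) = G.q (G.p c) * l x

variable {G}

/-- The compatible family of a linear form. -/
noncomputable def Form.lf (L : G.Form) : Sit.LF G.sit where
  l W j := G.str₀ (i₀ ⁻¹ᵁ (G.j₁ ≫ G.jX) ⁻¹ᵁ W) (L.l j)
  lin W := ⟨fun x y => (congrArg (G.str₀ _) (L.add x y)).trans (map_add _ _ _), fun c x =>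
    ((congrArg (G.str₀ _) (L.smul c x)).trans (map_mul _ _ _)).trans
      (congrArg (fun z => z * G.str₀ (i₀ ⁻¹ᵁ (G.j₁ ≫ G.jX) ⁻¹ᵁ W) (L.l x)) (G.rho_alg W c).symm)⟩
  res _ _ := (ro_str (i₀ ≫ f₀) _ _).symm

variable (G) in
/-- A finite basis with dual coordinates. -/
structure Bas (ι : Type) [Fintype ι] where
  e : ι → RingHom.ker G.p
  L : ι → G.Form
  exp : ∀ x : RingHom.ker G.p, ∃ c : ι → G.C', x = ∑ t, c t • e t
  dual : ∀ (c : ι → G.C') t, (L t).l (∑ s, c s • e s) = G.q (G.p (c t))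

/-- The attached family of linear forms. -/
noncomputable def Bas.lf {ι : Type} [Fintype ι] (E : G.Bas ι) : Sit.BasLF G.sit ι where
  e := E.e
  L t := (E.L t).lf
  bas W := ⟨fun t => (E.L t).lf.lin W.1, E.exp, fun c t => by
    refine (congrArg (G.str₀ _) (E.dual c t)).trans ?_
    exact (G.rho_alg W.1 (c t)).symm⟩

end Geo

end K693.LHSit
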