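import Groth.Agent.DefT.K693.LHTors

/-!
# Global lifts of closed subschemes

* `TSet ⊤ ≃ {J : X'.IdealSheafData // ∀ W, IsLift W (J.ideal W)}`: `topEquiv`;
* `BasLF.nonempty_top`: local lifts and `H¹(N) = 0` give a global lift.
-/

set_option autoImplicit false

universe u

open CategoryTheory CategoryTheory.Limits AlgebraicGeometry Opposite TopologicalSpace TensorProduct

namespace K693.LHSit

open Groth.Agent.CohqB.HomSheaf K693.ModSec K693.ConFam K693.IdealFam K693.LHAlg Groth.Agent.Fga.Torsor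
open Groth.Agent.Divis.IdealComap

namespace Sit

variable {Y₀ X₀ : Scheme.{u}} {i₀ : Y₀ ⟶ X₀} [IsClosedImmersion i₀] {S : Sit.{u} i₀}

theorem flat_iff {W : S.X'.affineOpens} (b : Ideal Γ(S.X', W.1)) :
    ((Ideal.Quotient.mk b).comp (str S.f' W.1)).Flat ↔ Module.Flat S.C' (Γ(S.X', W.1) ⧸ b) :=
  RingHom.flat_algebraMap_iff (R := S.C') (S := Γ(S.X', W.1) ⧸ b)

/-- Being a lift is local. -/
theorem isLift_of_cover (K : S.X'.IdealSheafData) (h : ∀ x : S.X', ∃ W : S.X'.affineOpens, x ∈ W.1 ∧ S.IsLift W (K.ideal W))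
    (W : S.X'.affineOpens) : S.IsLift W (K.ideal W) where
  flat := (flat_iff _).1 (flat_quot_of_flat S.f' K (flat_of_cover S.f' K fun x => by
    obtain ⟨V, hx, hV⟩ := h x
    exact ⟨V, hx, (flat_iff _).2 hV.flat⟩) W)
  sup := by
    let K' : S.X'.IdealSheafData :=
      ⟨fun W => K.ideal W ⊔ (JR S.J : Ideal Γ(S.X', W.1)), fun U f => by
        rw [Ideal.map_sup, K.map_ideal_basicOpen]
        congr 1
        exact JR_map (S.X'.basicOpen_le f) S.J, _, rfl⟩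
    have h1 : K' = S.B := ext_of_forall_mem fun x => by
      obtain ⟨V, hx, hV⟩ := h x
      exact ⟨V, hx, hV.sup⟩
    exact congr($(h1).ideal W)

/-- The family attached to an ideal sheaf. -/
def ofIdeal (K : S.X'.IdealSheafData) (h : ∀ W, S.IsLift W (K.ideal W)) (V : X₀.Opens) : S.TSet V where
  I a := K.ideal a.1
  lift a := h a.1
  res _ _ h := K.map_ideal h

/-- Global families are ideal sheaves. -/
theorem exists_ofIdeal (b : S.TSet ⊤) : ∃ (K : S.X'.IdealSheafData) (h : ∀ W, S.IsLift W (K.ideal W)), ofIdeal K h ⊤ = b := by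
  let K : S.X'.IdealSheafData :=
    ⟨fun W => b.I ⟨W, le_top⟩, fun U f => b.res ⟨U, le_top⟩ ⟨S.X'.affineBasicOpen f, le_top⟩ (S.X'.basicOpen_le f), _, rfl⟩
  exact ⟨K, fun W => b.lift ⟨W, le_top⟩, rfl⟩

/-- `TSet ⊤` is the set of global lifts. -/
noncomputable def topEquiv : {K : S.X'.IdealSheafData // ∀ W, S.IsLift W (K.ideal W)} ≃ S.TSet ⊤ :=
  Equiv.ofBijective (fun K => ofIdeal K.1 K.2 ⊤) ⟨fun K K' h => by
    apply Subtype.ext
    refine Scheme.IdealSheafData.ext ?_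
    funext W
    exact congr(($h).I ⟨W, le_top⟩), fun b => by
    obtain ⟨K, h, hK⟩ := exists_ofIdeal b
    exact ⟨⟨K, h⟩, hK⟩⟩

theorem topEquiv_apply (K : {K : S.X'.IdealSheafData // ∀ W, S.IsLift W (K.ideal W)}) :
    topEquiv K = ofIdeal K.1 K.2 ⊤ := rfl

theorem surjective_j₀ : Function.Surjective S.j₀ := by
  intro x
  have h1 : x ∈ (S.j₀.ker.support : Set S.X') := by
    obtain ⟨U, hU, hx, -⟩ := exists_isAffineOpen_mem_and_subset (U := (⊤ : S.X'.Opens)) (x := x) trivial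
    rw [SetLike.mem_coe, Scheme.IdealSheafData.mem_support_iff_of_mem (U := ⟨U, hU⟩) hx]
    rw [Scheme.mem_zeroLocus_iff]
    intro f hf hxf
    rw [Scheme.Hom.ker_apply, S.ker_j₀] at hf
    have hn : IsNilpotent f := by
      obtain ⟨n, hn⟩ := S.hm
      refine ⟨n, ?_⟩
      have h5 := Ideal.pow_mem_pow hf n
      rw [← Ideal.map_pow, hn] at h5
      simpa using h5
    have h2 : S.X'.basicOpen f = ⊥ := by
      obtain ⟨n, hn⟩ := hn
      rw [← le_bot_iff]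
      intro y hy
      have h3 : y ∈ S.X'.basicOpen (f ^ (n + 1)) := by
        rw [Scheme.basicOpen_pow _ _ (n := n + 1) (Nat.succ_pos n)]
        exact hy
      rw [pow_succ, hn, zero_mul, Scheme.basicOpen_zero] at h3
      exact h3
    rw [h2] at hxf
    exact hxf
  rw [Scheme.Hom.support_ker] at h1
  have h2 : x ∈ closure (Set.range S.j₀) := h1
  rw [S.j₀.isClosedEmbedding.isClosed_range.closure_eq] at h2
  exact h2

theorem le_of_preimage_le {W W' : S.X'.Opens} (h : S.j₀ ⁻¹ᵁ W ≤ S.j₀ ⁻¹ᵁ W') : W ≤ W' := by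
  intro x hx
  obtain ⟨y, rfl⟩ := surjective_j₀ (S := S) x
  exact h hx

/-- The family attached to a lift over an affine open. -/
noncomputable def ofLift {W : S.X'.affineOpens} {b : Ideal Γ(S.X', W.1)} (hb : S.IsLift W b) : S.TSet (S.j₀ ⁻¹ᵁ W.1) where
  I a := b.map (ro S.X' (le_of_preimage_le a.2))
  lift a := hb.map (le_of_preimage_le a.2)
  res a c h := by
    rw [Ideal.map_map]
    congr 1
    ext x
    simp only [RingHom.comp_apply]
    exact Groth.Agent.Sga67.Sec.resO_resO _ h x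

theorem isLift_top_of_eq_bot {W : S.X'.affineOpens} (h : i₀ ⁻¹ᵁ S.j₀ ⁻¹ᵁ W.1 ≤ ⊥) : S.IsLift W ⊤ where
  flat := by
    have : Subsingleton (Γ(S.X', W.1) ⧸ (⊤ : Ideal Γ(S.X', W.1))) := Ideal.Quotient.subsingleton_iff.2 rfl
    infer_instance
  sup := by
    rw [top_sup_eq]
    have h1 := S.hB W
    have h2 : RingHom.ker (S.ρ W.1) = ⊤ := by
      rw [eq_top_iff]
      intro x _
      have : Subsingleton Γ(Y₀, i₀ ⁻¹ᵁ S.j₀ ⁻¹ᵁ W.1) := by
        have h3 : i₀ ⁻¹ᵁ S.j₀ ⁻¹ᵁ W.1 = ⊥ := le_bot_iff.1 h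
        rw [h3]
        exact CommRingCat.subsingleton_of_isTerminal Y₀.sheaf.isTerminalOfEmpty
      exact Subsingleton.elim _ _
    rw [h2] at h1
    symm
    have h4 : (1 : Γ(S.X', W.1)) ∈ S.B.ideal W ⊔ S.m.map (str S.f' W.1) := by rw [h1]; trivial
    obtain ⟨y, hy, hy'⟩ := exists_sub_mem h4
    have hn : IsNilpotent (1 - y) := by
      obtain ⟨n, hn⟩ := S.hm
      refine ⟨n, ?_⟩
      have h5 := Ideal.pow_mem_pow hy' n
      rw [← Ideal.map_pow, hn] at h5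
      simpa using h5
    have h6 : IsUnit y := by
      have := hn.isUnit_one_sub
      rwa [sub_sub_cancel] at this
    exact Ideal.eq_top_of_isUnit_mem _ hy h6

/-- There are lifts locally outside `Y₀`; so local lifts at the points of `Y₀` are enough. -/
theorem exists_nonempty (hloc : ∀ y : Y₀, ∃ V : X₀.Opens, i₀ y ∈ V ∧ Nonempty (S.TSet V)) (x : X₀) :
    ∃ V : X₀.Opens, x ∈ V ∧ Nonempty (S.TSet V) := by
  by_cases hx : x ∈ Set.range i₀
  · obtain ⟨y, rfl⟩ := hx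
    exact hloc y
  · have hcl : IsClosed (Set.range i₀) := i₀.isClosedEmbedding.isClosed_range
    let U : X₀.Opens := ⟨(Set.range i₀)ᶜ, hcl.isOpen_compl⟩
    refine ⟨U, hx, ⟨⟨fun _ => ⊤, fun a => isLift_top_of_eq_bot ?_, fun _ _ _ => Ideal.map_top _⟩⟩⟩
    intro y hy
    exact (a.2 hy ⟨y, rfl⟩).elim

/-- Every point of `X'` has an affine open neighbourhood on which a lift exists. -/
theorem exists_cover (hloc : ∀ x : X₀, ∃ V : X₀.Opens, x ∈ V ∧ Nonempty (S.TSet V)) (x : S.X') :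
    ∃ W : S.X'.affineOpens, x ∈ W.1 ∧ Nonempty (S.TSet (S.j₀ ⁻¹ᵁ W.1)) := by
  obtain ⟨x, rfl⟩ := surjective_j₀ (S := S) x
  obtain ⟨V, hx, ⟨b⟩⟩ := hloc x
  obtain ⟨T, rfl⟩ := exists_open S.j₀ V
  obtain ⟨W, hW, hxW, hWT⟩ := exists_isAffineOpen_mem_and_subset (U := T) (x := S.j₀ x) hx
  exact ⟨⟨W, hW⟩, hxW, ⟨S.T.map (homOfLE (S.j₀.preimage_mono hWT)).op b⟩⟩

theorem locNonempty (hloc : ∀ x : X₀, ∃ V : X₀.Opens, x ∈ V ∧ Nonempty (S.TSet V)) :
    LocNonempty (Opens.grothendieckTopology X₀) S.T ⊤ := by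
  refine ⟨⟨fun V _ => Nonempty (S.TSet V), ?_⟩, ?_, fun V f h => h⟩
  · rintro V V' _ ⟨b⟩ f
    exact ⟨S.T.map f.op b⟩
  · intro y _
    obtain ⟨V, hy, hV⟩ := hloc y
    exact ⟨V, homOfLE le_top, hV, hy⟩

variable {ι : Type} [Fintype ι]

/-- **Gluing**: given potentials for the difference maps, local lifts give a unique lift of potential zero. -/
theorem BasLF.exists_of_potential (E : BasLF S ι) (P : ∀ t, (D (E.L t)).Potential)
    (hloc : ∀ x : X₀, ∃ V : X₀.Opens, x ∈ V ∧ Nonempty (S.TSet V)) :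
    ∃ b : S.TSet ⊤, ∀ t, (P t).φ (U := op ⊤) b = 0 := by
  -- local existence and uniqueness
  have hex : ∀ V : X₀.Opens, Nonempty (S.TSet V) → ∃ b : S.TSet V, ∀ t, (P t).φ (U := op V) b = 0 := by
    rintro V ⟨b⟩
    obtain ⟨c, hc⟩ := E.exists_d_eq b (fun t => (-(P t).φ (U := op V) b : (pN i₀).obj.obj (op V)))
    refine ⟨c, fun t => ?_⟩
    have h1 := (P t).sub_φ (U := op V) c b
    rw [D_d, hc t, sub_eq_iff_eq_add] at h1
    exact h1.trans (neg_add_cancel _)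
  have huniq : ∀ (V : X₀.Opens) (b c : S.TSet V), (∀ t, (P t).φ (U := op V) b = 0) →
      (∀ t, (P t).φ (U := op V) c = 0) → b = c := by
    intro V b c hb hc
    refine E.ext fun t => ?_
    rw [← D_d, ← (P t).sub_φ, hb, hc, sub_zero]
    rfl
  have hmap : ∀ {V V' : X₀.Opens} (h : V' ≤ V) (b : S.TSet V), (∀ t, (P t).φ (U := op V) b = 0) →
      ∀ t, (P t).φ (U := op V') (S.T.map (homOfLE h).op b) = 0 := by
    intro V V' h b hb t
    rw [← (P t).map_φ, hb, map_zero]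
  let A := {W : S.X'.affineOpens // Nonempty (S.TSet (S.j₀ ⁻¹ᵁ W.1))}
  choose b hb using fun a : A => hex _ a.2
  obtain ⟨K, hK⟩ := exists_of_family (Y := S.X') (A := A) (fun a => a.1) (fun x => by
    obtain ⟨W, hx, hW⟩ := exists_cover hloc x
    exact ⟨⟨W, hW⟩, hx⟩) (fun a => (b a).I ⟨a.1, le_rfl⟩) (by
    intro a a' V ha ha'
    have h1 := (b a).res ⟨a.1, le_rfl⟩ ⟨V, S.j₀.preimage_mono ha⟩ ha
    have h2 := (b a').res ⟨a'.1, le_rfl⟩ ⟨V, S.j₀.preimage_mono ha'⟩ ha'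
    have h3 := huniq (S.j₀ ⁻¹ᵁ V.1) _ _ (hmap (S.j₀.preimage_mono ha) (b a) (hb a))
      (hmap (S.j₀.preimage_mono ha') (b a') (hb a'))
    have h4 := congrArg (fun c : S.TSet (S.j₀ ⁻¹ᵁ V.1) => c.I ⟨V, le_rfl⟩) h3
    exact h1.trans (h4.trans h2.symm))
  have hKl : ∀ W, S.IsLift W (K.ideal W) := isLift_of_cover K fun x => by
    obtain ⟨W, hx, hW⟩ := exists_cover hloc x
    refine ⟨W, hx, ?_⟩
    rw [hK ⟨W, hW⟩]
    exact (b ⟨W, hW⟩).lift ⟨W, le_rfl⟩
  refine ⟨ofIdeal K hKl ⊤, fun t => ?_⟩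
  -- the potential is zero locally
  have hloc0 : ∀ x : X₀, ∃ V : X₀.Opens, x ∈ V ∧ (P t).φ (U := op V) (ofIdeal K hKl V) = 0 := by
    intro x
    obtain ⟨W, hx, hW⟩ := exists_cover hloc (S.j₀ x)
    refine ⟨S.j₀ ⁻¹ᵁ W.1, hx, ?_⟩
    have : ofIdeal K hKl (S.j₀ ⁻¹ᵁ W.1) = b ⟨W, hW⟩ := by
      apply TSet.ext
      funext c
      have hc := le_of_preimage_le c.2
      change K.ideal c.1 = (b ⟨W, hW⟩).I c
      rw [← K.map_ideal (U := c.1) (V := W) hc, hK ⟨W, hW⟩]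
      exact (b ⟨W, hW⟩).res ⟨W, le_rfl⟩ c hc
    rw [this]
    exact hb _ t
  refine ext_of_mem (NN i₀) (V := i₀ ⁻¹ᵁ ⊤) fun y _ => ?_
  obtain ⟨V, hy, hV⟩ := hloc0 (i₀ y)
  refine ⟨i₀ ⁻¹ᵁ V, le_top, hy, ?_⟩
  refine ((P t).map_φ (homOfLE (le_top : V ≤ ⊤)).op (ofIdeal K hKl ⊤)).trans ?_
  refine Eq.trans ?_ (map_zero _).symm
  exact hV

variable (i₀) in
theorem subsingleton_pN (h1 : Subsingleton (Coh.HH Y₀ (NN i₀) 1)) : Subsingleton (Sheaf.H (pN i₀) 1) := by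
  have h2 := Groth.Agent.CohtopA.PushClosed.preservesFiniteColimits_push_of_isClosedEmbedding i₀.base
    i₀.isClosedEmbedding
  have e := Groth.Agent.CohtopA.PushClosed.HPushEquiv i₀.base (Coh.toAb (NN i₀)) 1
  have h3 : Subsingleton (CohTop.H (Coh.toAb (NN i₀)) 1) := h1
  exact e.symm.toEquiv.subsingleton

/-- Local lifts and `H¹(N) = 0` give a global lift. -/
theorem BasLF.nonempty_top (E : BasLF S ι) (h1 : Subsingleton (Coh.HH Y₀ (NN i₀) 1))
    (hloc : ∀ y : Y₀, ∃ V : X₀.Opens, i₀ y ∈ V ∧ Nonempty (S.TSet V)) :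
    Nonempty (S.TSet ⊤) := by
  have h2 := subsingleton_pN i₀ h1
  have hP : ∀ t, Nonempty (D (E.L t)).Potential := fun t =>
    Diff.exists_potential_of_H1 (J := Opens.grothendieckTopology X₀) (X := (⊤ : Opens X₀)) isTerminalTop
      (pN i₀) h2 (D (E.L t)) (locNonempty (exists_nonempty hloc))
  obtain ⟨b, -⟩ := E.exists_of_potential (fun t => (hP t).some) (exists_nonempty hloc)
  exact ⟨b⟩

end Sit

end K693.LHSit
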