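import Groth.Agent.DefT.K693.LHForm
import Groth.Agent.DefT.K693.HZero
import Groth.Prelude.Def_ArtFun6
import Groth.Prelude.Def_ArtFun2

/-!
# The local Hilbert functor: fibres along small extensions
-/

set_option autoImplicit false

universe u

open CategoryTheory CategoryTheory.Limits AlgebraicGeometry Opposite TopologicalSpace TensorProduct

namespace K693.LHSit

open Groth.Agent.CohqB.HomSheaf K693.ModSec K693.ConFam K693.IdealFam K693.LHAlg Groth.Agent.Fga.Torsor
open Groth.Agent.Divis.IdealComap ArtFun

section Art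

variable {k : Type u} [Field k]

theorem ker_res (A : Art k k) : RingHom.ker (A.res : A →+* k) = IsLocalRing.maximalIdeal A := by
  ext a
  exact (A.mem_maximalIdeal_iff a).symm

variable {C' C : Art k k} (p : C' ⟶ C)

theorem ker_res_comp : RingHom.ker ((C.res : C →+* k).comp (p.toAlgHom : C' →+* C)) = IsLocalRing.maximalIdeal C' := by
  rw [← ker_res]
  ext a
  change C.res (p a) = 0 ↔ C'.res a = 0
  rw [Art.res_app]

variable {p}

theorem smul_eq_of_semismall (hp : Art.IsSemismallExt p) (c : C') (j : RingHom.ker p.toAlgHom) :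
    c • j = C'.res c • j := by
  apply Subtype.ext
  change c * (j : C') = C'.res c • (j : C')
  rw [Algebra.smul_def, ← sub_eq_zero, ← sub_mul]
  have h1 : c - algebraMap k C' (C'.res c) ∈ IsLocalRing.maximalIdeal C' := by
    rw [Art.mem_maximalIdeal_iff, map_sub, AlgHom.commutes]
    exact sub_self _
  have h2 := Ideal.mul_mem_mul h1 j.2
  rw [hp.2] at h2
  exact h2

theorem finite_ker (hp : Art.IsSemismallExt p) : Module.Finite k (RingHom.ker p.toAlgHom) := by
  have h1 : (⊤ : Submodule C' (RingHom.ker p.toAlgHom)).FG := Module.Finite.fg_top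
  obtain ⟨s, hs⟩ := h1
  refine ⟨⟨s, ?_⟩⟩
  rw [eq_top_iff]
  intro j _
  have hj : j ∈ Submodule.span C' (s : Set (RingHom.ker p.toAlgHom)) := by rw [hs]; trivial
  induction hj using Submodule.span_induction with
  | mem x hx => exact Submodule.subset_span hx
  | zero => exact Submodule.zero_mem _
  | add x y _ _ hx hy => exact Submodule.add_mem _ (hx trivial) (hy trivial)
  | smul c x _ hx =>
    rw [smul_eq_of_semismall hp]
    exact Submodule.smul_mem _ _ (hx trivial)

theorem form_smul (hp : Art.IsSemismallExt p) (l : Module.Dual k (RingHom.ker p.toAlgHom)) (c : C')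
    (j : RingHom.ker p.toAlgHom) : l (c • j) = C.res (p c) * l j := by
  rw [smul_eq_of_semismall hp, map_smul, smul_eq_mul, Art.res_app]

theorem bas_exp {r : ℕ} (e : Module.Basis (Fin r) k (RingHom.ker p.toAlgHom)) (j : RingHom.ker p.toAlgHom) :
    ∃ c : Fin r → C', j = ∑ t, c t • e t := by
  refine ⟨fun t => algebraMap k C' (e.repr j t), ?_⟩
  conv_lhs => rw [← e.sum_repr j]
  exact Finset.sum_congr rfl fun t _ => (algebraMap_smul C' (e.repr j t) (e t)).symm

theorem bas_dual (hp : Art.IsSemismallExt p) {r : ℕ} (e : Module.Basis (Fin r) k (RingHom.ker p.toAlgHom))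
    (c : Fin r → C') (t : Fin r) : e.coord t (∑ s, c s • e s) = C.res (p (c t)) := by
  have h1 : ∑ s, c s • e s = ∑ s, C'.res (c s) • e s :=
    Finset.sum_congr rfl fun s _ => smul_eq_of_semismall hp (c s) (e s)
  rw [h1, Module.Basis.coord_apply, Module.Basis.repr_sum_self]
  exact (Art.res_app p (c t)).symm

end Art

section Hilb

variable {k : Type u} [Field k] {X Y : Scheme.{u}} {i : Y ⟶ X} [IsClosedImmersion i] {I₀ : X.IdealSheafData}
  (hi : i.ker = I₀) (x : X ⟶ Art.specPt k)
  {C' C : Art k k} (p : C' ⟶ C) (hp : Art.IsSemismallExt p) (I : (localHilb X x I₀).obj C)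

instance flat_toPt {Y : Scheme.{u}} (y : Y ⟶ Spec (CommRingCat.of k)) : Flat y := inferInstance

/-- The geometric situation attached to the local Hilbert functor. -/
noncomputable def geoI : Geo.{u} i x where
  C' := C'
  C := C
  p := (p.toAlgHom : C' →+* C)
  q := (C.res : C →+* k)
  hp := hp.1
  hq := C.res_surjective
  hmJ := by
    rw [ker_res_comp]
    exact hp.2
  hm := by
    rw [ker_res_comp]
    exact IsArtinianRing.isNilpotent_jacobson_bot (R := C') |> fun h => by
      rwa [IsLocalRing.jacobson_eq_maximalIdeal ⊥ bot_ne_top] at h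
  X' := Art.XA x C'
  X := Art.XA x C
  f' := Art.XApr x C'
  f := Art.XApr x C
  jX := Art.XAmap x p
  j₁ := Art.XAincl x C
  hf' := inferInstance
  sqX := Art.isPullback_XAmap x p
  sq₁ := isPullback_XAincl x C
  I := I.1
  hI := by rw [I.2.2, hi]

variable {hi x p I}

/-- The form attached to a linear form on the kernel. -/
noncomputable def formI (l : Module.Dual k (RingHom.ker p.toAlgHom)) : (geoI hi x p hp I).Form where
  l j := l j
  add a b := l.map_add a b
  smul c j := form_smul hp l c j

/-- The basis attached to a basis of the kernel. -/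
noncomputable def basI {r : ℕ} (e : Module.Basis (Fin r) k (RingHom.ker p.toAlgHom)) : (geoI hi x p hp I).Bas (Fin r) where
  e t := e t
  L t := formI hp (e.coord t)
  exp j := bas_exp e j
  dual c t := bas_dual hp e c t

variable (hi x p I)

theorem geo_iff (K : (Art.XA x C').IdealSheafData) :
    (∀ W, (geoI hi x p hp I).sit.IsLift W (K.ideal W)) ↔ Flat (K.subschemeι ≫ Art.XApr x C') ∧ K.comap (Art.XAmap x p) = I.1 :=
  (geoI hi x p hp I).forall_isLift_iff K

/-- The fibre of the local Hilbert functor, as a set of ideal sheaves. -/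
noncomputable def fibreEquivAux {X : Scheme.{u}} (x : X ⟶ Art.specPt k) (I₀ : X.IdealSheafData) {C' C : Art k k} (p : C' ⟶ C)
    (I : (localHilb X x I₀).obj C) : {I' : (localHilb X x I₀).obj C' // (localHilb X x I₀).map p I' = I} ≃
    {K : (Art.XA x C').IdealSheafData // Flat (K.subschemeι ≫ Art.XApr x C') ∧ K.comap (Art.XAmap x p) = I.1} where
  toFun I' := ⟨I'.1.1, I'.1.2.1, congrArg Subtype.val I'.2⟩
  invFun K := ⟨⟨K.1, K.2.1, by
    rw [← Art.XAincl_XAmap x p, Scheme.IdealSheafData.comap_comp, K.2.2]
    exact I.2.2⟩, Subtype.ext K.2.2⟩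
  left_inv _ := rfl
  right_inv _ := rfl

/-- The fibre of the local Hilbert functor is the set of global lifts. -/
noncomputable def fibreEquivI : {I' : (localHilb X x I₀).obj C' // (localHilb X x I₀).map p I' = I} ≃
    (geoI hi x p hp I).sit.TSet ⊤ :=
  (fibreEquivAux x I₀ p I).trans ((Equiv.subtypeEquivRight fun K => (geo_iff hi x p hp I K).symm).trans
    (Sit.topEquiv (S := (geoI hi x p hp I).sit)))

end Hilb

section Compat

variable {k : Type u} [Field k] (X : Scheme.{u}) (x : X ⟶ Art.specPt k) (I₀ : X.IdealSheafData)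
  {C' C : Art k k} (p : C' ⟶ C) (hp : Art.IsSemismallExt p) (I : (localHilb X x I₀).obj C)

/-- The geometric situation for the closed immersion of the closed subscheme. -/
noncomputable abbrev geo : Geo.{u} I₀.subschemeι x := geoI (Scheme.IdealSheafData.ker_subschemeι I₀) x p hp I

/-- The fibre of the local Hilbert functor, for the closed immersion of the closed subscheme. -/
noncomputable abbrev fibreEquiv : {I' : (localHilb X x I₀).obj C' // (localHilb X x I₀).map p I' = I} ≃
    (geo X x I₀ p hp I).sit.TSet ⊤ := fibreEquivI (Scheme.IdealSheafData.ker_subschemeι I₀) x p hp I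

variable {X x I₀ p I}

/-- The form attached to a linear form on the kernel. -/
noncomputable abbrev form (l : Module.Dual k (RingHom.ker p.toAlgHom)) : (geo X x I₀ p hp I).Form :=
  formI (hi := Scheme.IdealSheafData.ker_subschemeι I₀) hp l

/-- The basis attached to a basis of the kernel. -/
noncomputable abbrev bas {r : ℕ} (e : Module.Basis (Fin r) k (RingHom.ker p.toAlgHom)) :
    (geo X x I₀ p hp I).Bas (Fin r) := basI (hi := Scheme.IdealSheafData.ker_subschemeι I₀) hp e

end Compat

end K693.LHSit
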