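import Groth.Agent.DefT.K693.LHForm
import Groth.Agent.DefT.K693.FlatPush

/-!
# Morphisms of situations: naturality of the differences of lifts
-/

set_option autoImplicit false

universe u

open CategoryTheory CategoryTheory.Limits AlgebraicGeometry Opposite TopologicalSpace TensorProduct

namespace K693.LHSit

open Groth.Agent.CohqB.HomSheaf K693.ModSec K693.ConFam K693.IdealFam K693.LHAlg Groth.Agent.Fga.Torsor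

section Change

variable {Y₀ X₀ X₁ X₂ : Scheme.{u}} (i₀ : Y₀ ⟶ X₀) {j₁ : X₀ ⟶ X₁} {j₂ : X₀ ⟶ X₂} {u : X₂ ⟶ X₁}
  (h : j₂ ≫ u = j₁)

include h in
theorem pre_eq (W : X₁.Opens) : j₂ ⁻¹ᵁ u ⁻¹ᵁ W = j₁ ⁻¹ᵁ W := by
  subst h
  rfl

theorem rho_change (W : X₁.Opens) (x : Γ(X₁, W)) :
    rho i₀ j₁ W x = ro Y₀ (i₀.preimage_mono (pre_eq h W).ge) (rho i₀ j₂ (u ⁻¹ᵁ W) (u.app W x)) := by
  subst h
  have h1 := Groth.Agent.Sga67.Sec.resO_self (X := Y₀) (U := i₀ ⁻¹ᵁ j₂ ⁻¹ᵁ u ⁻¹ᵁ W) le_rfl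
    (rho i₀ j₂ (u ⁻¹ᵁ W) (u.app W x))
  exact h1.symm

theorem rho_change' (W : X₁.Opens) (x : Γ(X₁, W)) :
    rho i₀ j₂ (u ⁻¹ᵁ W) (u.app W x) = ro Y₀ (i₀.preimage_mono (pre_eq h W).le) (rho i₀ j₁ W x) := by
  subst h
  have h1 := Groth.Agent.Sga67.Sec.resO_self (X := Y₀) (U := i₀ ⁻¹ᵁ j₂ ⁻¹ᵁ u ⁻¹ᵁ W) le_rfl
    (rho i₀ j₂ (u ⁻¹ᵁ W) (u.app W x))
  exact h1.symm

theorem ro_ro_self {O O' : Y₀.Opens} (h1 : O ≤ O') (h2 : O' ≤ O) (x : Γ(Y₀, O)) : ro Y₀ h1 (ro Y₀ h2 x) = x :=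
  (Groth.Agent.Sga67.Sec.resO_resO h2 h1 x).trans (Groth.Agent.Sga67.Sec.resO_self _ x)

theorem cl_change (W : X₁.Opens) (x : Γ(X₁, W)) :
    cl i₀ j₁ W x = rs (Omega.conormal i₀) (i₀.preimage_mono (pre_eq h W).ge) (cl i₀ j₂ (u ⁻¹ᵁ W) (u.app W x)) := by
  subst h
  have h1 := rs_self (Omega.conormal i₀) (cl i₀ j₂ (u ⁻¹ᵁ W) (u.app W x))
  exact h1.symm

end Change

variable {Y₀ X₀ : Scheme.{u}} {i₀ : Y₀ ⟶ X₀} [IsClosedImmersion i₀]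

/-- A morphism of situations. -/
structure Mor (S₁ S₂ : Sit.{u} i₀) where
  φ : S₁.C' →+* S₂.C'
  u : S₂.X' ⟶ S₁.X'
  sq : IsPullback u S₂.f' S₁.f' (Spec.map (CommRingCat.ofHom φ))
  hm : S₁.m ≤ S₂.m.comap φ
  hJ : S₁.J ≤ S₂.J.comap φ
  hj : S₂.j₀ ≫ u = S₁.j₀
  hB : ∀ (W : S₁.X'.affineOpens) (h : IsAffineOpen (u ⁻¹ᵁ W.1)),
    (S₁.B.ideal W).map (u.app W.1).hom ⊔ (JR S₂.J : Ideal Γ(S₂.X', u ⁻¹ᵁ W.1)) = S₂.B.ideal ⟨u ⁻¹ᵁ W.1, h⟩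

namespace Mor

variable {S₁ S₂ : Sit.{u} i₀} (M : Mor S₁ S₂)

instance : IsAffineHom M.u := MorphismProperty.of_isPullback (P := @IsAffineHom) M.sq.flip inferInstance

/-- The preimage of an affine open. -/
def pre (W : S₁.X'.affineOpens) : S₂.X'.affineOpens := ⟨M.u ⁻¹ᵁ W.1, W.2.preimage M.u⟩

/-- The preimage of an affine open. -/
def preIn {V : X₀.Opens} (a : AffIn S₁.j₀ V) : AffIn S₂.j₀ V := ⟨M.pre a.1, (pre_eq M.hj a.1.1).le.trans a.2⟩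

theorem app_alg (W : S₁.X'.Opens) (c : S₁.C') : M.u.app W (S₁.alg W c) = S₂.alg (M.u ⁻¹ᵁ W) (M.φ c) :=
  app_str M.φ M.u S₁.f' S₂.f' M.sq.w W c

/-- The image of a lift is a lift. -/
theorem isLift_map {W : S₁.X'.affineOpens} {b : Ideal Γ(S₁.X', W.1)} (hb : S₁.IsLift W b) :
    S₂.IsLift (M.pre W) (b.map (M.u.app W.1).hom) where
  flat := (Sit.flat_iff (S := S₂) _).1 (K693.FlatPush.flat_quot_of_isPushout (K693.FlatPush.isPushout_str M.φ M.sq W) b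
    ((Sit.flat_iff (S := S₁) b).2 hb.flat))
  sup := by
    have h1 : (JR S₁.J : Ideal Γ(S₁.X', W.1)).map (M.u.app W.1).hom ≤ (JR S₂.J : Ideal Γ(S₂.X', M.u ⁻¹ᵁ W.1)) := by
      rw [JR, Ideal.map_map, Ideal.map_le_iff_le_comap]
      intro c hc
      rw [Ideal.mem_comap, RingHom.comp_apply]
      have h2 : (M.u.app W.1).hom (algebraMap S₁.C' Γ(S₁.X', W.1) c) = S₂.alg (M.u ⁻¹ᵁ W.1) (M.φ c) := M.app_alg W.1 c
      rw [h2]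
      exact Ideal.mem_map_of_mem _ (M.hJ hc)
    have h3 := M.hB W (W.2.preimage M.u)
    rw [← hb.sup, Ideal.map_sup, sup_assoc, sup_eq_right.2 h1] at h3
    exact h3

variable {L₁ : Sit.LF S₁} {L₂ : Sit.LF S₂}

variable (L₁ L₂) in
/-- Compatibility of linear forms. -/
def Compat : Prop := ∀ (W : S₁.X'.Opens) (j : S₁.J) (hj : M.φ j ∈ S₂.J),
  L₂.l (M.u ⁻¹ᵁ W) ⟨M.φ j, hj⟩ = ro Y₀ (i₀.preimage_mono (pre_eq M.hj W).le) (L₁.l W j)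

variable {M}

theorem dif_eq (hL : M.Compat L₁ L₂) {W : S₁.X'.affineOpens} {b c : Ideal Γ(S₁.X', W.1)} {b' c' : Ideal Γ(S₂.X', (M.pre W).1)}
    (hb : S₁.IsLift W b) (hc : S₁.IsLift W c) (hb' : S₂.IsLift (M.pre W) b') (hc' : S₂.IsLift (M.pre W) c')
    (hbb : b.map (M.u.app W.1).hom ≤ b') (hcc : c.map (M.u.app W.1).hom ≤ c') {x : Γ(S₁.X', W.1)} (hx : S₁.ρ W.1 x = 0) :
    L₁.dif W.1 b c x = ro Y₀ (i₀.preimage_mono (pre_eq M.hj W.1).ge) (L₂.dif (M.pre W).1 b' c' (M.u.app W.1 x)) := by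
  have hfl : Module.Flat S₂.C' Γ(S₂.X', M.u ⁻¹ᵁ W.1) := inferInstanceAs (Module.Flat S₂.C' Γ(S₂.X', (M.pre W).1))
  have h1 := (hb.two hc).dif_natural S₁.hmJ (L₁.lin W.1) S₂.hmJ M.φ M.hm M.hJ (M.u.app W.1).hom (M.app_alg W.1)
    (ro Y₀ (i₀.preimage_mono (pre_eq M.hj W.1).le)) (σ := S₂.ρ (M.u ⁻¹ᵁ W.1))
    (RingHom.ext fun y => rho_change' i₀ M.hj W.1 y) (hb'.two hc')
    (Ideal.map_le_iff_le_comap.1 hbb) (Ideal.map_le_iff_le_comap.1 hcc) (L₂.lin _) (fun j hj => hL W.1 j hj) ((RingHom.mem_ker).2 hx)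
  have h2 := congrArg (ro Y₀ (i₀.preimage_mono (pre_eq M.hj W.1).ge)) h1
  rw [ro_ro_self] at h2
  exact h2.symm

/-- **Naturality of the difference sections**. -/
theorem dsec_eq (hL : M.Compat L₁ L₂) {V : X₀.Opens} (b₁ c₁ : S₁.TSet V) (b₂ c₂ : S₂.TSet V)
    (hb : ∀ a : AffIn S₁.j₀ V, (b₁.I a).map (M.u.app a.1.1).hom ≤ b₂.I (M.preIn a))
    (hc : ∀ a : AffIn S₁.j₀ V, (c₁.I a).map (M.u.app a.1.1).hom ≤ c₂.I (M.preIn a)) :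
    Sit.dsec L₁ b₁ c₁ = Sit.dsec L₂ b₂ c₂ := by
  refine sec_ext_con i₀ S₁.j₀ (V := V) (G := Coh.structureModule Y₀) fun a x hx => ?_
  have hx' : S₂.ρ (M.preIn a).1.1 (M.u.app a.1.1 x) = 0 := by
    refine (rho_change' i₀ M.hj a.1.1 x).trans ?_
    rw [hx]
    exact map_zero _
  rw [Sit.comp_dsec L₁ b₁ c₁ a hx, cl_change i₀ M.hj a.1.1 x]
  have h1 := comp_map (Sit.dsec L₂ b₂ c₂) (V := i₀ ⁻¹ᵁ S₂.j₀ ⁻¹ᵁ (M.preIn a).1.1) (i₀.preimage_mono (M.preIn a).2)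
    (i₀.preimage_mono (pre_eq M.hj a.1.1).ge) (cl i₀ S₂.j₀ (M.preIn a).1.1 (M.u.app a.1.1 x))
  have h2 := Sit.comp_dsec L₂ b₂ c₂ (M.preIn a) hx'
  refine Eq.trans ?_ h1.symm
  rw [h2]
  exact dif_eq hL (b₁.lift a) (c₁.lift a) (b₂.lift (M.preIn a)) (c₂.lift (M.preIn a)) (hb a) (hc a) hx

end Mor

end K693.LHSit
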