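import Groth.Agent.DefT.K693.LHGMor
import Groth.Agent.Fga.TorsorClass

/-!
# Naturality of the obstruction classes
-/

set_option autoImplicit false

universe u

open CategoryTheory CategoryTheory.Limits AlgebraicGeometry Opposite TopologicalSpace TensorProduct

namespace K693.LHSit

open Groth.Agent.CohqB.HomSheaf K693.ModSec K693.ConFam K693.IdealFam K693.LHAlg Groth.Agent.Fga.Torsor

variable {Y₀ X₀ : Scheme.{u}} {i₀ : Y₀ ⟶ X₀} [IsClosedImmersion i₀]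

namespace Mor

variable {S₁ S₂ : Sit.{u} i₀} (M : Mor S₁ S₂)

/-- Compatible pairs of families of lifts. -/
def IsPairT {V : X₀.Opens} (b₁ : S₁.TSet V) (b₂ : S₂.TSet V) : Prop :=
  ∀ a : AffIn S₁.j₀ V, (b₁.I a).map (M.u.app a.1.1).hom ≤ b₂.I (M.preIn a)

/-- The presheaf of compatible pairs. -/
def TP : (Opens X₀)ᵒᵖ ⥤ Type u where
  obj V := {b : S₁.TSet V.unop × S₂.TSet V.unop // M.IsPairT b.1 b.2}
  map {V V'} f := TypeCat.ofHom fun b => ⟨(S₁.T.map f b.1.1, S₂.T.map f b.1.2), fun a => b.2 (a.up f.unop.le)⟩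

/-- The first projection. -/
def pr₁ : M.TP ⟶ S₁.T where
  app V := TypeCat.ofHom fun b => b.1.1

/-- The second projection. -/
def pr₂ : M.TP ⟶ S₂.T where
  app V := TypeCat.ofHom fun b => b.1.2

theorem exists_pair {W : S₁.X'.affineOpens} {b : Ideal Γ(S₁.X', W.1)} (hb : S₁.IsLift W b) :
    ∃ (b₁ : S₁.TSet (S₁.j₀ ⁻¹ᵁ W.1)) (b₂ : S₂.TSet (S₁.j₀ ⁻¹ᵁ W.1)), M.IsPairT b₁ b₂ := by
  let b₂' := Sit.ofLift (M.isLift_map hb)
  refine ⟨Sit.ofLift hb, S₂.T.map (homOfLE (pre_eq M.hj W.1).ge).op b₂', fun a => ?_⟩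
  have h1 : a.1.1 ≤ W.1 := Sit.le_of_preimage_le a.2
  change (b.map (ro S₁.X' h1)).map (M.u.app a.1.1).hom ≤ (b.map (M.u.app W.1).hom).map (ro S₂.X' (M.u.preimage_mono h1))
  rw [Ideal.map_map, Ideal.map_map]
  refine le_of_eq (congrArg (fun g => Ideal.map g b) ?_)
  ext y
  exact congr($(M.u.naturality (homOfLE h1).op) y)

theorem locNonempty_TP (hloc : ∀ x : X₀, ∃ V : X₀.Opens, x ∈ V ∧ Nonempty (S₁.TSet V)) :
    LocNonempty (Opens.grothendieckTopology X₀) M.TP ⊤ := by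
  refine ⟨⟨fun V _ => Nonempty (M.TP.obj (op V)), ?_⟩, ?_, fun V f h => h⟩
  · rintro V V' _ ⟨b⟩ f
    exact ⟨M.TP.map f.op b⟩
  · intro y _
    obtain ⟨W, hy, ⟨b⟩⟩ := Sit.exists_cover hloc (S₁.j₀ y)
    obtain ⟨b₁, b₂, h⟩ := M.exists_pair (b.lift ⟨W, le_rfl⟩)
    exact ⟨S₁.j₀ ⁻¹ᵁ W.1, homOfLE le_top, ⟨⟨(b₁, b₂), h⟩⟩, hy⟩

include M in
theorem exists_nonempty₂ (hloc : ∀ x : X₀, ∃ V : X₀.Opens, x ∈ V ∧ Nonempty (S₁.TSet V)) (x : X₀) :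
    ∃ V : X₀.Opens, x ∈ V ∧ Nonempty (S₂.TSet V) := by
  obtain ⟨W, hy, ⟨b⟩⟩ := Sit.exists_cover hloc (S₁.j₀ x)
  obtain ⟨b₁, b₂, h⟩ := M.exists_pair (b.lift ⟨W, le_rfl⟩)
  exact ⟨_, hy, ⟨b₂⟩⟩

variable {M} {L₁ : Sit.LF S₁} {L₂ : Sit.LF S₂}

theorem pull_eq (hL : M.Compat L₁ L₂) : (Sit.D L₁).pull M.pr₁ = (Sit.D L₂).pull M.pr₂ := by
  have h : ∀ (U : (Opens X₀)ᵒᵖ) (a b : M.TP.obj U), ((Sit.D L₁).pull M.pr₁).d a b = ((Sit.D L₂).pull M.pr₂).d a b :=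
    fun U a b => dsec_eq hL (V := U.unop) a.1.1 b.1.1 a.1.2 b.1.2 a.2 b.2
  generalize (Sit.D L₁).pull M.pr₁ = D₁ at h
  generalize (Sit.D L₂).pull M.pr₂ = D₂ at h
  cases D₁
  cases D₂
  congr 1
  funext U a b
  exact h U a b

/-- **Naturality of the class**. -/
theorem isCls_map (hL : M.Compat L₁ L₂) (hloc : ∀ x : X₀, ∃ V : X₀.Opens, x ∈ V ∧ Nonempty (S₁.TSet V))
    {c : Sheaf.H (pN i₀) 1} (h : IsCls (isTerminalTop : IsTerminal (⊤ : Opens X₀)) (Sit.D L₁) c) :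
    IsCls (isTerminalTop : IsTerminal (⊤ : Opens X₀)) (Sit.D L₂) c := by
  obtain ⟨c₂, hc₂⟩ := exists_isCls (isTerminalTop : IsTerminal (⊤ : Opens X₀)) (G := pN i₀) (Sit.D L₂)
    (Sit.locNonempty (M.exists_nonempty₂ hloc))
  have h1 := h.pull isTerminalTop M.pr₁
  have h2 := hc₂.pull isTerminalTop M.pr₂
  rw [← pull_eq hL] at h2
  have h3 : c = c₂ := IsCls.unique (isTerminalTop : IsTerminal (⊤ : Opens X₀)) (G := pN i₀) (M.locNonempty_TP hloc) h1 h2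
  rw [h3]
  exact hc₂

end Mor

end K693.LHSit
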