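import Groth.Agent.DefT.K693.LHHilb
import Groth.Agent.Fga.SqZero

/-!
# The local Hilbert functor: lifting when `H¹(N) = 0` and lifts exist locally

* `exists_lift_of_H1`: `H¹(Y₀, N) = 0` and local lifts at the points of `Y₀` give a lift along a semismall extension.
* `fibre_ext`: uniqueness of lifts when `Γ(Y₀, N) = 0`.
-/

set_option autoImplicit false

universe u

open CategoryTheory CategoryTheory.Limits AlgebraicGeometry Opposite TopologicalSpace TensorProduct

namespace K693.LHUser

open K693.LHSit K693.IdealFam ArtFun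

variable {k : Type u} [Field k] (X : Scheme.{u}) (x : X ⟶ Art.specPt k) (I₀ : X.IdealSheafData)
  {C' C : Art k k} {p : C' ⟶ C} (hp : Art.IsSemismallExt p) (I : (localHilb X x I₀).obj C)

instance (C : Art k k) : IsClosedImmersion (Art.XAincl x C) :=
  isClosedImmersion_of_sq (C.res : C →+* k) C.res_surjective (isPullback_XAincl x C)

include hp in
theorem isClosedImmersion_XAmap : IsClosedImmersion (Art.XAmap x p) :=
  isClosedImmersion_of_sq (p.toAlgHom : C' →+* C) hp.1 (Art.isPullback_XAmap x p)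

/-- A local lift of `I` on the affine open `W` of `X ×_k Spec C'`. -/
structure IsLocalLift (p : C' ⟶ C) (I : (localHilb X x I₀).obj C) (W : (Art.XA x C').affineOpens)
    (b : Ideal Γ(Art.XA x C', W.1)) : Prop where
  flat : ((Ideal.Quotient.mk b).comp (str (Art.XApr x C') W.1)).Flat
  map_eq : ∀ h : IsAffineOpen (Art.XAmap x p ⁻¹ᵁ W.1), b.map ((Art.XAmap x p).app W.1).hom = I.1.ideal ⟨_, h⟩

include hp in
/-- **Lifting**: `H¹(Y₀, N) = 0` and local lifts at the points of `Y₀` give a lift along a semismall extension. -/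
theorem exists_lift_of_H1 [DCoh.HasSheafHom (Omega.conormal I₀.subschemeι)]
    (h1 : Subsingleton (Coh.HH I₀.subscheme ((DCoh.sheafHom (Omega.conormal I₀.subschemeι)).obj
      (Coh.structureModule I₀.subscheme)) 1))
    (hloc : ∀ y : I₀.subscheme, ∃ W : (Art.XA x C').affineOpens, Art.XAincl x C' (I₀.subschemeι y) ∈ W.1 ∧
      ∃ b, IsLocalLift X x I₀ p I W b) :
    ∃ I' : (localHilb X x I₀).obj C', (localHilb X x I₀).map p I' = I := by
  have hfin := finite_ker hp
  let e := Module.finBasis k (RingHom.ker p.toAlgHom)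
  let E := (basI (hi := Scheme.IdealSheafData.ker_subschemeι I₀) (x := x) (I := I) hp e).lf
  have hN : Subsingleton (Coh.HH I₀.subscheme
      (Groth.Agent.CohqB.HomSheaf.homSheaf (Omega.conormal I₀.subschemeι) (Coh.structureModule I₀.subscheme)) 1) :=
    (Groth.Agent.Fga.SqZero.H_congr ((SheafOfModules.toSheaf I₀.subscheme.ringCatSheaf).mapIso
      ((Groth.Agent.Sga2.PnHomAdj.sheafHomIso (Omega.conormal I₀.subschemeι)).app
        (Coh.structureModule I₀.subscheme))) 1).some.symm.subsingleton
  obtain ⟨b⟩ := E.nonempty_top hN (fun y => by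
    obtain ⟨W, hy, b, hb⟩ := hloc y
    have := isClosedImmersion_XAmap X x hp
    have hl : (geoI (Scheme.IdealSheafData.ker_subschemeι I₀) x p hp I).sit.IsLift W b :=
      ((geoI (Scheme.IdealSheafData.ker_subschemeι I₀) x p hp I).isLift_iff W b).2 ⟨hb.flat, hb.map_eq (W.2.preimage _)⟩
    refine ⟨(geoI (Scheme.IdealSheafData.ker_subschemeι I₀) x p hp I).sit.j₀ ⁻¹ᵁ W.1, ?_, ⟨Sit.ofLift hl⟩⟩
    have h2 : Art.XAincl x C' = Art.XAincl x C ≫ Art.XAmap x p := (Art.XAincl_XAmap x p).symm
    rw [h2] at hy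
    exact hy)
  exact ⟨((fibreEquivI (Scheme.IdealSheafData.ker_subschemeι I₀) x p hp I).symm b).1, ((fibreEquivI (Scheme.IdealSheafData.ker_subschemeι I₀) x p hp I).symm b).2⟩

include hp in
/-- Uniqueness of lifts when the normal sheaf has no sections. -/
theorem fibre_ext (h0 : Subsingleton (Omega.conormal I₀.subschemeι ⟶ Coh.structureModule I₀.subscheme))
    (I₁ I₂ : (localHilb X x I₀).obj C') (h : (localHilb X x I₀).map p I₁ = (localHilb X x I₀).map p I₂) : I₁ = I₂ := by
  have hfin := finite_ker hp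
  let I := (localHilb X x I₀).map p I₂
  let e := Module.finBasis k (RingHom.ker p.toAlgHom)
  let E := (basI (hi := Scheme.IdealSheafData.ker_subschemeι I₀) (x := x) (I := I) hp e).lf
  have hsub : Subsingleton Γ(Groth.Agent.CohqB.HomSheaf.homSheaf (Omega.conormal I₀.subschemeι)
      (Coh.structureModule I₀.subscheme), ⊤) :=
    (Groth.Agent.CohqB.HomSheaf.topEquiv (Omega.conormal I₀.subschemeι)
      (Coh.structureModule I₀.subscheme)).toEquiv.subsingleton
  let F := fibreEquivI (Scheme.IdealSheafData.ker_subschemeι I₀) x p hp I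
  have h1 : F ⟨I₁, h⟩ = F ⟨I₂, rfl⟩ := E.ext fun t => Subsingleton.elim (α := Γ(Groth.Agent.CohqB.HomSheaf.homSheaf (Omega.conormal I₀.subschemeι)
      (Coh.structureModule I₀.subscheme), ⊤)) _ _
  exact congrArg Subtype.val (F.injective h1)

end K693.LHUser
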