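import Groth.Agent.DefT.K693.LHDelta
import Groth.Agent.DefT.K693.LHPair
import Groth.Agent.DefT.K693.LHUser
import Groth.Agent.DefT.K693.HOne
import Groth.Prelude.Def_ArtFun3

/-!
# The obstruction theory of the local Hilbert functor
-/

set_option autoImplicit false

universe u

open CategoryTheory CategoryTheory.Limits AlgebraicGeometry Opposite TopologicalSpace TensorProduct

namespace K693.LHSit

open Groth.Agent.CohqB.HomSheaf K693.ModSec K693.ConFam K693.IdealFam K693.LHAlg Groth.Agent.Fga.Torsor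
open K693.HOne

section Class

variable {Y₀ X₀ : Scheme.{u}} {i₀ : Y₀ ⟶ X₀} [IsClosedImmersion i₀] {S : Sit.{u} i₀}

/-- `c` is the class of the linear form `L`. -/
def IsC (L : Sit.LF S) (c : Sheaf.H (pN i₀) 1) : Prop :=
  IsCls (isTerminalTop : IsTerminal (⊤ : Opens X₀)) (Sit.D L) c

theorem diff_ext {T : (Opens X₀)ᵒᵖ ⥤ Type u} {G : (Opens X₀)ᵒᵖ ⥤ AddCommGrpCat.{u}} {D₁ D₂ : Diff T G}
    (h : ∀ (U : (Opens X₀)ᵒᵖ) (a b : T.obj U), D₁.d a b = D₂.d a b) : D₁ = D₂ := by
  cases D₁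
  cases D₂
  congr 1
  funext U a b
  exact h U a b

theorem isC_add {L L' L'' : Sit.LF S} (h : ∀ W j, L''.l W j = L.l W j + L'.l W j) {c c' : Sheaf.H (pN i₀) 1}
    (hc : IsC L c) (hc' : IsC L' c') : IsC L'' (c + c') := by
  have h1 : Sit.D L'' = (Sit.D L).add (Sit.D L') :=
    diff_ext fun U a b => Sit.dsec_addl h (V := U.unop) a b
  rw [IsC, h1]
  exact IsCls.add (isTerminalTop : IsTerminal (⊤ : Opens X₀)) (G := pN i₀) (D := Sit.D L) (D' := Sit.D L') hc hc'

theorem isC_mul {L L' : Sit.LF S} (r : Γ(Y₀, ⊤))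
    (h : ∀ (W : S.X'.Opens) j, L'.l W j = ro Y₀ le_top r * L.l W j) {c : Sheaf.H (pN i₀) 1} (hc : IsC L c) :
    IsC L' (Sheaf.H.map (sg i₀ (show Coh.Γtop Y₀ from r)) 1 c) := by
  refine IsCls.map (isTerminalTop : IsTerminal (⊤ : Opens X₀)) (G := pN i₀) (D := Sit.D L) hc (sg i₀ (show Coh.Γtop Y₀ from r)) (Sit.D L') ?_
  intro U a b
  have h1 := Sit.dsec_mull (L := L) (L' := L') (V := U.unop) (ro Y₀ le_top r) (fun a j => by
    rw [h]
    congr 1
    exact (Groth.Agent.Sga67.Sec.resO_resO _ _ _).symm) a b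
  refine Eq.trans h1 ?_
  change _ = (Coh.smulAb (NN i₀) (show Coh.Γtop Y₀ from r)).hom.app _ _
  rw [Coh.smulAb_app]
  rfl

theorem isC_exists (L : Sit.LF S) (hloc : ∀ x : X₀, ∃ V : X₀.Opens, x ∈ V ∧ Nonempty (S.TSet V)) :
    ∃ c, IsC L c := exists_isCls (isTerminalTop : IsTerminal (⊤ : Opens X₀)) (G := pN i₀) (Sit.D L) (Sit.locNonempty hloc)

theorem isC_unique {L : Sit.LF S} (hloc : ∀ x : X₀, ∃ V : X₀.Opens, x ∈ V ∧ Nonempty (S.TSet V)) {c c' : Sheaf.H (pN i₀) 1}
    (hc : IsC L c) (hc' : IsC L c') : c = c' :=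
  IsCls.unique (isTerminalTop : IsTerminal (⊤ : Opens X₀)) (G := pN i₀) (Sit.locNonempty hloc) hc hc'

theorem isC_zero (L : Sit.LF S) (b : S.TSet ⊤) : IsC L 0 := by
  refine isCls_zero (G := pN i₀) _ (D := Sit.D L) ⟨fun {U} t => (Sit.D L).d t (S.T.map (homOfLE le_top).op b), ?_, ?_⟩
  · intro U V f a
    rw [(Sit.D L).map_d]
    rfl
  · intro U a c
    have h1 := (Sit.D L).d_add a c (S.T.map (homOfLE le_top).op b)
    rw [← h1, add_sub_cancel_right]

end Class

section Art

open ArtFun ArtFun.Art K693.LHUser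

variable {k : Type u} [Field k] {X Y : Scheme.{u}} {i : Y ⟶ X} [IsClosedImmersion i] {I₀ : X.IdealSheafData}
  (hi : i.ker = I₀) {x : X ⟶ Art.specPt k}

/-- Local lifts exist. -/
def LocLift {X : Scheme.{u}} {x : X ⟶ Art.specPt k} {I₀ : X.IdealSheafData} {C' C : Art k k} (p : C' ⟶ C)
    (I : (localHilb X x I₀).obj C) : Prop :=
  ∀ y : I₀.subscheme, ∃ W : (Art.XA x C').affineOpens, Art.XAincl x C' (I₀.subschemeι y) ∈ W.1 ∧
      ∃ b, IsLocalLift X x I₀ p I W b

include hi in
theorem exists_subschemeι (y : Y) : ∃ y' : I₀.subscheme, I₀.subschemeι y' = i y := by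
  have h1 : i y ∈ Set.range I₀.subschemeι := by
    rw [Scheme.IdealSheafData.range_subschemeι, ← hi, Scheme.Hom.support_ker]
    exact subset_closure ⟨y, rfl⟩
  exact h1

variable {C' C : Art k k} {p : C' ⟶ C} (hp : IsSemismallExt p) {I : (localHilb X x I₀).obj C}

theorem LocLift.loc (h : LocLift p I) (z : X) : ∃ V : X.Opens, z ∈ V ∧ Nonempty ((geoI hi x p hp I).sit.TSet V) := by
  refine Sit.exists_nonempty (fun y => ?_) z
  obtain ⟨y', hy'⟩ := exists_subschemeι hi y
  obtain ⟨W, hy, b, hb⟩ := h y'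
  rw [hy'] at hy
  have := isClosedImmersion_XAmap X x hp
  have hl : (geoI hi x p hp I).sit.IsLift W b :=
    ((geoI hi x p hp I).isLift_iff W b).2 ⟨hb.flat, hb.map_eq (W.2.preimage _)⟩
  refine ⟨(geoI hi x p hp I).sit.j₀ ⁻¹ᵁ W.1, ?_, ⟨Sit.ofLift hl⟩⟩
  have h2 : Art.XAincl x C' = Art.XAincl x C ≫ Art.XAmap x p := (Art.XAincl_XAmap x p).symm
  rw [h2] at hy
  exact hy

/-- The class of a linear form. -/
noncomputable def ocls (h : LocLift p I) (l : Module.Dual k (RingHom.ker p.toAlgHom)) : Coh.HH Y (NN i) 1 :=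
  kap i (isC_exists (formI (hi := hi) (x := x) (I := I) hp l).lf (h.loc hi hp)).choose

theorem ocls_eq (h : LocLift p I) {l : Module.Dual k (RingHom.ker p.toAlgHom)} {c : Sheaf.H (pN i) 1}
    (hc : IsC (formI (hi := hi) (x := x) (I := I) hp l).lf c) : ocls hi hp h l = kap i c :=
  congrArg _ (isC_unique (h.loc hi hp) (isC_exists (formI (hi := hi) (x := x) (I := I) hp l).lf (h.loc hi hp)).choose_spec hc)

theorem exists_ocls (h : LocLift p I) (l : Module.Dual k (RingHom.ker p.toAlgHom)) :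
    ∃ c : Sheaf.H (pN i) 1, IsC (formI (hi := hi) (x := x) (I := I) hp l).lf c ∧
      ocls hi hp h l = kap i c :=
  ⟨_, (isC_exists (formI (hi := hi) (x := x) (I := I) hp l).lf (h.loc hi hp)).choose_spec, rfl⟩

theorem ocls_add (h : LocLift p I) (l l' : Module.Dual k (RingHom.ker p.toAlgHom)) :
    ocls hi hp h (l + l') = ocls hi hp h l + ocls hi hp h l' := by
  obtain ⟨c, hc, h1⟩ := exists_ocls hi hp h l
  obtain ⟨c', hc', h2⟩ := exists_ocls hi hp h l'
  rw [h1, h2, ← map_add]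
  exact ocls_eq hi hp h (isC_add (fun W j => map_add _ _ _) hc hc')

theorem ocls_smul' (h : LocLift p I) (a : k) (l : Module.Dual k (RingHom.ker p.toAlgHom)) :
    ocls hi hp h (a • l) = (show Coh.Γtop Y from str (i ≫ x) ⊤ a) • ocls hi hp h l := by
  obtain ⟨c, hc, h1⟩ := exists_ocls hi hp h l
  rw [h1, ← kap_sg]
  refine ocls_eq hi hp h (isC_mul (str (i ≫ x) ⊤ a) (fun W j => ?_) hc)
  refine (map_mul _ _ _).trans ?_
  exact congrArg (fun z => z * _) (ro_str (i ≫ x) _ _).symm

/-- **Naturality** of the class. -/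
theorem ocls_map {D' D : Art k k} {q : D' ⟶ D} (hq : Art.IsSemismallExt q) {K : (localHilb X x I₀).obj D}
    (g' : C' ⟶ D') (g : C ⟶ D) (w : g' ≫ q = p ≫ g) (hIK : (localHilb X x I₀).map g I = K)
    (l : Module.Dual k (RingHom.ker p.toAlgHom)) (l' : Module.Dual k (RingHom.ker q.toAlgHom))
    (hl : ∀ (j : RingHom.ker p.toAlgHom) (hj : g' (j : C') ∈ RingHom.ker q.toAlgHom), l' ⟨g' (j : C'), hj⟩ = l j)
    (h : LocLift p I) (h' : LocLift q K) : ocls hi hp h l = ocls hi hq h' l' := by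
  obtain ⟨c, hc, h1⟩ := exists_ocls hi hp h l
  rw [h1]
  refine (ocls_eq hi hq h' ?_).symm
  exact Mor.isCls_map (M := (gmor hi hp hq g' g w hIK).mor)
    (Geo.GMor.compat (L₁ := formI (hi := hi) hp l) (L₂ := formI (hi := hi) hq l') (gmor hi hp hq g' g w hIK) hl) (h.loc hi hp) hc

theorem ocls_eq_zero_of_lift (h : LocLift p I) (l : Module.Dual k (RingHom.ker p.toAlgHom)) (I' : Fib p I) :
    ocls hi hp h l = 0 := by
  rw [ocls_eq hi hp h (isC_zero (formI (hi := hi) (x := x) (I := I) hp l).lf (fibreEquivI hi x p hp I I')), map_zero]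

theorem exists_lift_of_ocls (h : LocLift p I) (hz : ∀ l, ocls hi hp h l = 0) : Nonempty (Fib p I) := by
  have hfin := finite_ker hp
  let e := Module.finBasis k (RingHom.ker p.toAlgHom)
  let E := (basI (hi := hi) (x := x) (I := I) hp e).lf
  have hP : ∀ t, Nonempty (Sit.D (E.L t)).Potential := fun t => by
    obtain ⟨c, hc, h1⟩ := exists_ocls hi hp h (e.coord t)
    rw [hz] at h1
    have h2 : c = 0 := (kap i).injective (h1.symm.trans (map_zero _).symm)
    subst h2
    exact IsCls.exists_potential (isTerminalTop : IsTerminal (⊤ : Opens X)) (G := pN i) hc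
  obtain ⟨b, -⟩ := E.exists_of_potential (fun t => (hP t).some) (h.loc hi hp)
  exact ⟨(fibreEquivI hi x p hp I).symm b⟩

end Art

section Obs

open ArtFun ArtFun.Art K693.LHUser

variable {k : Type u} [Field k] {X Y : Scheme.{u}} {i : Y ⟶ X} [IsClosedImmersion i] {I₀ : X.IdealSheafData}
  (hi : i.ker = I₀) {x : X ⟶ Art.specPt k}
  [hO : Y.Over (Spec (CommRingCat.of k))] (hY : Y ↘ Spec (CommRingCat.of k) = i ≫ x)

section

variable {C' C : Art k k} {p : C' ⟶ C} (hp : IsSemismallExt p) {I : (localHilb X x I₀).obj C}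

/-- The class as a linear map. -/
noncomputable def oclsL (h : LocLift p I) :
    Module.Dual k (RingHom.ker p.toAlgHom) →ₗ[k] Coh.HH Y (NN i) 1 where
  toFun l := ocls hi hp h l
  map_add' l l' := ocls_add hi hp h l l'
  map_smul' a l := by
    refine (ocls_smul' hi hp h a l).trans ?_
    have h1 : (show Coh.Γtop Y from str (i ≫ x) ⊤ a) =
        Coh.toGlobal (Y ↘ Spec (CommRingCat.of k)) a := by
      rw [← hY]
      exact (K693.HZero.toGlobal_eq _ a).symm
    rw [h1]
    rfl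

/-- The obstruction. -/
noncomputable def ob (h : LocLift p I) : Coh.HH Y (NN i) 1 ⊗[k] (RingHom.ker p.toAlgHom) :=
  haveI := finite_ker hp
  ∑ t, oclsL hi hY hp h ((Module.finBasis k (RingHom.ker p.toAlgHom)).coord t) ⊗ₜ (Module.finBasis k (RingHom.ker p.toAlgHom)) t

theorem lTensor_ob (h : LocLift p I) (l : Module.Dual k (RingHom.ker p.toAlgHom)) :
    LinearMap.lTensor _ l (ob hi hY hp h) = oclsL hi hY hp h l ⊗ₜ 1 := by
  have := finite_ker hp
  let e := Module.finBasis k (RingHom.ker p.toAlgHom)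
  have h1 : l = ∑ t, l (e t) • e.coord t := by
    refine e.ext fun s => ?_
    rw [LinearMap.sum_apply]
    simp [Finsupp.single_apply]
  rw [ob, map_sum]
  conv_rhs => rw [h1, map_sum, TensorProduct.sum_tmul]
  refine Finset.sum_congr rfl fun t _ => ?_
  rw [LinearMap.lTensor_tmul, map_smul, TensorProduct.smul_tmul]
  congr 1
  rw [smul_eq_mul, mul_one]

end

theorem tensor_ext {V J : Type*} [AddCommGroup V] [Module k V] [AddCommGroup J] [Module k J] [Module.Finite k J]
    {a b : V ⊗[k] J} (h : ∀ l : Module.Dual k J, LinearMap.lTensor V l a = LinearMap.lTensor V l b) : a = b := by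
  let e := Module.finBasis k J
  have h1 : (LinearMap.id : J →ₗ[k] J) = ∑ t, (LinearMap.toSpanSingleton k J (e t)) ∘ₗ e.coord t := by
    refine LinearMap.ext fun j => ?_
    rw [LinearMap.sum_apply]
    exact (e.sum_repr j).symm
  have h2 : ∀ c : V ⊗[k] J, c = ∑ t, LinearMap.lTensor V (LinearMap.toSpanSingleton k J (e t)) (LinearMap.lTensor V (e.coord t) c) := by
    intro c
    conv_lhs => rw [← LinearMap.id_apply (R := k) c, ← LinearMap.lTensor_id, h1]
    have h3 : LinearMap.lTensor V (∑ t, (LinearMap.toSpanSingleton k J (e t)) ∘ₗ e.coord t) =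
        ∑ t, LinearMap.lTensor V ((LinearMap.toSpanSingleton k J (e t)) ∘ₗ e.coord t) :=
      map_sum (LinearMap.lTensorHom V) _ _
    rw [h3, LinearMap.sum_apply]
    refine Finset.sum_congr rfl fun t _ => ?_
    rw [LinearMap.lTensor_comp]
    rfl
  rw [h2 a, h2 b]
  exact Finset.sum_congr rfl fun t _ => by rw [h]

include hi hY in
/-- **The obstruction theory of the local Hilbert functor**. -/
theorem hasObsTheory (hLL : ∀ {C' C : Art k k} (p : C' ⟶ C) (_ : IsSemismallExt p) (I : (localHilb X x I₀).obj C), LocLift p I) :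
    HasObsTheory (localHilb X x I₀) (Coh.HH Y (NN i) 1) := by
  refine ⟨⟨fun {C' C} p hp I => ob hi hY hp (hLL p hp I), ?_, ?_⟩⟩
  · intro C' C p hp I
    constructor
    · intro h
      have h1 : ∀ l, ocls hi hp (hLL p hp I) l = 0 := by
        intro l
        have h2 := lTensor_ob hi hY hp (hLL p hp I) l
        rw [h, map_zero] at h2
        have h3 := congrArg (TensorProduct.rid k _) h2
        rw [map_zero, TensorProduct.rid_tmul, one_smul] at h3
        exact h3.symm
      obtain ⟨I'⟩ := exists_lift_of_ocls hi hp (hLL p hp I) h1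
      exact ⟨I'.1, I'.2⟩
    · rintro ⟨I', hI'⟩
      refine Finset.sum_eq_zero fun t _ => ?_
      have h1 : oclsL hi hY hp (hLL p hp I) = 0 := LinearMap.ext fun l => ocls_eq_zero_of_lift hi hp (hLL p hp I) l ⟨I', hI'⟩
      rw [h1, LinearMap.zero_apply, TensorProduct.zero_tmul]
  · intro C' C p hp K hK hKJ hq I
    have := finite_ker hq
    refine tensor_ext fun l => ?_
    have h1 := lTensor_ob hi hY hp (hLL p hp I) (l ∘ₗ ((kerToQuot hK p hKJ).restrictScalars k))
    rw [LinearMap.lTensor_comp] at h1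
    refine (lTensor_ob hi hY hq (hLL _ hq I) l).trans (Eq.trans ?_ h1.symm)
    congr 1
    exact (ocls_map hi hp hq (quotMk C' K hK) (𝟙 C) (by rw [quotMk_quotFactor, Category.comp_id])
      congr($((localHilb X x I₀).map_id C) I) (l ∘ₗ ((kerToQuot hK p hKJ).restrictScalars k)) l (fun j hj => rfl)
      (hLL p hp I) (hLL _ hq I)).symm

end Obs

end K693.LHSit
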