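import Groth.Agent.DefT.K693.LHTrans
import Groth.Agent.DefT.K693.IdealFam
import Groth.Agent.Fga.TorsorClass
import Groth.Prelude.Def_DCoh4
import Groth.Agent.CohtopA.PushClosed
import Mathlib.AlgebraicGeometry.Morphisms.Flat

/-!
# Lifts of closed subschemes along a small extension: the presheaf of local lifts

`Sit`: the data of a flat family `X'` over `C'` with closed fibre `X₀`, `Y₀ ⊆ X₀` closed, and the ideals `B W` of a flat
lifting of `Y₀` modulo `J`.  `S.T : (Opens Y₀)ᵒᵖ ⥤ Type u`: the presheaf of local lifts of `B` to flat closed subschemes.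
-/

set_option autoImplicit false

universe u

open CategoryTheory AlgebraicGeometry Opposite TopologicalSpace TensorProduct

namespace K693.LHSit

open Groth.Agent.CohqB.HomSheaf K693.ModSec K693.ConFam K693.IdealFam K693.LHAlg Groth.Agent.Fga.Torsor

/-- The normal sheaf. -/
noncomputable abbrev NN {Y₀ X₀ : Scheme.{u}} (i₀ : Y₀ ⟶ X₀) : Y₀.Modules :=
  homSheaf (Omega.conormal i₀) (Coh.structureModule Y₀)

/-- The push-forward to `X₀` of the normal sheaf. -/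
noncomputable abbrev pN {Y₀ X₀ : Scheme.{u}} (i₀ : Y₀ ⟶ X₀) : CohTop.Ab X₀.toPresheafedSpace.carrier :=
  (CohTop.push i₀.base).obj (Coh.toAb (NN i₀))

/-- The situation. -/
structure Sit {Y₀ X₀ : Scheme.{u}} (i₀ : Y₀ ⟶ X₀) [IsClosedImmersion i₀] where
  C' : Type u
  [ring : CommRing C']
  m : Ideal C'
  J : Ideal C'
  hJm : J ≤ m
  hmJ : m * J = ⊥
  hm : IsNilpotent m
  X' : Scheme.{u}
  j₀ : X₀ ⟶ X'
  [hj₀ : IsClosedImmersion j₀]
  f' : X' ⟶ Spec (CommRingCat.of C')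
  [hf' : Flat f']
  ker_j₀ : ∀ W : X'.affineOpens, RingHom.ker (j₀.app W.1).hom = m.map (str f' W.1)
  B : X'.IdealSheafData
  hB : ∀ W : X'.affineOpens, B.ideal W ⊔ m.map (str f' W.1) = RingHom.ker (rho i₀ j₀ W.1)

namespace Sit

attribute [instance] Sit.ring Sit.hj₀ Sit.hf'

variable {Y₀ X₀ : Scheme.{u}} {i₀ : Y₀ ⟶ X₀} [IsClosedImmersion i₀] (S : Sit.{u} i₀)

/-- The structure maps. -/
noncomputable abbrev alg (W : S.X'.Opens) : S.C' →+* Γ(S.X', W) := str S.f' W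

theorem alg_ro {V W : S.X'.Opens} (h : W ≤ V) (c : S.C') : ro S.X' h (S.alg V c) = S.alg W c := ro_str S.f' h c

noncomputable instance (W : S.X'.Opens) : Algebra S.C' Γ(S.X', W) := (S.alg W).toAlgebra

instance (W : S.X'.affineOpens) : Module.Flat S.C' Γ(S.X', W.1) := flat_str S.f' W

theorem algebraMap_eq (W : S.X'.Opens) : algebraMap S.C' Γ(S.X', W) = S.alg W := rfl

/-- Restriction, as an algebra map. -/
noncomputable def roA {V W : S.X'.Opens} (h : W ≤ V) : Γ(S.X', V) →ₐ[S.C'] Γ(S.X', W) where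
  toRingHom := ro S.X' h
  commutes' := S.alg_ro h

/-- The composite closed immersion `Y₀ ⟶ X'`. -/
abbrev i : Y₀ ⟶ S.X' := i₀ ≫ S.j₀

/-- Restriction of functions to `Y₀`. -/
noncomputable abbrev ρ (W : S.X'.Opens) : Γ(S.X', W) →+* Γ(Y₀, i₀ ⁻¹ᵁ S.j₀ ⁻¹ᵁ W) := rho i₀ S.j₀ W

/-- The local lifts over an affine open `W`. -/
structure IsLift (W : S.X'.affineOpens) (b : Ideal Γ(S.X', W.1)) : Prop where
  flat : Module.Flat S.C' (Γ(S.X', W.1) ⧸ b)
  sup : b ⊔ (JR S.J : Ideal Γ(S.X', W.1)) = S.B.ideal W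

variable {S}

theorem IsLift.good {W : S.X'.affineOpens} {b : Ideal Γ(S.X', W.1)} (h : S.IsLift W b) : Good (S.ρ W.1) S.m b where
  flat := h.flat
  sup := by
    have h1 := S.hB W
    rw [← h.sup, sup_assoc] at h1
    have h2 : (JR S.J : Ideal Γ(S.X', W.1)) ⊔ S.m.map (S.alg W.1) = JR S.m :=
      sup_eq_right.2 (Ideal.map_mono S.hJm)
    rw [h2] at h1
    exact h1

theorem IsLift.two {W : S.X'.affineOpens} {b c : Ideal Γ(S.X', W.1)} (h : S.IsLift W b) (h' : S.IsLift W c) :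
    Two (S.ρ W.1) S.m S.J b c :=
  ⟨h.good, h'.good, h.sup.trans h'.sup.symm⟩

variable (S) in
/-- Families of local lifts. -/
@[ext] structure TSet (V : X₀.Opens) : Type u where
  I : ∀ a : AffIn S.j₀ V, Ideal Γ(S.X', a.1.1)
  lift : ∀ a, S.IsLift a.1 (I a)
  res : ∀ (a c : AffIn S.j₀ V) (h : c.1.1 ≤ a.1.1), (I a).map (ro S.X' h) = I c

variable (S) in
/-- The presheaf of local lifts. -/
def T : (Opens X₀)ᵒᵖ ⥤ Type u where
  obj V := S.TSet V.unop
  map {V V'} f := TypeCat.ofHom fun b => ⟨fun a => b.I (a.up f.unop.le), fun a => b.lift (a.up f.unop.le), fun a c h =>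
    b.res (a.up f.unop.le) (c.up f.unop.le) h⟩

/-- A compatible family of linear forms on `J`. -/
structure LF (S : Sit.{u} i₀) where
  l : ∀ W : S.X'.Opens, S.J → Γ(Y₀, i₀ ⁻¹ᵁ S.j₀ ⁻¹ᵁ W)
  lin : ∀ W, IsLin (S.ρ W) S.J (l W)
  res : ∀ {V W : S.X'.Opens} (h : W ≤ V) (j : S.J), l W j = ro Y₀ (i₀.preimage_mono (S.j₀.preimage_mono h)) (l V j)

/-- The difference map on an affine open. -/
noncomputable abbrev LF.dif (L : LF S) (W : S.X'.Opens) (b c : Ideal Γ(S.X', W)) :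
    Γ(S.X', W) → Γ(Y₀, i₀ ⁻¹ᵁ S.j₀ ⁻¹ᵁ W) :=
  LHAlg.dif (S.ρ W) S.m S.J (L.l W) b c

section Wrap

variable (L : LF S) {W : S.X'.affineOpens} {b c d : Ideal Γ(S.X', W.1)} (hb : S.IsLift W b) (hc : S.IsLift W c)
  (hd : S.IsLift W d)

include hb hc

theorem LF.dif_add {x y : Γ(S.X', W.1)} (hx : S.ρ W.1 x = 0) (hy : S.ρ W.1 y = 0) :
    L.dif W.1 b c (x + y) = L.dif W.1 b c x + L.dif W.1 b c y :=
  (hb.two hc).dif_add S.hmJ (L.lin _) hx hy

theorem LF.dif_mul (r : Γ(S.X', W.1)) {x : Γ(S.X', W.1)} (hx : S.ρ W.1 x = 0) :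
    L.dif W.1 b c (r * x) = S.ρ W.1 r * L.dif W.1 b c x :=
  (hb.two hc).dif_mul S.hmJ (L.lin _) r hx

theorem LF.dif_zero {x : Γ(S.X', W.1)} (hx : x ∈ (JR S.m : Ideal Γ(S.X', W.1))) : L.dif W.1 b c x = 0 :=
  (hb.two hc).dif_zero S.hmJ (L.lin _) hx

theorem LF.dif_symm {x : Γ(S.X', W.1)} (hx : S.ρ W.1 x = 0) : L.dif W.1 c b x = - L.dif W.1 b c x :=
  (hb.two hc).dif_symm S.hJm S.hmJ (L.lin _) hx

include hd in
theorem LF.dif_trans {x : Γ(S.X', W.1)} (hx : S.ρ W.1 x = 0) :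
    L.dif W.1 b c x + L.dif W.1 c d x = L.dif W.1 b d x :=
  (hb.two hc).dif_trans (hc.two hd) S.hJm S.hmJ (L.lin _) hx

end Wrap

theorem dif_ro (L : LF S) {V W : S.X'.affineOpens} (h : W.1 ≤ V.1) {b c : Ideal Γ(S.X', V.1)} {b' c' : Ideal Γ(S.X', W.1)}
    (h1b : S.IsLift V b) (h1c : S.IsLift V c) (h2b : S.IsLift W b') (h2c : S.IsLift W c')
    (hb : b.map (ro S.X' h) ≤ b') (hc : c.map (ro S.X' h) ≤ c') {x : Γ(S.X', V.1)} (hx : S.ρ V.1 x = 0) :
    L.dif W.1 b' c' (ro S.X' h x) = ro Y₀ (i₀.preimage_mono (S.j₀.preimage_mono h)) (L.dif V.1 b c x) :=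
  (h1b.two h1c).dif_natural S.hmJ (L.lin V.1) S.hmJ (RingHom.id _) le_rfl le_rfl (ro S.X' h) (S.alg_ro h)
    (ro Y₀ (i₀.preimage_mono (S.j₀.preimage_mono h)))
    (RingHom.ext fun y => rho_ro i₀ S.j₀ h y) (h2b.two h2c) (Ideal.map_le_iff_le_comap.1 hb) (Ideal.map_le_iff_le_comap.1 hc)
    (L.lin W.1) (fun j _ => L.res h j) ((RingHom.mem_ker).2 hx)

theorem mem_JRm {W : S.X'.affineOpens} {x : Γ(S.X', W.1)} (hx : S.j₀.app W.1 x = 0) : x ∈ (JR S.m : Ideal Γ(S.X', W.1)) := by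
  have : x ∈ RingHom.ker (S.j₀.app W.1).hom := hx
  rw [S.ker_j₀] at this
  exact this

/-- The difference of two families, as a section of the normal sheaf. -/
theorem exists_D (L : LF S) {V : X₀.Opens} (b c : S.TSet V) :
    ∃ s : Γ(NN i₀, i₀ ⁻¹ᵁ V), ∀ (a : AffIn S.j₀ V) x, S.ρ a.1.1 x = 0 →
      comp s (i₀ ⁻¹ᵁ S.j₀ ⁻¹ᵁ a.1.1) (i₀.preimage_mono a.2) (cl i₀ S.j₀ a.1.1 x) = L.dif a.1.1 (b.I a) (c.I a) x := by
  refine exists_sec_con i₀ S.j₀ (V := V) (G := Coh.structureModule Y₀) (fun a => L.dif a.1.1 (b.I a) (c.I a)) ?_ ?_ ?_ ?_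
  · intro a x y hx hy
    exact L.dif_add (b.lift a) (c.lift a) hx hy
  · intro a r x hx
    exact L.dif_mul (b.lift a) (c.lift a) r hx
  · intro a x hx
    exact L.dif_zero (b.lift a) (c.lift a) (mem_JRm hx)
  · intro a a' h x hx
    exact dif_ro L h (b.lift a) (c.lift a) (b.lift a') (c.lift a') (b.res a a' h).le (c.res a a' h).le hx

/-- The difference of two families, as a section of the normal sheaf. -/
noncomputable def dsec (L : LF S) {V : X₀.Opens} (b c : S.TSet V) : Γ(NN i₀, i₀ ⁻¹ᵁ V) := (exists_D L b c).choose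

theorem comp_dsec (L : LF S) {V : X₀.Opens} (b c : S.TSet V) (a : AffIn S.j₀ V) {x} (hx : S.ρ a.1.1 x = 0) :
    comp (dsec L b c) (i₀ ⁻¹ᵁ S.j₀ ⁻¹ᵁ a.1.1) (i₀.preimage_mono a.2) (cl i₀ S.j₀ a.1.1 x) =
      L.dif a.1.1 (b.I a) (c.I a) x :=
  (exists_D L b c).choose_spec a x hx

theorem dsec_add (L : LF S) {V : X₀.Opens} (b c e : S.TSet V) : dsec L b c + dsec L c e = dsec L b e := by
  refine sec_ext_con i₀ S.j₀ (V := V) (G := Coh.structureModule Y₀) fun a x hx => ?_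
  have h0 := LinearMap.congr_fun (comp_add (dsec L b c) (dsec L c e)
      (i₀ ⁻¹ᵁ S.j₀ ⁻¹ᵁ a.1.1) (i₀.preimage_mono a.2)) (cl i₀ S.j₀ a.1.1 x)
  refine Eq.trans h0 ?_
  rw [LinearMap.add_apply, comp_dsec L b c a hx, comp_dsec L c e a hx, comp_dsec L b e a hx]
  exact L.dif_trans (b.lift a) (c.lift a) (e.lift a) hx

theorem dsec_res (L : LF S) {V V' : X₀.Opens} (h : V' ≤ V) (b c : S.TSet V) :
    rs (NN i₀) (i₀.preimage_mono h) (dsec L b c) = dsec L (S.T.map (homOfLE h).op b) (S.T.map (homOfLE h).op c) := by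
  refine sec_ext_con i₀ S.j₀ (V := V') (G := Coh.structureModule Y₀) fun a x hx => ?_
  exact (comp_dsec L b c (a.up h) hx).trans
    (comp_dsec L (S.T.map (homOfLE h).op b) (S.T.map (homOfLE h).op c) a hx).symm

/-- The difference operation on local lifts. -/
noncomputable def D (L : LF S) : Diff S.T (pN i₀).obj where
  d {V} b c := dsec L (V := V.unop) b c
  d_add {V} b c e := dsec_add L (V := V.unop) b c e
  map_d {V V'} f b c := dsec_res L f.unop.le b c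

theorem D_d (L : LF S) {V : X₀.Opens} (b c : S.TSet V) : (D L).d (U := op V) b c = dsec L b c := rfl

end Sit

end K693.LHSit
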