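import Groth.Agent.DefT.K693.LHSit
import Mathlib.RingTheory.TensorProduct.Quotient

/-!
# The presheaf of local lifts is a pseudo-torsor under (powers of) the normal sheaf
-/

set_option autoImplicit false

universe u

open CategoryTheory AlgebraicGeometry Opposite TopologicalSpace TensorProduct

namespace K693.LHSit

open Groth.Agent.CohqB.HomSheaf K693.ModSec K693.ConFam K693.IdealFam K693.LHAlg Groth.Agent.Fga.Torsor

/-- Base change of a flat algebra to a quotient is flat. -/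
theorem flat_quot (R S : Type u) [CommRing R] [CommRing S] [Algebra R S] (I : Ideal R)
    [Module.Flat R S] : Module.Flat (R ⧸ I) (S ⧸ I.map (algebraMap R S)) :=
  Module.Flat.of_linearEquiv
    (Algebra.TensorProduct.quotIdealMapEquivQuotTensor S I).toLinearEquiv

theorem flat_quot_map {C R S : Type u} [CommRing C] [CommRing R] [CommRing S] [Algebra C R] [Algebra C S]
    (f : R →ₐ[C] S) (hf : f.toRingHom.Flat) (b : Ideal R) (hb : Module.Flat C (R ⧸ b)) :
    Module.Flat C (S ⧸ b.map f.toRingHom) := by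
  let := f.toRingHom.toAlgebra
  have : Module.Flat R S := hf
  have h1 := flat_quot R S b
  have : IsScalarTower C R S := IsScalarTower.of_algebraMap_eq fun c => (f.commutes c).symm
  have : IsScalarTower C (R ⧸ b) (S ⧸ b.map (algebraMap R S)) := IsScalarTower.of_algebraMap_eq fun c => by
    rw [IsScalarTower.algebraMap_apply C R (R ⧸ b), ← IsScalarTower.algebraMap_apply R (R ⧸ b) (S ⧸ b.map (algebraMap R S)),
      IsScalarTower.algebraMap_apply C S (S ⧸ b.map (algebraMap R S)), IsScalarTower.algebraMap_apply C R S,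
      IsScalarTower.algebraMap_apply R S (S ⧸ b.map (algebraMap R S))]
  exact Module.Flat.trans C (R ⧸ b) (S ⧸ b.map (algebraMap R S))

theorem flat_ro {X : Scheme.{u}} {V W : X.affineOpens} (h : W.1 ≤ V.1) : (ro X h).Flat := by
  have h1 := HasRingHomProperty.appLE (P := @Flat) (𝟙 X) inferInstance V W (by simpa using h)
  have h2 : (𝟙 X : X ⟶ X).appLE V.1 W.1 (by simpa using h) = X.presheaf.map (homOfLE h).op := by
    rw [Scheme.Hom.appLE]
    simp only [Scheme.Hom.id_app]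
    exact Category.id_comp _
  rw [h2] at h1
  exact h1

namespace Sit

variable {Y₀ X₀ : Scheme.{u}} {i₀ : Y₀ ⟶ X₀} [IsClosedImmersion i₀] {S : Sit.{u} i₀}

/-- `ker ρ` over a smaller affine open is generated by `ker ρ`. -/
theorem ker_map {V W : S.X'.affineOpens} (h : W.1 ≤ V.1) :
    (RingHom.ker (S.ρ V.1)).map (ro S.X' h) = RingHom.ker (S.ρ W.1) := by
  have h1 : ∀ W : S.X'.affineOpens, S.i.ker.ideal W = RingHom.ker (S.ρ W.1) := by
    intro W
    rw [Scheme.Hom.ker_apply]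
    congr 1
  rw [← h1, ← h1]
  exact Scheme.IdealSheafData.map_ideal S.i.ker h

theorem JR_map {V W : S.X'.Opens} (h : W ≤ V) (J : Ideal S.C') :
    (JR J : Ideal Γ(S.X', V)).map (ro S.X' h) = JR J := by
  rw [JR, JR, Ideal.map_map]
  congr 1
  ext c
  exact S.alg_ro h c

theorem B_map {V W : S.X'.affineOpens} (h : W.1 ≤ V.1) : (S.B.ideal V).map (ro S.X' h) = S.B.ideal W :=
  Scheme.IdealSheafData.map_ideal S.B h

/-- The restriction of a lift to a smaller affine open. -/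
theorem IsLift.map {V W : S.X'.affineOpens} (h : W.1 ≤ V.1) {b : Ideal Γ(S.X', V.1)} (hb : S.IsLift V b) :
    S.IsLift W (b.map (ro S.X' h)) where
  flat := flat_quot_map (S.roA h) (flat_ro h) b hb.flat
  sup := by
    have h1 := congrArg (Ideal.map (ro S.X' h)) hb.sup
    rw [Ideal.map_sup, JR_map, B_map] at h1
    exact h1

/-- A finite family of linear forms on `J` which is the dual of a basis. -/
structure BasLF (S : Sit.{u} i₀) (ι : Type) [Fintype ι] where
  e : ι → S.J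
  L : ι → LF S
  bas : ∀ W : S.X'.affineOpens, IsBas (S.ρ W.1) S.J e (fun t => (L t).l W.1)

variable {ι : Type} [Fintype ι] (E : BasLF S ι)

theorem BasLF.lift_ext (E : BasLF S ι) {W : S.X'.affineOpens} {b c : Ideal Γ(S.X', W.1)} (hb : S.IsLift W b) (hc : S.IsLift W c)
    (h : ∀ t x, S.ρ W.1 x = 0 → (E.L t).dif W.1 b c x = 0) : b = c :=
  (hb.two hc).eq_of_dif_eq_zero (E.bas W) S.hJm S.hmJ h

/-- **Separation**. -/
theorem BasLF.ext (E : BasLF S ι) {V : X₀.Opens} {b c : S.TSet V} (h : ∀ t, dsec (E.L t) b c = 0) : b = c := by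
  apply TSet.ext
  funext a
  refine E.lift_ext (b.lift a) (c.lift a) fun t x hx => ?_
  rw [← comp_dsec (E.L t) b c a hx, h t]
  rfl

/-- **Separation**, checking only over the opens contained in `T`. -/
theorem BasLF.ext' (E : BasLF S ι) {V : X₀.Opens} {T : S.X'.Opens} (hT : i₀ ⁻¹ᵁ V ≤ i₀ ⁻¹ᵁ S.j₀ ⁻¹ᵁ T) {b c : S.TSet V}
    (h : ∀ a : AffIn S.j₀ V, a.1.1 ≤ T → b.I a = c.I a) : b = c := by
  refine E.ext fun t => ?_
  refine sec_ext_con' i₀ S.j₀ (V := V) (G := Coh.structureModule Y₀) (T := T) hT fun a ha x hx => ?_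
  refine (comp_dsec (E.L t) b c a hx).trans ?_
  rw [h a ha]
  refine ((c.lift a).good.dif_self S.hmJ ((E.L t).lin _) hx).trans ?_
  exact (LinearMap.zero_apply _).symm

/-- **Transitivity**. -/
theorem BasLF.exists_d_eq (E : BasLF S ι) {V : X₀.Opens} (b : S.TSet V) (g : ι → Γ(NN i₀, i₀ ⁻¹ᵁ V)) :
    ∃ c : S.TSet V, ∀ t, dsec (E.L t) c b = g t := by
  -- the local homomorphisms
  let φ : ∀ (a : AffIn S.j₀ V), ι → Γ(S.X', a.1.1) → Γ(Y₀, i₀ ⁻¹ᵁ S.j₀ ⁻¹ᵁ a.1.1) :=
    fun a t x => comp (g t) (i₀ ⁻¹ᵁ S.j₀ ⁻¹ᵁ a.1.1) (i₀.preimage_mono a.2) (cl i₀ S.j₀ a.1.1 x)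
  have hadd : ∀ a t x y, S.ρ a.1.1 x = 0 → S.ρ a.1.1 y = 0 → φ a t (x + y) = φ a t x + φ a t y := by
    intro a t x y hx hy
    change comp (g t) _ (i₀.preimage_mono a.2) (cl i₀ S.j₀ a.1.1 (x + y)) = _
    rw [cl_add i₀ S.j₀ hx hy]
    exact map_add _ _ _
  have hmul : ∀ a t r x, S.ρ a.1.1 x = 0 → φ a t (r * x) = S.ρ a.1.1 r * φ a t x := by
    intro a t r x hx
    change comp (g t) _ (i₀.preimage_mono a.2) (cl i₀ S.j₀ a.1.1 (r * x)) = _
    rw [cl_mul i₀ S.j₀ r hx]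
    exact LinearMap.map_smul (comp (g t) (i₀ ⁻¹ᵁ S.j₀ ⁻¹ᵁ a.1.1) (i₀.preimage_mono a.2)) (S.ρ a.1.1 r) (cl i₀ S.j₀ a.1.1 x)
  have hzero : ∀ a t (x : Γ(S.X', a.1.1)), x ∈ (JR S.m : Ideal Γ(S.X', a.1.1)) → φ a t x = 0 := by
    intro a t x hx
    change comp (g t) _ (i₀.preimage_mono a.2) (cl i₀ S.j₀ a.1.1 x) = _
    have h1 : x ∈ RingHom.ker (S.j₀.app a.1.1).hom := by
      rw [S.ker_j₀]
      exact hx
    rw [cl_zero i₀ S.j₀ h1]
    exact map_zero _
  have hρ : ∀ a : AffIn S.j₀ V, Function.Surjective (S.ρ a.1.1) := fun a =>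
    (i₀.app_surjective _ (a.1.2.preimage S.j₀)).comp (S.j₀.app_surjective _ a.1.2)
  choose c hc using fun a : AffIn S.j₀ V => (b.lift a).good.exists_of_dif (E.bas a.1) S.hJm S.hmJ (hρ a) (φ a)
    (fun t x y hx hy => hadd a t x y hx hy) (fun t r x hx => hmul a t r x hx) (fun t x hx => hzero a t x hx)
  have hlift : ∀ a, S.IsLift a.1 (c a) := fun a =>
    ⟨(hc a).1.left.flat, (hc a).1.eq.trans (b.lift a).sup⟩
  have hres : ∀ (a a' : AffIn S.j₀ V) (h : a'.1.1 ≤ a.1.1), (c a).map (ro S.X' h) = c a' := by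
    intro a a' h
    have hl : S.IsLift a'.1 ((c a).map (ro S.X' h)) := (hlift a).map h
    refine E.lift_ext hl (hlift a') fun t x hx => ?_
    have h1 : ∀ x, S.ρ a'.1.1 x = 0 → (E.L t).dif a'.1.1 ((c a).map (ro S.X' h)) (b.I a') x = φ a' t x := by
      intro x hx
      have hx' : x ∈ (RingHom.ker (S.ρ a.1.1)).map (ro S.X' h) := by
        rw [ker_map]
        exact hx
      have key : (E.L t).dif a'.1.1 ((c a).map (ro S.X' h)) (b.I a') x = φ a' t x ∧ S.ρ a'.1.1 x = 0 := by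
        refine Submodule.span_induction (p := fun x _ =>
          (E.L t).dif a'.1.1 ((c a).map (ro S.X' h)) (b.I a') x = φ a' t x ∧ S.ρ a'.1.1 x = 0) ?_ ?_ ?_ ?_ hx'
        · rintro _ ⟨y, hy, rfl⟩
          have hy' : S.ρ a.1.1 y = 0 := hy
          refine ⟨?_, ?_⟩
          · refine (dif_ro (E.L t) h (hlift a) (b.lift a) hl (b.lift a') le_rfl (b.res a a' h).le hy').trans ?_
            refine (congrArg _ ((hc a).2 t y hy)).trans ?_
            change ro Y₀ _ (comp (g t) _ (i₀.preimage_mono a.2) (cl i₀ S.j₀ a.1.1 y)) =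
              comp (g t) _ (i₀.preimage_mono a'.2) (cl i₀ S.j₀ a'.1.1 (ro S.X' h y))
            rw [cl_ro i₀ S.j₀ h hy']
            exact (comp_map (g t) (i₀.preimage_mono a.2) (i₀.preimage_mono (S.j₀.preimage_mono h)) _).symm
          · exact (rho_ro i₀ S.j₀ h y).trans ((congrArg _ hy').trans (map_zero _))
        · refine ⟨?_, map_zero _⟩
          rw [(E.L t).dif_zero hl (b.lift a') (zero_mem _), hzero a' t 0 (zero_mem _)]
        · rintro x y _ _ ⟨h1, h2⟩ ⟨h3, h4⟩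
          refine ⟨?_, by rw [map_add, h2, h4, add_zero]⟩
          rw [(E.L t).dif_add hl (b.lift a') h2 h4, hadd a' t x y h2 h4, h1, h3]
        · rintro r x _ ⟨h1, h2⟩
          refine ⟨?_, by rw [smul_eq_mul, map_mul, h2, mul_zero]⟩
          rw [smul_eq_mul, (E.L t).dif_mul hl (b.lift a') r h2, hmul a' t r x h2, h1]
      exact key.1
    rw [← (E.L t).dif_trans hl (b.lift a') (hlift a') hx, h1 x hx,
      (E.L t).dif_symm (hlift a') (b.lift a') hx]
    exact (congrArg (fun z => φ a' t x + -z) ((hc a').2 t x hx)).trans (add_neg_cancel _)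
  refine ⟨⟨c, hlift, hres⟩, fun t => ?_⟩
  refine sec_ext_con i₀ S.j₀ (V := V) (G := Coh.structureModule Y₀) fun a x hx => ?_
  refine (comp_dsec (E.L t) ⟨c, hlift, hres⟩ b a hx).trans ?_
  exact (hc a).2 t x hx

theorem dsec_self (L : LF S) {V : X₀.Opens} (b : S.TSet V) : dsec L b b = 0 := (D L).d_self (U := op V) b

theorem dsec_symm (L : LF S) {V : X₀.Opens} (b c : S.TSet V) : dsec L c b = - dsec L b c := (D L).d_symm (U := op V) b c

/-- Additivity in the linear form. -/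
theorem dsec_addl {L L' L'' : LF S} (h : ∀ W j, L''.l W j = L.l W j + L'.l W j) {V : X₀.Opens} (b c : S.TSet V) :
    dsec L'' b c = dsec L b c + dsec L' b c := by
  refine sec_ext_con i₀ S.j₀ (V := V) (G := Coh.structureModule Y₀) fun a x hx => ?_
  have h0 := LinearMap.congr_fun (comp_add (dsec L b c) (dsec L' b c)
      (i₀ ⁻¹ᵁ S.j₀ ⁻¹ᵁ a.1.1) (i₀.preimage_mono a.2)) (cl i₀ S.j₀ a.1.1 x)
  refine Eq.trans ?_ h0.symm
  rw [LinearMap.add_apply, comp_dsec L b c a hx, comp_dsec L' b c a hx, comp_dsec L'' b c a hx]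
  have h1 : L''.l a.1.1 = fun j => L.l a.1.1 j + L'.l a.1.1 j := funext (h a.1.1)
  change LHAlg.dif (S.ρ a.1.1) S.m S.J (L''.l a.1.1) (b.I a) (c.I a) x = _
  rw [h1]
  exact ((b.lift a).two (c.lift a)).dif_addl S.hmJ (L.lin _) (L'.lin _) hx

/-- Homogeneity in the linear form. -/
theorem dsec_mull {L L' : LF S} {V : X₀.Opens} (r : Γ(Y₀, i₀ ⁻¹ᵁ V))
    (h : ∀ (a : AffIn S.j₀ V) j, L'.l a.1.1 j = ro Y₀ (i₀.preimage_mono a.2) r * L.l a.1.1 j) (b c : S.TSet V) :
    dsec L' b c = r • dsec L b c := by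
  refine sec_ext_con i₀ S.j₀ (V := V) (G := Coh.structureModule Y₀) fun a x hx => ?_
  have h0 := LinearMap.congr_fun (comp_smul r (dsec L b c)
      (i₀ ⁻¹ᵁ S.j₀ ⁻¹ᵁ a.1.1) (i₀.preimage_mono a.2)) (cl i₀ S.j₀ a.1.1 x)
  refine Eq.trans ?_ h0.symm
  rw [LinearMap.smul_apply, comp_dsec L b c a hx, comp_dsec L' b c a hx]
  have h1 : L'.l a.1.1 = fun j => ro Y₀ (i₀.preimage_mono a.2) r * L.l a.1.1 j := funext (h a)
  change LHAlg.dif (S.ρ a.1.1) S.m S.J (L'.l a.1.1) (b.I a) (c.I a) x = _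
  rw [h1]
  exact ((b.lift a).two (c.lift a)).dif_mull S.hmJ (L.lin _) _ hx

/-- The lifts over `V`, if there is one, are in bijection with the sections of the normal sheaf. -/
noncomputable def BasLF.equivOf (E : BasLF S ι) {V : X₀.Opens} (b₀ : S.TSet V) : S.TSet V ≃ (ι → Γ(NN i₀, i₀ ⁻¹ᵁ V)) :=
  Equiv.ofBijective (fun b t => dsec (E.L t) b b₀) ⟨fun b c h => by
    refine E.ext fun t => ?_
    have h1 : dsec (E.L t) b b₀ = dsec (E.L t) c b₀ := congrFun h t
    rw [← dsec_add (E.L t) b b₀ c, dsec_symm (E.L t) c b₀, h1]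
    exact add_neg_cancel _, fun g => by
    obtain ⟨c, hc⟩ := E.exists_d_eq b₀ g
    exact ⟨c, funext hc⟩⟩

theorem BasLF.equivOf_apply (E : BasLF S ι) {V : X₀.Opens} (b₀ b : S.TSet V) (t : ι) :
    E.equivOf b₀ b t = dsec (E.L t) b b₀ := rfl

end Sit

end K693.LHSit
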