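import Groth.Agent.DefT.K693.LHDiff
import Mathlib.RingTheory.TensorProduct.Quotient
import Mathlib.LinearAlgebra.TensorProduct.Tower

/-!
# Lifts of ideals with flat quotient along a small extension: flatness criterion and transitivity

See `K693.LHAlg`.
-/

set_option autoImplicit false
universe u

open TensorProduct

namespace K693.LHAlg

open Groth.Agent.Fga.RelCartAlg

section Base

variable {C' M M' : Type u} [CommRing C'] [AddCommGroup M] [AddCommGroup M'] [Module C' M] [Module C' M'] (J : Ideal C')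

/-- A surjection with kernel in `J M` becomes an isomorphism modulo `J`. -/
noncomputable def quotBaseEquiv (f : M →ₗ[C'] M') (hf : Function.Surjective f)
    (hk : LinearMap.ker f ≤ (J • ⊤ : Submodule C' M)) :
    ((C' ⧸ J) ⊗[C'] M) ≃ₗ[C' ⧸ J] ((C' ⧸ J) ⊗[C'] M') := by
  let q : M →ₗ[C'] (C' ⧸ J) ⊗[C'] M := TensorProduct.mk C' (C' ⧸ J) M 1
  have hq : LinearMap.ker f ≤ LinearMap.ker q := by
    refine hk.trans ?_
    refine Submodule.smul_le.2 fun j hj x _ => ?_
    change (1 : C' ⧸ J) ⊗ₜ[C'] (j • x) = 0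
    rw [← TensorProduct.smul_tmul]
    have : j • (1 : C' ⧸ J) = 0 := by
      rw [Algebra.smul_def, mul_one]
      exact Ideal.Quotient.eq_zero_iff_mem.2 hj
    rw [this, TensorProduct.zero_tmul]
  let s : M' →ₗ[C'] (C' ⧸ J) ⊗[C'] M :=
    ((LinearMap.ker f).liftQ q hq).comp (f.quotKerEquivOfSurjective hf).symm.toLinearMap
  have hs : ∀ x, s (f x) = 1 ⊗ₜ x := by
    intro x
    change ((LinearMap.ker f).liftQ q hq) ((f.quotKerEquivOfSurjective hf).symm (f x)) = _
    have h1 : (f.quotKerEquivOfSurjective hf).symm (f x) = (LinearMap.ker f).mkQ x := by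
      rw [LinearEquiv.symm_apply_eq]
      rfl
    rw [h1]
    rfl
  refine LinearEquiv.ofLinearMap (f.baseChange (C' ⧸ J)) (LinearMap.liftBaseChange (C' ⧸ J) s) ?_ ?_
  · ext y
    obtain ⟨x, rfl⟩ := hf y
    simp [hs]
  · ext x
    simp [hs]

end Base

variable {C' R' A₀ : Type u} [CommRing C'] [CommRing R'] [CommRing A₀] [Algebra C' R'] {ρ : R' →+* A₀}
  {m J : Ideal C'}

/-- The quotient modulo `J` only depends on `b ⊔ J R'`. -/
theorem flat_quot_of_sup_eq {b c : Ideal R'} (h : b ⊔ (JR J : Ideal R') = c ⊔ (JR J : Ideal R'))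
    (hb : Module.Flat (C' ⧸ J) ((C' ⧸ J) ⊗[C'] (R' ⧸ b))) : Module.Flat (C' ⧸ J) ((C' ⧸ J) ⊗[C'] (R' ⧸ c)) := by
  have key : ∀ d : Ideal R', Nonempty (((C' ⧸ J) ⊗[C'] (R' ⧸ d)) ≃ₗ[C' ⧸ J] ((C' ⧸ J) ⊗[C'] (R' ⧸ (d ⊔ (JR J : Ideal R'))))) := by
    intro d
    refine ⟨quotBaseEquiv J (Ideal.Quotient.factorₐ C' (le_sup_left : d ≤ d ⊔ (JR J : Ideal R'))).toLinearMap
      (Ideal.Quotient.factor_surjective (le_sup_left : d ≤ d ⊔ (JR J : Ideal R'))) ?_⟩
    intro x hx
    obtain ⟨x, rfl⟩ := Ideal.Quotient.mk_surjective x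
    have hx' : x ∈ d ⊔ (JR J : Ideal R') := Ideal.Quotient.eq_zero_iff_mem.1 hx
    obtain ⟨y, hy, hxy⟩ := exists_sub_mem hx'
    have h1 : Ideal.Quotient.mk d x = Ideal.Quotient.mk d (x - y) := by
      rw [map_sub, Ideal.Quotient.eq_zero_iff_mem.2 hy, sub_zero]
    rw [h1]
    refine JR_induction (P := fun z => Ideal.Quotient.mk d z ∈ (J • ⊤ : Submodule C' (R' ⧸ d))) ?_ ?_ hxy
    · intro x y _ _ hx hy
      rw [map_add]
      exact add_mem hx hy
    · intro j r
      rw [map_mul]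
      have : Ideal.Quotient.mk d (algebraMap C' R' j) * Ideal.Quotient.mk d r = (j : C') • Ideal.Quotient.mk d r := by
        rw [Algebra.smul_def]; rfl
      rw [this]
      exact Submodule.smul_mem_smul j.2 trivial
  obtain ⟨e1⟩ := key b
  obtain ⟨e2⟩ := key c
  rw [← h] at e2
  exact Module.Flat.of_linearEquiv (e2.trans e1.symm)

variable [Module.Flat C' R']

/-- Flatness criterion for quotients of a flat algebra. -/
theorem flat_of_inf_le (c : Ideal R') (hJ : IsNilpotent J) (h1 : c ⊓ (JR J : Ideal R') ≤ (JR J : Ideal R') * c)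
    (h2 : Module.Flat (C' ⧸ J) ((C' ⧸ J) ⊗[C'] (R' ⧸ c))) : Module.Flat C' (R' ⧸ c) := by
  refine Groth.Agent.FlatA.LocalCriterion.flat_of_isNilpotent J hJ ?_ h2
  let ι : c →ₗ[C'] R' := (c.subtype).restrictScalars C'
  let q : R' →ₗ[C'] R' ⧸ c := (Ideal.Quotient.mkₐ C' c).toLinearMap
  have hq : Function.Surjective q := Ideal.Quotient.mk_surjective
  have hnat : ∀ σ : J ⊗[C'] R', mulMap J (R' ⧸ c) (q.lTensor J σ) = q (mulMap J R' σ) := by
    intro σ
    induction σ with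
    | zero => simp
    | tmul a b => simp [mulMap_tmul]
    | add a b ha hb => simp only [map_add, ha, hb]
  have key : ∀ x ∈ (JR J : Ideal R') * c, ∃ σ : J ⊗[C'] c, mulMap J R' (ι.lTensor J σ) = x := by
    intro x hx
    refine Submodule.mul_induction_on hx ?_ ?_
    · intro y hy z hz
      refine JR_induction (P := fun y => ∃ σ : J ⊗[C'] c, mulMap J R' (ι.lTensor J σ) = y * z) ?_ ?_ hy
      · rintro x y _ _ ⟨s, hs⟩ ⟨t, ht⟩
        exact ⟨s + t, by rw [map_add, map_add, hs, ht, add_mul]⟩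
      · intro j r
        refine ⟨j ⊗ₜ ⟨r * z, Ideal.mul_mem_left _ _ hz⟩, ?_⟩
        rw [LinearMap.lTensor_tmul, mulMap_tmul, Algebra.smul_def, mul_assoc]
        rfl
    · rintro x y ⟨s, hs⟩ ⟨t, ht⟩
      exact ⟨s + t, by rw [map_add, map_add, hs, ht]⟩
  have hinj : ∀ t : J ⊗[C'] (R' ⧸ c), mulMap J (R' ⧸ c) t = 0 → t = 0 := by
    intro t ht
    obtain ⟨t, rfl⟩ := LinearMap.lTensor_surjective J hq t
    rw [hnat] at ht
    have hc : mulMap J R' t ∈ c := Ideal.Quotient.eq_zero_iff_mem.1 ht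
    have hJ' : mulMap J R' t ∈ (JR J : Ideal R') := by
      clear ht hc
      induction t with
      | zero => simp
      | tmul j s =>
        rw [mulMap_tmul, Algebra.smul_def]
        exact Ideal.mul_mem_right _ _ (Ideal.mem_map_of_mem _ j.2)
      | add x y hx hy => rw [map_add]; exact add_mem hx hy
    obtain ⟨σ, hσ⟩ := key _ (h1 ⟨hc, hJ'⟩)
    rw [← mulMap_injective J R' hσ, ← LinearMap.comp_apply, ← LinearMap.lTensor_comp]
    have : q ∘ₗ ι = 0 := by
      ext ⟨x, hx⟩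
      exact Ideal.Quotient.eq_zero_iff_mem.2 hx
    rw [this, LinearMap.lTensor_zero, LinearMap.zero_apply]
  rw [injective_iff_map_eq_zero]
  intro t ht
  exact hinj t (by rw [mulMap, LinearMap.comp_apply, ht, map_zero])

section Trans

variable {ι : Type*} [Fintype ι] {e : ι → J} {l : ι → J → A₀}

/-- **Transitivity**: every map `ker ρ → J ⊗ A₀` killing `m R'` is a difference. -/
theorem Good.exists_of_dif {b : Ideal R'} (h : Good ρ m b) (hB : IsBas ρ J e l) (hJm : J ≤ m) (hmJ : m * J = ⊥)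
    (hρ : Function.Surjective ρ) (φ : ι → R' → A₀)
    (hadd : ∀ t x y, x ∈ RingHom.ker ρ → y ∈ RingHom.ker ρ → φ t (x + y) = φ t x + φ t y)
    (hmul : ∀ t r x, x ∈ RingHom.ker ρ → φ t (r * x) = ρ r * φ t x)
    (hzero : ∀ t, ∀ x ∈ (JR m : Ideal R'), φ t x = 0) :
    ∃ c : Ideal R', Two ρ m J c b ∧ ∀ t, ∀ f ∈ RingHom.ker ρ, dif ρ m J (l t) c b f = φ t f := by
  have hle : (JR J : Ideal R') ≤ JR m := Ideal.map_mono hJm
  let c : Ideal R' :=
    { carrier := {y | ∃ x ∈ b, y - x ∈ (JR J : Ideal R') ∧ ∀ t, Lam ρ J (l t) (y - x) = φ t x}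
      add_mem' := by
        rintro y y' ⟨x, hx, h1, h2⟩ ⟨x', hx', h1', h2'⟩
        refine ⟨x + x', add_mem hx hx', by rw [add_sub_add_comm]; exact add_mem h1 h1', fun t => ?_⟩
        rw [add_sub_add_comm, Lam_add (hB.lin t) h1 h1', h2, h2', hadd t _ _ (h.le hx) (h.le hx')]
      zero_mem' := ⟨0, zero_mem _, by simp, fun t => by
        rw [sub_zero, Lam_zero (hB.lin t), hzero t 0 (zero_mem _)]⟩
      smul_mem' := by
        rintro r y ⟨x, hx, h1, h2⟩
        refine ⟨r * x, Ideal.mul_mem_left _ _ hx, by rw [smul_eq_mul, ← mul_sub]; exact Ideal.mul_mem_left _ _ h1,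
          fun t => ?_⟩
        rw [smul_eq_mul, ← mul_sub, Lam_mul (hB.lin t) r h1, h2, hmul t _ _ (h.le hx)] }
  have hmem : ∀ y, y ∈ c ↔ ∃ x ∈ b, y - x ∈ (JR J : Ideal R') ∧ ∀ t, Lam ρ J (l t) (y - x) = φ t x := fun y => Iff.rfl
  have hsup : c ⊔ (JR J : Ideal R') = b ⊔ (JR J : Ideal R') := by
    apply le_antisymm
    · refine sup_le ?_ le_sup_right
      rintro y ⟨x, hx, h1, -⟩
      rw [← add_sub_cancel x y]
      exact add_mem (Submodule.mem_sup_left hx) (Submodule.mem_sup_right h1)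
    · refine sup_le ?_ le_sup_right
      intro x hx
      obtain ⟨z, hz, hz'⟩ := hB.exists_Lam_eq hρ (fun t => φ t x)
      have h1 : x + z ∈ c := ⟨x, hx, by rwa [add_sub_cancel_left], fun t => by rw [add_sub_cancel_left, hz']⟩
      rw [← add_sub_cancel_right x z]
      exact sub_mem (Submodule.mem_sup_left h1) (Submodule.mem_sup_right hz)
  have hsupm : c ⊔ (JR m : Ideal R') = RingHom.ker ρ := by
    rw [← h.sup, ← sup_eq_right.2 hle, ← sup_assoc, ← sup_assoc, hsup]
  have hflat : Module.Flat C' (R' ⧸ c) := by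
    refine flat_of_inf_le (J := J) c ⟨2, ?_⟩ ?_ ?_
    · rw [pow_two]
      exact le_bot_iff.1 ((Ideal.mul_mono_left hJm).trans hmJ.le)
    · rintro y ⟨⟨x, hx, h1, h2⟩, hy⟩
      have hxJ : x ∈ (JR J : Ideal R') := by
        have := sub_mem hy h1
        rwa [sub_sub_cancel] at this
      have h3 : ∀ t, Lam ρ J (l t) y = 0 := by
        intro t
        have h4 := h2 t
        rw [Lam_sub (hB.lin t) hy hxJ, h.Lam_eq_zero (hB.lin t) hx hxJ, sub_zero, hzero t x (hle hxJ)] at h4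
        exact h4
      have h5 := hB.mem_mul_ker hy h3
      rw [← hsupm, Ideal.mul_sup, ← Ideal.map_mul, mul_comm J m, hmJ, Ideal.map_bot, sup_bot_eq] at h5
      exact h5
    · refine flat_quot_of_sup_eq hsup.symm ?_
      have := h.flat
      infer_instance
  have htwo : Two ρ m J c b := ⟨⟨hflat, hsupm⟩, h, hsup⟩
  refine ⟨c, htwo, fun t f hf => ?_⟩
  have hf' := hf
  rw [← h.sup] at hf'
  obtain ⟨x, hx, hfx⟩ := exists_sub_mem hf'
  obtain ⟨z, hz, hz'⟩ := hB.exists_Lam_eq hρ (fun t => φ t x)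
  have h1 : x + z ∈ c := ⟨x, hx, by rwa [add_sub_cancel_left], fun t => by rw [add_sub_cancel_left, hz']⟩
  have h2 : IsPair m J c b f (x + z) x := ⟨h1, hx, by
    rw [← sub_sub]; exact sub_mem hfx (hle hz), by rwa [add_sub_cancel_left]⟩
  rw [htwo.dif_eq hmJ (hB.lin t) h2, add_sub_cancel_left, hz']
  have h3 : f = x + (f - x) := by ring
  conv_rhs => rw [h3]
  rw [hadd t x (f - x) (h.le hx) (sub_mem hf (h.le hx)), hzero t _ hfx, add_zero]

end Trans

end K693.LHAlg
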