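import Groth.Agent.CohqB.HomSheaf
import Mathlib.AlgebraicGeometry.Morphisms.ClosedImmersion

/-!
# Sections of the internal Hom from a basis of opens

* `exists_sec`: a section over `U` of `homSheaf M N` from a family of linear maps `Γ(M, V a) → Γ(N, V a)` for a family
  `V a ≤ U` of opens which is a basis of `U`, compatible locally.
* `exists_sec_preimage`, `sec_ext_preimage`: for a closed immersion `i : Y ⟶ X`, the basis `i⁻¹ W`, `W ≤ U` affine.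
-/

set_option autoImplicit false

universe u

open CategoryTheory AlgebraicGeometry Opposite TopologicalSpace

namespace K693.ModSec

open Groth.Agent.CohqB.HomSheaf

variable {X : Scheme.{u}}

/-- Restriction of sections. -/
noncomputable abbrev rs (N : X.Modules) {V W : X.Opens} (h : W ≤ V) (s : Γ(N, V)) : Γ(N, W) := N.presheaf.map (homOfLE h).op s

theorem rs_rs (N : X.Modules) {U V W : X.Opens} (h : V ≤ U) (h' : W ≤ V) (s : Γ(N, U)) :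
    rs N h' (rs N h s) = rs N (h'.trans h) s := res_res N h h' s

theorem rs_self (N : X.Modules) {U : X.Opens} (s : Γ(N, U)) : rs N le_rfl s = s := res_self N le_rfl s

theorem rs_add (N : X.Modules) {U V : X.Opens} (h : V ≤ U) (s t : Γ(N, U)) : rs N h (s + t) = rs N h s + rs N h t :=
  map_add _ _ _

theorem rs_smul (N : X.Modules) {U V : X.Opens} (h : V ≤ U) (r : Γ(X, U)) (s : Γ(N, U)) :
    rs N h (r • s) = X.presheaf.map (homOfLE h).op r • rs N h s := Scheme.Modules.map_smul N (homOfLE h) r s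

/-- Two sections agreeing near every point are equal. -/
theorem ext_of_mem (N : X.Modules) {V : X.Opens} {s t : Γ(N, V)}
    (h : ∀ x ∈ V, ∃ (W : X.Opens) (hW : W ≤ V), x ∈ W ∧ rs N hW s = rs N hW t) : s = t := by
  choose! W hW hx he using h
  refine eq_of_locally N (fun x : V => W x) V (fun x hx' => ?_) (fun x => hW x x.2) s t fun x => he x x.2
  exact Opens.mem_iSup.2 ⟨⟨x, hx'⟩, hx x hx'⟩

section Basis

variable (M N : X.Modules) {U : X.Opens} {κ : Type*} (V : κ → X.Opens)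

theorem exists_sec (hVU : ∀ a, V a ≤ U) (hB : ∀ W ≤ U, ∀ x ∈ W, ∃ a, x ∈ V a ∧ V a ≤ W)
    (φ : ∀ a, Γ(M, V a) → Γ(N, V a)) (hadd : ∀ a m m', φ a (m + m') = φ a m + φ a m')
    (hsmul : ∀ a (r : Γ(X, V a)) m, φ a (r • m) = r • φ a m)
    (hC : ∀ a b, ∀ x ∈ V a ⊓ V b, ∃ c, x ∈ V c ∧ ∃ (h1 : V c ≤ V a) (h2 : V c ≤ V b),
      (∀ m, φ c (rs M h1 m) = rs N h1 (φ a m)) ∧ ∀ m, φ c (rs M h2 m) = rs N h2 (φ b m)) :
    ∃ s : Γ(homSheaf M N, U), ∀ a m, comp s (V a) (hVU a) m = φ a m := by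
  have key : ∀ (W : X.Opens) (_ : W ≤ U) (m : Γ(M, W)), ∃ t : Γ(N, W), ∀ (a) (h : V a ≤ W), rs N h t = φ a (rs M h m) := by
    intro W hW m
    obtain ⟨t, ht⟩ := exists_glue N (fun a : {a // V a ≤ W} => V a.1) W (fun x hx => by
      obtain ⟨a, ha, ha'⟩ := hB W hW x hx
      exact Opens.mem_iSup.2 ⟨⟨a, ha'⟩, ha⟩) (fun a => a.2) (fun a => φ a.1 (rs M a.2 m)) (by
      rintro ⟨a, ha⟩ ⟨b, hb⟩ Z ha' hb'
      refine ext_of_mem N fun x hx => ?_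
      obtain ⟨c, hc, h1, h2, h3, h4⟩ := hC a b x ⟨ha' hx, hb' hx⟩
      refine ⟨Z ⊓ V c, inf_le_left, ⟨hx, hc⟩, ?_⟩
      have e1 := h3 (rs M ha m)
      have e2 := h4 (rs M hb m)
      rw [rs_rs] at e1 e2
      have e3 : rs N h1 (φ a (rs M ha m)) = rs N h2 (φ b (rs M hb m)) := by rw [← e1, ← e2]
      have e4 := congrArg (rs N (inf_le_right : Z ⊓ V c ≤ V c)) e3
      rw [rs_rs, rs_rs] at e4
      rw [rs_rs, rs_rs]
      exact e4)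
    exact ⟨t, fun a h => ht ⟨a, h⟩⟩
  choose t ht using key
  have hext : ∀ (W : X.Opens) (_ : W ≤ U) (s s' : Γ(N, W)), (∀ (a) (h : V a ≤ W), rs N h s = rs N h s') → s = s' := by
    intro W hW s s' h
    refine ext_of_mem N fun x hx => ?_
    obtain ⟨a, ha, ha'⟩ := hB W hW x hx
    exact ⟨V a, ha', ha, h a ha'⟩
  refine ⟨mkSec (fun W hW =>
    { toFun := t W hW
      map_add' := fun m m' => ?_
      map_smul' := fun r m => ?_ }) ?_, ?_⟩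
  · refine hext W hW _ _ fun a h => ?_
    rw [ht, rs_add, hadd, rs_add, ht, ht]
  · refine hext W hW _ _ fun a h => ?_
    rw [ht, rs_smul, hsmul, RingHom.id_apply, rs_smul, ht]
  · intro W W' hW hW' m
    refine hext W' (hW'.trans hW) _ _ fun a h => ?_
    change rs N h (t W' _ (rs M hW' m)) = rs N h (rs N hW' (t W hW m))
    rw [ht, rs_rs, rs_rs, ht]
  · intro a m
    rw [comp_mkSec]
    change t (V a) (hVU a) m = φ a m
    have := ht (V a) (hVU a) m a le_rfl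
    rwa [rs_self, rs_self] at this

theorem sec_ext_basis (hVU : ∀ a, V a ≤ U) (hB : ∀ W ≤ U, ∀ x ∈ W, ∃ a, x ∈ V a ∧ V a ≤ W)
    {s s' : Γ(homSheaf M N, U)} (h : ∀ a m, comp s (V a) (hVU a) m = comp s' (V a) (hVU a) m) : s = s' := by
  refine sec_ext fun W hW m => ?_
  refine ext_of_mem N fun x hx => ?_
  obtain ⟨a, ha, ha'⟩ := hB W hW x hx
  refine ⟨V a, ha', ha, ?_⟩
  rw [rs, rs, ← comp_map, ← comp_map, h]

end Basis

section Preimage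

/-- The affine opens `W` of `X` with `i⁻¹ W ≤ V`. -/
abbrev AffIn {Y : Scheme.{u}} (i : Y ⟶ X) (V : Y.Opens) : Type u := {W : X.affineOpens // i ⁻¹ᵁ W.1 ≤ V}

/-- Change of the open. -/
abbrev AffIn.up {Y : Scheme.{u}} {i : Y ⟶ X} {V V' : Y.Opens} (h : V' ≤ V) (a : AffIn i V') :
    AffIn i V := ⟨a.1, a.2.trans h⟩

variable {Y Z : Scheme.{u}} (i : Z ⟶ Y) (j : Y ⟶ X) {F G : Z.Modules}

variable [IsClosedImmersion i] [IsClosedImmersion j] {V : Y.Opens}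

theorem exists_open (V : Y.Opens) : ∃ T : X.Opens, j ⁻¹ᵁ T = V := by
  obtain ⟨T', hT', h⟩ := j.isClosedEmbedding.isInducing.isOpen_iff.1 V.2
  exact ⟨⟨T', hT'⟩, Opens.ext h⟩

theorem basis_preimage {V : Z.Opens} {y : Z} (hy : y ∈ V) {T : X.Opens} (hT : j (i y) ∈ T) :
    ∃ W : X.affineOpens, W.1 ≤ T ∧ y ∈ i ⁻¹ᵁ j ⁻¹ᵁ W.1 ∧ i ⁻¹ᵁ j ⁻¹ᵁ W.1 ≤ V := by
  obtain ⟨V', rfl⟩ := exists_open i V
  obtain ⟨T', rfl⟩ := exists_open j V'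
  have hy' : j (i y) ∈ T' ⊓ T := ⟨hy, hT⟩
  obtain ⟨W, hW, hyW, hWT⟩ := exists_isAffineOpen_mem_and_subset hy'
  exact ⟨⟨W, hW⟩, fun x hx => (hWT hx).2, hyW, fun x hx => (hWT hx).1⟩

theorem hB_preimage (V : Y.Opens) {T : X.Opens} (hT : i ⁻¹ᵁ V ≤ i ⁻¹ᵁ j ⁻¹ᵁ T) (W : Z.Opens) (hW : W ≤ i ⁻¹ᵁ V)
    (x : Z) (hx : x ∈ W) :
    ∃ a : AffIn j V, a.1.1 ≤ T ∧ x ∈ i ⁻¹ᵁ j ⁻¹ᵁ a.1.1 ∧ i ⁻¹ᵁ j ⁻¹ᵁ a.1.1 ≤ W := by
  obtain ⟨T', rfl⟩ := exists_open j V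
  obtain ⟨Z, h1, h2, h3⟩ := basis_preimage i j hx (T := T' ⊓ T) ⟨hW hx, hT (hW hx)⟩
  exact ⟨⟨Z, j.preimage_mono (h1.trans inf_le_left)⟩, h1.trans inf_le_right, h2, h3⟩

/-- A section of `homSheaf F G` over `i⁻¹ V` from a family of linear maps over `i⁻¹ j⁻¹ W`, `W` affine, `j⁻¹ W ≤ V`. -/
theorem exists_sec_preimage (φ : ∀ a : AffIn j V, Γ(F, i ⁻¹ᵁ j ⁻¹ᵁ a.1.1) → Γ(G, i ⁻¹ᵁ j ⁻¹ᵁ a.1.1))
    (hadd : ∀ a m m', φ a (m + m') = φ a m + φ a m')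
    (hsmul : ∀ a (r : Γ(Z, i ⁻¹ᵁ j ⁻¹ᵁ a.1.1)) m, φ a (r • m) = r • φ a m)
    (hres : ∀ (a b : AffIn j V) (h : b.1.1 ≤ a.1.1) m,
      φ b (rs F (i.preimage_mono (j.preimage_mono h)) m) = rs G (i.preimage_mono (j.preimage_mono h)) (φ a m)) :
    ∃ s : Γ(homSheaf F G, i ⁻¹ᵁ V), ∀ (a : AffIn j V) m,
      comp s (i ⁻¹ᵁ j ⁻¹ᵁ a.1.1) (i.preimage_mono a.2) m = φ a m := by
  refine exists_sec F G (fun a : AffIn j V => i ⁻¹ᵁ j ⁻¹ᵁ a.1.1) (fun a => i.preimage_mono a.2) (fun W hW x hx => by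
    obtain ⟨a, -, h1, h2⟩ := hB_preimage i j V (T := ⊤) le_top W hW x hx
    exact ⟨a, h1, h2⟩) φ hadd hsmul ?_
  rintro ⟨a, ha⟩ ⟨b, hb⟩ x ⟨hxa, hxb⟩
  obtain ⟨W, h1, h2, -⟩ := basis_preimage i j (V := ⊤) (y := x) trivial (T := a.1 ⊓ b.1) ⟨hxa, hxb⟩
  have h3 : j ⁻¹ᵁ W.1 ≤ j ⁻¹ᵁ a.1 := j.preimage_mono (h1.trans inf_le_left)
  exact ⟨⟨W, h3.trans ha⟩, h2, i.preimage_mono h3,
    i.preimage_mono (j.preimage_mono (h1.trans inf_le_right)), hres ⟨a, ha⟩ ⟨W, _⟩ (h1.trans inf_le_left),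
    hres ⟨b, hb⟩ ⟨W, _⟩ (h1.trans inf_le_right)⟩

theorem sec_ext_preimage' {T : X.Opens} (hT : i ⁻¹ᵁ V ≤ i ⁻¹ᵁ j ⁻¹ᵁ T) {s s' : Γ(homSheaf F G, i ⁻¹ᵁ V)}
    (h : ∀ (a : AffIn j V) (_ : a.1.1 ≤ T) m, comp s (i ⁻¹ᵁ j ⁻¹ᵁ a.1.1) (i.preimage_mono a.2) m =
      comp s' (i ⁻¹ᵁ j ⁻¹ᵁ a.1.1) (i.preimage_mono a.2) m) :
    s = s' :=
  sec_ext_basis F G (fun a : {a : AffIn j V // a.1.1 ≤ T} => i ⁻¹ᵁ j ⁻¹ᵁ a.1.1.1) (fun a => i.preimage_mono a.1.2)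
    (fun W hW x hx => by
      obtain ⟨a, h0, h1, h2⟩ := hB_preimage i j V hT W hW x hx
      exact ⟨⟨a, h0⟩, h1, h2⟩) (fun a m => h a.1 a.2 m)

end Preimage

end K693.ModSec
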